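import Cfsg.Agent.Lib.SolvClass.Main
import Cfsg.Agent.Lib.BaseSize.Three

/-!
# Abelian subgroups of small index in soluble irreducible linear groups

A soluble irreducible linear group of degree `r` has an abelian subgroup of index at most
`8 ^ r / 3`.
-/

set_option autoImplicit false
set_option linter.style.haveILetI false
set_option linter.unusedSectionVars false

namespace Cfsg.Agent.Lib.SolvClass

open Module

/-- An irreducible soluble group of automorphisms has order at most the cube of the module. -/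
theorem card_le_cube {q : ℕ} [Fact q.Prime] {W : Type} [AddCommGroup W] [Module (ZMod q) W]
    [Finite W] (G : Subgroup (W ≃ₗ[ZMod q] W)) (hsol : Group.IsSolvable G) (hirr : Irr G) :
    Nat.card G ≤ Nat.card W ^ 3 := by
  haveI := finite_GL (L := ZMod q) (V := W)
  haveI : FaithfulSMul G W := ⟨fun h => Subtype.ext (LinearEquiv.ext h)⟩
  have hcr : ∀ U : AddSubgroup W, (∀ a : G, ∀ v ∈ U, a • v ∈ U) → ∃ U' : AddSubgroup W,
      (∀ a : G, ∀ w ∈ U', a • w ∈ U') ∧ U ⊓ U' = ⊥ ∧ U ⊔ U' = ⊤ := by
    intro U hU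
    rcases hirr.2 (AddSubgroup.toZModSubmodule q U) (fun g hg w hw => hU ⟨g, hg⟩ w hw) with h | h
    · have hbot : U = ⊥ := (map_eq_bot_iff (AddSubgroup.toZModSubmodule q)).1 h
      exact ⟨⊤, fun _ _ _ => trivial, by simp [hbot], by simp [hbot]⟩
    · have htop : U = ⊤ := (map_eq_top_iff (AddSubgroup.toZModSubmodule q)).1 h
      exact ⟨⊥, fun a w hw => by simp [AddSubgroup.mem_bot.1 hw], by simp [htop], by simp [htop]⟩
  obtain ⟨t, ht⟩ := BaseSize.three_of_cr hsol hcr
  have hinj : Function.Injective (fun g : G => (fun i => g • t i : Fin 3 → W)) := by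
    intro a b hab
    have h1 : ∀ i, (b⁻¹ * a) • t i = t i := fun i => by
      rw [mul_smul, show a • t i = b • t i from congrFun hab i, inv_smul_smul]
    have h2 : b⁻¹ * a = 1 := FaithfulSMul.eq_of_smul_eq_smul fun x : W => by
      rw [ht _ h1 x, one_smul]
    exact (inv_mul_eq_one.1 h2).symm
  refine (Nat.card_le_card_of_injective _ hinj).trans_eq ?_
  simp [Nat.card_fun]

section gl

variable {L : Type*} [Field L] [Finite L] {V : Type*} [AddCommGroup V] [Module L V] [Finite V]

/-- The order of the general linear group of a plane. -/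
theorem card_GL_two (h : finrank L V = 2) :
    Nat.card (V ≃ₗ[L] V) ≤ (Nat.card L ^ 2 - 1) * (Nat.card L ^ 2 - Nat.card L) := by
  classical
  haveI : Module.Finite L V := Module.Finite.of_finite
  haveI := Fintype.ofFinite L
  haveI := Fintype.ofFinite V
  let b : Basis (Fin 2) L V := Module.finBasisOfFinrankEq L V h
  have hmem : ∀ f : V ≃ₗ[L] V, f (b 1) ∉ Submodule.span L {f (b 0)} := by
    intro f hf
    obtain ⟨c, hc⟩ := Submodule.mem_span_singleton.1 hf
    rw [← map_smul] at hc
    have := congrArg (fun v => b.repr v 1) (f.injective hc)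
    simp at this
  let φ : (V ≃ₗ[L] V) → (Σ v : {v : V // v ≠ 0},
      {w : V // w ∉ Submodule.span L {(v : V)}}) := fun f =>
    ⟨⟨f (b 0), fun h => b.ne_zero 0 (f.injective (h.trans f.map_zero.symm))⟩, ⟨f (b 1), hmem f⟩⟩
  have hφ : Function.Injective φ := by
    intro f g hfg
    have h0 : f (b 0) = g (b 0) := congrArg (fun x => (x.1 : V)) hfg
    have h1 : f (b 1) = g (b 1) := congrArg (fun x => (x.2 : V)) hfg
    refine LinearEquiv.toLinearMap_injective (b.ext fun i => ?_)
    fin_cases i
    · exact h0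
    · exact h1
  have hV : Nat.card V = Nat.card L ^ 2 := by
    rw [Module.natCard_eq_pow_finrank (K := L), h]
  have hfib : ∀ v : {v : V // v ≠ 0},
      Nat.card {w : V // w ∉ Submodule.span L {(v : V)}} = Nat.card L ^ 2 - Nat.card L := by
    intro v
    have hs : Nat.card (Submodule.span L {(v : V)}) = Nat.card L := by
      rw [Module.natCard_eq_pow_finrank (K := L), finrank_span_singleton v.2, pow_one]
    have := Fintype.card_subtype_compl (fun w : V => w ∈ Submodule.span L {(v : V)})
    rw [← Nat.card_eq_fintype_card, ← Nat.card_eq_fintype_card, ← Nat.card_eq_fintype_card] at this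
    rw [this, hV, ← hs]
  refine (Nat.card_le_card_of_injective φ hφ).trans_eq ?_
  rw [Nat.card_sigma, Finset.sum_congr rfl fun v _ => hfib v, Finset.sum_const, smul_eq_mul,
    Finset.card_univ, ← Nat.card_eq_fintype_card]
  congr 1
  have := Fintype.card_subtype_compl (fun w : V => w = 0)
  rw [← Nat.card_eq_fintype_card, ← Nat.card_eq_fintype_card, ← Nat.card_eq_fintype_card] at this
  rw [← hV]
  refine this.trans ?_
  congr 1
  exact Nat.card_eq_one_iff_unique.2
    ⟨⟨fun x y => Subtype.ext (x.2.trans y.2.symm)⟩, ⟨⟨0, rfl⟩⟩⟩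

end gl

/-- Soluble irreducible subgroups of `GL(4, 2)` are small. -/
theorem card_four_two {L : Type} [Field L] [Finite L] {V : Type} [AddCommGroup V] [Module L V]
    [Finite V] (hL : Nat.card L = 2) (hr : finrank L V = 4) (G : Subgroup (V ≃ₗ[L] V))
    (hsol : Group.IsSolvable G) (hirr : Irr G) : Nat.card G ≤ 72 := by
  classical
  haveI := finite_GL (L := L) (V := V)
  haveI := hirr.1
  haveI := hsol
  haveI : Fact (Nat.Prime 2) := ⟨Nat.prime_two⟩
  haveI : CharP L 2 := by
    letI := Fintype.ofFinite L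
    obtain ⟨n, hn, hcard⟩ := FiniteField.card L (ringChar L)
    rw [← Nat.card_eq_fintype_card, hL] at hcard
    have h2 : ringChar L = 2 := (Nat.prime_dvd_prime_iff_eq hn Nat.prime_two).1
      (hcard ▸ dvd_pow_self _ n.ne_zero)
    exact h2 ▸ ringChar.charP L
  by_cases hprim : Prim G
  · rcases subsingleton_or_nontrivial G with hss | hnt
    · have : Nat.card G = 1 := Nat.card_eq_one_iff_unique.2 ⟨hss, ⟨1⟩⟩
      omega
    obtain ⟨F⟩ := exists_frame (G := G) hsol
    haveI := F.A_normal
    haveI := F.E_normal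
    obtain ⟨s, u, hs, hu, hdim, hidx, hAlt, -, hhom, hsq⟩ :=
      exists_field G hirr hprim F.A F.A_normal F.A_comm
    rw [hr] at hdim
    rw [hL] at hAlt
    have hA1 : 1 < Nat.card F.A := (Subgroup.one_lt_card_iff_ne_bot _).2 (F.A_ne hnt)
    have hA2 : Nat.card F.A ≠ 2 := fun h => by
      refine F.A_ne hnt (eq_bot_of_isPGroup 2 hirr F.A ?_)
      exact IsPGroup.of_card (n := 1) (by rw [h, pow_one])
    have hEle : F.A.relIndex F.E ≤ u ^ 2 :=
      hsq F.E F.A_le F.E_le (fun x hx y hy => F.E_comm y hy x hx) F.E_nondeg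
    have hEA : F.E = F.A := by
      by_contra hne
      obtain ⟨B, q, e, _, _, -, hP⟩ :=
        exists_piece (G := G) hhom (X := F.E) (hXE := le_rfl)
          (hX := lt_of_le_of_ne F.A_le (Ne.symm hne))
      haveI := F.E_normal
      have h1 : q ^ (2 * e) ≤ u ^ 2 := hP.relIndex ▸
        (Subgroup.relIndex_le_of_le_right hP.le Subgroup.index_ne_zero_of_finite).trans hEle
      have hqu : q ^ e ≤ u := (Nat.pow_le_pow_iff_left two_ne_zero).1
        (by rwa [← pow_mul, mul_comm])
      have hq := hP.prime.two_le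
      have hq1 : q ≤ u := (Nat.le_self_pow hP.epos.ne' q).trans hqu
      have hs4 : s ≤ 4 := Nat.le_of_dvd (by norm_num) ⟨u, hdim⟩
      have hA4 : Nat.card F.A ≤ 3 := by
        interval_cases s
        · omega
        · omega
        · omega
        · omega
      have hA3 : Nat.card F.A = 3 := by omega
      have hq3 : q = 3 := (Nat.prime_dvd_prime_iff_eq hP.prime Nat.prime_three).1 (hA3 ▸ hP.dvd)
      interval_cases s <;> omega
    have hCA : Subgroup.centralizer (F.A : Set G) ≤ F.A := fun x hx =>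
      F.cent_le ⟨hx, by rw [hEA]; exact hx⟩
    have hAidx : F.A.index ≤ s := by
      refine le_trans (le_of_eq (congrArg Subgroup.index (le_antisymm ?_ hCA))) hidx
      exact fun a ha => Subgroup.mem_centralizer_iff.2 fun b hb => F.A_comm b hb a ha
    have hs4 : s ≤ 4 := Nat.le_of_dvd (by norm_num) ⟨u, hdim⟩
    have h16 : 2 ^ s ≤ 16 := (Nat.pow_le_pow_right (by norm_num) hs4).trans (by norm_num)
    rw [← F.A.card_mul_index]
    exact (Nat.mul_le_mul (show Nat.card F.A ≤ 16 by omega) (hAidx.trans hs4)).trans (by norm_num)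
  · obtain ⟨t, m, D, π, φ, ht, hm, hdim, hrk, hmem, -, hφ, -⟩ := exists_blocks hirr hprim
    rw [hr] at hdim
    have hinv : ∀ (i : Fin t) (g : π.ker), ∀ w ∈ D i, ((g : G) : V ≃ₗ[L] V) w ∈ D i :=
      fun i g w hw => by simpa [MonoidHom.mem_ker.1 g.2] using hmem (g : G) i w hw
    let σ := fun i : Fin t => subRep (G.subtype.comp π.ker.subtype) (D i) (hinv i)
    haveI : ∀ i, Finite (D i ≃ₗ[L] D i) := fun i => finite_GL
    have hker : Nat.card π.ker ≤ ∏ i, Nat.card (D i ≃ₗ[L] D i) := by
      rw [← Nat.card_pi]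
      refine Nat.card_le_card_of_injective (fun g i => σ i g) fun a b hab => ?_
      refine Subtype.ext (Subtype.ext (LinearEquiv.ext fun v => φ.injective (funext fun i =>
        Subtype.ext ?_)))
      rw [hφ (a : G) a.2, hφ (b : G) b.2]
      exact congrArg Subtype.val (LinearEquiv.congr_fun (congrFun hab i) (φ v i))
    have hπ : Nat.card π.range * 3 ≤ 3 ^ t := by
      haveI : Nonempty (Fin t) := ⟨⟨0, by omega⟩⟩
      have := Perm.card_mul_three_le π.range
        (Group.isSolvable_of_surjective π.rangeRestrict_surjective)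
      rwa [Nat.card_eq_fintype_card (α := Fin t), Fintype.card_fin] at this
    have hG : Nat.card G = Nat.card π.ker * Nat.card π.range := by
      rw [← π.ker.card_mul_index, Subgroup.index_ker]
    have hm2 : m = 1 ∨ m = 2 := by
      have : m ≤ 2 := by nlinarith
      omega
    rcases hm2 with rfl | rfl
    · have h1 : ∀ i, Nat.card (D i ≃ₗ[L] D i) ≤ 1 := fun i => by
        have hsub : Subsingleton (D i ≃ₗ[L] D i) := ⟨fun f g => by
          refine LinearEquiv.ext fun v => ?_
          by_cases hv : v = 0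
          · simp [hv]
          haveI : Module.Finite L (D i) := Module.Finite.of_finite
          have hc : Nat.card (D i) = 2 := by
            rw [Module.natCard_eq_pow_finrank (K := L), hrk, hL, pow_one]
          obtain ⟨x, -, hx⟩ := Nat.card_eq_two_iff' (0 : D i) |>.1 hc
          rw [hx (f v) (f.map_ne_zero_iff.2 hv), hx (g v) (g.map_ne_zero_iff.2 hv)]⟩
        exact (Nat.card_eq_one_iff_unique.2 ⟨hsub, ⟨1⟩⟩).le
      have h2 : Nat.card π.ker ≤ 1 :=
        hker.trans (Finset.prod_le_one' fun i _ => h1 i)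
      obtain rfl : t = 4 := by omega
      rw [show (3 : ℕ) ^ 4 = 81 by norm_num] at hπ
      rw [hG]
      exact (Nat.mul_le_mul h2 (show Nat.card π.range ≤ 27 by omega)).trans (by norm_num)
    · have h1 : ∀ i, Nat.card (D i ≃ₗ[L] D i) ≤ 6 := fun i =>
        (card_GL_two (hrk i)).trans (by rw [hL]; norm_num)
      obtain rfl : t = 2 := by omega
      have h2 : Nat.card π.ker ≤ 36 := hker.trans (by
        rw [Fin.prod_univ_two]; exact Nat.mul_le_mul (h1 0) (h1 1))
      have hπ2 : Nat.card π.range ≤ 2 := (Subgroup.card_le_card_group _).trans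
        (by rw [Nat.card_eq_fintype_card, Fintype.card_perm, Fintype.card_fin]; norm_num)
      rw [hG]
      exact (Nat.mul_le_mul h2 hπ2).trans (by norm_num)

theorem pow_seven_le (u : ℕ) (hu : 8 ≤ u) : 3 * u ^ 7 ≤ 8 ^ u := by
  induction u, hu using Nat.le_induction with
  | base => norm_num
  | succ u hu ih =>
    have h : 8 * (u + 1) ≤ 9 * u := by omega
    have h7 : (u + 1) ^ 7 * 8 ^ 7 ≤ u ^ 7 * 9 ^ 7 := by
      rw [← mul_pow, ← mul_pow]
      exact Nat.pow_le_pow_left (by omega) _
    rw [pow_succ 8 u]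
    omega

theorem pow_five_le (q : ℕ) (hq : 5 ≤ q) : 3 * q ^ 5 ≤ 8 ^ q := by
  induction q, hq using Nat.le_induction with
  | base => norm_num
  | succ q hq ih =>
    have h7 : (q + 1) ^ 5 * 5 ^ 5 ≤ q ^ 5 * 6 ^ 5 := by
      rw [← mul_pow, ← mul_pow]
      exact Nat.pow_le_pow_left (by omega) _
    rw [pow_succ 8 q]
    omega

/-- The order of a soluble irreducible action on a piece of the layer. -/
theorem action_order_bound {q e : ℕ} [Fact q.Prime] (he : 0 < e)
    {W : Type} [AddCommGroup W] [Module (ZMod q) W] [Finite W] (hcard : Nat.card W = q ^ (2 * e))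
    (T : Subgroup (W ≃ₗ[ZMod q] W)) (hsol : Group.IsSolvable T) (hirr : Irr T) :
    3 * (q ^ e * Nat.card T) ≤ 8 ^ q ^ e := by
  have hq : q.Prime := Fact.out
  haveI : Module.Finite (ZMod q) W := Module.Finite.of_finite
  haveI := finite_GL (L := ZMod q) (V := W)
  have hdim : finrank (ZMod q) W = 2 * e := by
    have := Module.natCard_eq_pow_finrank (K := ZMod q) (V := W)
    rw [hcard, Nat.card_zmod] at this
    exact (Nat.pow_right_injective hq.two_le this).symm
  by_cases he1 : e = 1
  · subst he1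
    have hT : Nat.card T ≤ (q ^ 2 - 1) * (q ^ 2 - q) := by
      have := card_GL_two (hdim.trans (mul_one 2))
      rw [Nat.card_zmod] at this
      exact T.card_le_card_group.trans this
    rw [pow_one]
    rcases Nat.lt_or_ge q 5 with h5 | h5
    · have := hq.two_le
      refine le_trans (Nat.mul_le_mul_left _ (Nat.mul_le_mul_left _ hT)) ?_
      interval_cases q <;> norm_num
    · refine le_trans ?_ (pow_five_le q h5)
      refine Nat.mul_le_mul_left _ ?_
      calc q * Nat.card T ≤ q * (q ^ 2 * q ^ 2) :=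
            Nat.mul_le_mul_left _ (hT.trans (Nat.mul_le_mul (Nat.sub_le _ _) (Nat.sub_le _ _)))
        _ = q ^ 5 := by ring
  by_cases h22 : q = 2 ∧ e = 2
  · obtain ⟨rfl, rfl⟩ := h22
    have := card_four_two (Nat.card_zmod 2) hdim T hsol hirr
    refine le_trans (Nat.mul_le_mul_left _ (Nat.mul_le_mul_left _ this)) ?_
    norm_num
  · have hu : 8 ≤ q ^ e := by
      rcases hq.eq_two_or_odd with rfl | hodd
      · exact (Nat.pow_le_pow_right (by norm_num) (show 3 ≤ e by omega)).trans' (by norm_num)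
      · have h3 : 3 ≤ q := by have := hq.two_le; omega
        calc (8 : ℕ) ≤ 3 ^ 2 := by norm_num
          _ ≤ 3 ^ e := Nat.pow_le_pow_right (by norm_num) (by omega)
          _ ≤ q ^ e := Nat.pow_le_pow_left h3 e
    refine le_trans (Nat.mul_le_mul_left _ ?_) (pow_seven_le _ hu)
    calc q ^ e * Nat.card T ≤ q ^ e * Nat.card W ^ 3 :=
          Nat.mul_le_mul_left _ (card_le_cube T hsol hirr)
      _ = (q ^ e) ^ 7 := by rw [hcard]; ring

/-- The index of the centraliser of a piece of the layer. -/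
theorem piece_index_bound {G : Type} [Group G] [Finite G] [Group.IsSolvable G] {F : Frame G}
    [F.A.Normal] (B : Subgroup G) [B.Normal] (q e : ℕ) (hP : Piece F B q e) :
    3 * (q ^ e * (cen F.A B).index) ≤ 8 ^ q ^ e := by
  classical
  haveI := Fact.mk hP.prime
  set Bq := B.map (QuotientGroup.mk' F.A) with hBq
  haveI : Bq.Normal := Subgroup.Normal.map inferInstance _ (QuotientGroup.mk'_surjective _)
  letI : CommGroup Bq :=
    { (inferInstance : Group Bq) with
      mul_comm := by
        rintro ⟨-, x, hx, rfl⟩ ⟨-, y, hy, rfl⟩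
        refine Subtype.ext ?_
        have := (QuotientGroup.eq_one_iff (N := F.A) _).2 (F.E_comm x (hP.le hx) y (hP.le hy))
        simp only [QuotientGroup.mk_mul, QuotientGroup.mk_inv] at this
        exact mul_inv_eq_iff_eq_mul.1 (mul_inv_eq_one.1 this) }
  have hexp : ∀ x : Additive Bq, q • x = 0 := fun x => by
    obtain ⟨y, hy, hyx⟩ := (Additive.toMul x).2
    refine Additive.toMul.injective (Subtype.ext ?_)
    show ((Additive.toMul x : Bq) : G ⧸ F.A) ^ q = 1
    rw [← hyx, ← map_pow, QuotientGroup.mk'_apply, QuotientGroup.eq_one_iff]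
    exact hP.pow_mem y hy
  have hcard : Nat.card (Additive Bq) = q ^ (2 * e) := by
    have h := Subgroup.relIndex_ker B (QuotientGroup.mk' F.A)
    rw [QuotientGroup.ker_mk'] at h
    rw [← hP.relIndex, h]
    exact Nat.card_congr Additive.toMul
  letI := AddCommGroup.zmodModule (n := q) hexp
  let lin : G →* Module.End (ZMod q) (Additive Bq) :=
    { toFun := fun g => (MonoidHom.toAdditive
        (MulAut.conjNormal (g : G ⧸ F.A) : MulAut Bq).toMonoidHom).toZModLinearMap q
      map_one' := LinearMap.ext fun x => Additive.toMul.injective (by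
        show MulAut.conjNormal ((1 : G) : G ⧸ F.A) (Additive.toMul x) = Additive.toMul x
        rw [QuotientGroup.mk_one, map_one]
        rfl)
      map_mul' := fun a b => LinearMap.ext fun x => Additive.toMul.injective (by
        show MulAut.conjNormal ((a * b : G) : G ⧸ F.A) (Additive.toMul x) =
          MulAut.conjNormal (a : G ⧸ F.A) (MulAut.conjNormal (b : G ⧸ F.A) (Additive.toMul x))
        rw [QuotientGroup.mk_mul, map_mul]
        rfl) }
  let ρ : G →* (Additive Bq ≃ₗ[ZMod q] Additive Bq) :=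
    (LinearMap.GeneralLinearGroup.generalLinearEquiv (ZMod q) (Additive Bq)).toMonoidHom.comp
      lin.toHomUnits
  have hρ : ∀ g x, ((Additive.toMul (ρ g x) : Bq) : G ⧸ F.A) =
      (g : G ⧸ F.A) * ((Additive.toMul x : Bq) : G ⧸ F.A) * (g : G ⧸ F.A)⁻¹ := fun g x => rfl
  have hker : ρ.ker = cen F.A B := by
    ext g
    rw [MonoidHom.mem_ker, mem_cen]
    constructor
    · intro h b hb
      have h1 := hρ g (Additive.ofMul ⟨_, b, hb, rfl⟩)
      rw [h] at h1
      rw [← QuotientGroup.eq_one_iff]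
      simp only [QuotientGroup.mk_mul, QuotientGroup.mk_inv]
      rw [show (g : G ⧸ F.A) * (b : G ⧸ F.A) * (g : G ⧸ F.A)⁻¹ = (b : G ⧸ F.A) from h1.symm]
      exact mul_inv_cancel _
    · intro h
      refine LinearEquiv.ext fun x => Additive.toMul.injective (Subtype.ext ?_)
      rw [hρ]
      obtain ⟨b, hb, hbx⟩ := (Additive.toMul x).2
      show _ = ((Additive.toMul x : Bq) : G ⧸ F.A)
      rw [← hbx]
      have h2 := (QuotientGroup.eq_one_iff (N := F.A) _).2 (h b hb)
      simp only [QuotientGroup.mk_mul, QuotientGroup.mk_inv] at h2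
      exact mul_inv_eq_one.1 h2
  haveI : Nontrivial (Additive Bq) := by
    rw [← Finite.one_lt_card_iff_nontrivial, hcard]
    exact Nat.one_lt_pow (by have := hP.epos; omega) hP.prime.one_lt
  have hirr : Irr ρ.range := irr_range ρ fun U hU => by
    let K : Subgroup G :=
      { carrier := {x | ∃ hx : (x : G ⧸ F.A) ∈ Bq, Additive.ofMul (⟨_, hx⟩ : Bq) ∈ U}
        mul_mem' := by
          rintro a b ⟨ha, ha'⟩ ⟨hb, hb'⟩
          exact ⟨mul_mem ha hb, U.add_mem ha' hb'⟩
        one_mem' := ⟨one_mem _, U.zero_mem⟩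
        inv_mem' := by
          rintro a ⟨ha, ha'⟩
          exact ⟨inv_mem ha, U.neg_mem ha'⟩ }
    have hKn : K.Normal := ⟨by
      rintro x ⟨hx, hx'⟩ g
      exact ⟨(inferInstance : Bq.Normal).conj_mem _ hx (g : G ⧸ F.A), hU g _ hx'⟩⟩
    have hAK : F.A ≤ K := fun a ha => by
      have h1 : (a : G ⧸ F.A) = 1 := (QuotientGroup.eq_one_iff a).2 ha
      refine ⟨h1 ▸ one_mem _, ?_⟩
      convert U.zero_mem using 1
      exact Additive.toMul.injective (Subtype.ext h1)
    have hKB : K ≤ B := by
      rintro x ⟨hx, -⟩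
      obtain ⟨b, hb, hbx⟩ := hx
      have : b⁻¹ * x ∈ F.A := QuotientGroup.eq.1 hbx
      simpa using B.mul_mem hb (hP.lt.le this)
    rcases hP.minimal K hKn hAK hKB with h | h
    · left
      refine (Submodule.eq_bot_iff U).2 fun u hu => ?_
      obtain ⟨b, hb, hbx⟩ := (Additive.toMul u).2
      have hbK : b ∈ K := ⟨⟨b, hb, rfl⟩, by
        convert hu using 1
        exact Additive.toMul.injective (Subtype.ext hbx)⟩
      rw [h] at hbK
      exact Additive.toMul.injective
        (Subtype.ext (hbx.symm.trans ((QuotientGroup.eq_one_iff b).2 hbK)))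
    · right
      refine Submodule.eq_top_iff'.2 fun u => ?_
      obtain ⟨b, hb, hbx⟩ := (Additive.toMul u).2
      have hbK : b ∈ K := by rw [h]; exact hb
      obtain ⟨hx, hxU⟩ := hbK
      convert hxU using 1
      exact Additive.toMul.injective (Subtype.ext hbx.symm)
  have := action_order_bound hP.epos hcard ρ.range
    (Group.isSolvable_of_surjective ρ.rangeRestrict_surjective) hirr
  rwa [← hker, Subgroup.index_ker]

/-- Recursion over the layer: the index of the centraliser. -/
theorem layer_index_bound {G : Type} [Group G] [Finite G] [Group.IsSolvable G] {F : Frame G}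
    [F.A.Normal] (hom : HomBound F) (X : Subgroup G)
    [X.Normal] (hAX : F.A ≤ X) (hXE : X ≤ F.E) (hnd : Nondeg F.A X) :
    ∃ t, F.A.relIndex X = t ^ 2 ∧ 3 * (t * (cen F.A X).index) ≤ 8 ^ t := by
  classical
  induction hn : Nat.card X using Nat.strong_induction_on generalizing X with
  | _ n ih =>
  subst hn
  rcases hAX.eq_or_lt with h | hlt
  · subst h
    refine ⟨1, by rw [Subgroup.relIndex_self, one_pow], ?_⟩
    have hle : ∀ g : G, g ∈ cen F.A F.A := fun g => mem_cen.2 fun a ha =>
      F.A.mul_mem ((inferInstance : F.A.Normal).conj_mem a ha g) (F.A.inv_mem ha)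
    rw [(Subgroup.eq_top_iff' _).2 hle, Subgroup.index_top]
    norm_num
  obtain ⟨B, q, e, hBn, hBnd, hBX, hP⟩ := exists_piece hom hlt hXE
  haveI := hBn
  haveI : (Subgroup.centralizer (B : Set G)).Normal := Subgroup.normal_centralizer
  set Y := X ⊓ Subgroup.centralizer (B : Set G) with hYdef
  have hAY : F.A ≤ Y := fun a ha => ⟨hAX ha, Subgroup.mem_centralizer_iff.2 fun b hb =>
    (Subgroup.mem_centralizer_iff.1 (F.E_le (hP.le hb)) a ha).symm⟩
  have hXc : ∀ x ∈ X, ∀ y ∈ X, x * y * x⁻¹ * y⁻¹ ∈ F.A := fun x hx y hy =>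
    F.E_comm x (hXE hx) y (hXE hy)
  have hBY : B ⊓ Y = F.A := le_antisymm
    (fun x hx => hBnd x hx.1 fun y hy => (Subgroup.mem_centralizer_iff.1 hx.2.2 y hy).symm)
    (le_inf hP.lt.le hAY)
  -- `X = B Y` by counting
  have h1 := relIndex_le_of_pairing hom (X := X) (Y := B) (X₀ := Y) (Y₀ := F.A)
    (hP.le.trans F.E_le) (hXE.trans F.E_le)
    (subgroupOf_normal_of_comm le_rfl fun a ha b hb => hXc a (hBX ha) b (hBX hb))
    (fun x hx y hy => hXc x hx y (hBX hy))
    (fun x hx y hy _ => (Subgroup.mem_centralizer_iff.1 (F.E_le (hXE hx)) y hy).symm)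
    (fun x hx hxy => ⟨hx, Subgroup.mem_centralizer_iff.2 fun y hy => (hxy y hy).symm⟩) hP.lt.le
  have hBYle : B ⊔ Y ≤ X := sup_le hBX inf_le_left
  have h2 : Y.relIndex (B ⊔ Y) = F.A.relIndex B := by
    rw [Subgroup.relIndex_sup_right, ← Subgroup.inf_relIndex_right, inf_comm, hBY]
  have h3 := Subgroup.relIndex_mul_relIndex Y (B ⊔ Y) X le_sup_right hBYle
  have hsup : B ⊔ Y = X := by
    refine le_antisymm hBYle (Subgroup.relIndex_eq_one.1 ?_)
    have hp : 0 < F.A.relIndex B := Nat.pos_of_ne_zero Subgroup.index_ne_zero_of_finite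
    have hp' : 0 < (B ⊔ Y).relIndex X := Nat.pos_of_ne_zero Subgroup.index_ne_zero_of_finite
    rw [← h3, h2] at h1
    nlinarith
  have hYnd : Nondeg F.A Y := by
    intro y hy hyY
    refine hnd y hy.1 fun x hx => ?_
    rw [← hsup] at hx
    obtain ⟨b, hb, z, hz, rfl⟩ := Subgroup.mem_sup_of_normal_right.1 hx
    have hyb : Commute y b := (Subgroup.mem_centralizer_iff.1 hy.2 b hb).symm
    exact (hyb.mul_right (hyY z hz :)).eq
  have hYlt : Nat.card Y < Nat.card X := by
    refine lt_of_le_of_ne (Subgroup.card_le_of_le inf_le_left) fun h => ?_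
    have hYX : Y = X := Subgroup.eq_of_le_of_card_ge inf_le_left h.ge
    exact hP.lt.not_ge (hBY ▸ le_inf le_rfl (hYX ▸ hBX))
  obtain ⟨t, ht, hb⟩ := ih _ hYlt Y hAY (inf_le_left.trans hXE) hYnd rfl
  refine ⟨q ^ e * t, ?_, ?_⟩
  · rw [← Subgroup.relIndex_mul_relIndex F.A Y X hAY inf_le_left, ht]
    have : Y.relIndex X = F.A.relIndex B := by rw [← h2, hsup]
    rw [this, hP.relIndex]
    ring
  have hcen : cen F.A B ⊓ cen F.A Y ≤ cen F.A X := by
    intro g h
    simp only [Subgroup.mem_inf, mem_cen] at h ⊢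
    intro x hx
    rw [← hsup] at hx
    obtain ⟨b, hb', z, hz, rfl⟩ := Subgroup.mem_sup_of_normal_right.1 hx
    have h1 := h.1 b hb'
    have h2 := h.2 z hz
    have : g * (b * z) * g⁻¹ * (b * z)⁻¹ =
        (g * b * g⁻¹ * b⁻¹) * (b * (g * z * g⁻¹ * z⁻¹) * b⁻¹) := by group
    rw [this]
    exact F.A.mul_mem h1 ((inferInstance : F.A.Normal).conj_mem _ h2 b)
  have hidx : (cen F.A X).index ≤ (cen F.A B).index * (cen F.A Y).index :=
    (Nat.le_of_dvd (Nat.pos_of_ne_zero Subgroup.index_ne_zero_of_finite)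
      (Subgroup.index_dvd_of_le hcen)).trans Subgroup.index_inf_le
  have hP3 := piece_index_bound B q e hP
  have ht1 : 1 ≤ t := Nat.one_le_iff_ne_zero.2 fun h => Subgroup.index_ne_zero_of_finite
    (show (F.A.subgroupOf Y).index = 0 by
      show F.A.relIndex Y = 0
      rw [ht, h]; rfl)
  rcases ht1.eq_or_lt with rfl | ht2
  · have hY : Y = F.A :=
      le_antisymm (Subgroup.relIndex_eq_one.1 (by rw [ht, one_pow])) hAY
    have htop : cen F.A Y = ⊤ := by
      rw [hY]
      exact (Subgroup.eq_top_iff' _).2 fun g => mem_cen.2 fun a ha =>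
        F.A.mul_mem ((inferInstance : F.A.Normal).conj_mem a ha g) (F.A.inv_mem ha)
    rw [htop, Subgroup.index_top, mul_one] at hidx
    rw [mul_one]
    exact (Nat.mul_le_mul_left _ (Nat.mul_le_mul_left _ hidx)).trans hP3
  have hq2 : 2 ≤ q ^ e := le_trans hP.prime.two_le (Nat.le_self_pow hP.epos.ne' q)
  have h6 : q ^ e + t ≤ q ^ e * t := by nlinarith
  have h7 := (Nat.mul_le_mul hP3 hb).trans_eq (pow_add 8 (q ^ e) t).symm
  calc 3 * (q ^ e * t * (cen F.A X).index)
      ≤ 3 * (q ^ e * t * ((cen F.A B).index * (cen F.A Y).index)) :=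
        Nat.mul_le_mul_left _ (Nat.mul_le_mul_left _ hidx)
    _ ≤ 3 * (3 * (q ^ e * t * ((cen F.A B).index * (cen F.A Y).index))) :=
        Nat.le_mul_of_pos_left _ (by norm_num)
    _ = 3 * (q ^ e * (cen F.A B).index) * (3 * (t * (cen F.A Y).index)) := by ring
    _ ≤ 8 ^ (q ^ e + t) := h7
    _ ≤ 8 ^ (q ^ e * t) := Nat.pow_le_pow_right (by norm_num) h6

/-- A large abelian subgroup of the layer. -/
theorem exists_isotropic {G : Type} [Group G] [Finite G] {F : Frame G} [F.A.Normal]
    (hom : HomBound F) {t : ℕ} (ht : F.A.relIndex F.E = t ^ 2) :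
    ∃ B : Subgroup G, B ≤ F.E ∧ (∀ a ∈ B, ∀ b ∈ B, a * b = b * a) ∧ B.relIndex F.E ≤ t := by
  obtain ⟨M, ⟨hAM, hMX, hMc⟩, hMmax⟩ := Set.Finite.exists_maximal
    (s := {M : Subgroup G | F.A ≤ M ∧ M ≤ F.E ∧ ∀ a ∈ M, ∀ b ∈ M, a * b = b * a}) (Set.toFinite _)
    ⟨F.A, le_rfl, F.A_le, F.A_comm⟩
  have hmax : ∀ x ∈ F.E, (∀ y ∈ M, x * y = y * x) → x ∈ M := by
    intro x hx hxy
    have hcl : ∀ a ∈ M ⊔ Subgroup.closure {x}, ∀ b ∈ M ⊔ Subgroup.closure {x}, a * b = b * a := by
      intro a ha b hb
      rw [← Subgroup.closure_eq M, ← Subgroup.closure_union] at ha hb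
      have hcomm : ∀ a ∈ ((M : Set G) ∪ {x}), ∀ b ∈ ((M : Set G) ∪ {x}), a * b = b * a := by
        rintro a (ha | ha) b (hb | hb)
        · exact hMc a ha b hb
        · rw [Set.mem_singleton_iff.1 hb]; exact (hxy a ha).symm
        · rw [Set.mem_singleton_iff.1 ha]; exact hxy b hb
        · rw [Set.mem_singleton_iff.1 ha, Set.mem_singleton_iff.1 hb]
      letI := Subgroup.isMulCommutative_closure hcomm
      exact congrArg Subtype.val
        (mul_comm' (⟨a, ha⟩ : Subgroup.closure ((M : Set G) ∪ {x})) ⟨b, hb⟩)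
    exact hMmax ⟨hAM.trans le_sup_left,
      sup_le hMX ((Subgroup.closure_le F.E).2 (Set.singleton_subset_iff.2 hx)), hcl⟩
      le_sup_left (Subgroup.mem_sup_right (Subgroup.subset_closure rfl))
  have h1 := relIndex_le_of_pairing hom (X := F.E) (Y := M) (X₀ := M) (Y₀ := F.A)
    (hMX.trans F.E_le) F.E_le
    (subgroupOf_normal_of_comm le_rfl fun a ha b hb => F.E_comm a (hMX ha) b (hMX hb))
    (fun x hx y hy => F.E_comm x hx y (hMX hy))
    (fun x hx y hy _ => (Subgroup.mem_centralizer_iff.1 (F.E_le hx) y hy).symm) hmax hAM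
  have h2 := Subgroup.relIndex_mul_relIndex F.A M F.E hAM hMX
  refine ⟨M, hMX, hMc, (Nat.pow_le_pow_iff_left two_ne_zero).1 ?_⟩
  rw [← ht, ← h2, sq]
  exact Nat.mul_le_mul_right _ h1

/-- A soluble irreducible linear group of degree `r` has an abelian subgroup of index at most
`8 ^ r / 3`. -/
theorem exists_abelian_subgroup : ∀ (r : ℕ) {L : Type} [Field L] [Finite L] {V : Type}
    [AddCommGroup V] [Module L V] [Finite V] (G : Subgroup (V ≃ₗ[L] V)),
    Group.IsSolvable G → Irr G → finrank L V = r →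
    ∃ B : Subgroup G, (∀ a ∈ B, ∀ b ∈ B, a * b = b * a) ∧ 3 * B.index ≤ 8 ^ r := by
  classical
  intro r
  induction r using Nat.strong_induction_on with
  | _ r ih =>
  intro L _ _ V _ _ _ G hsol hirr hr
  subst hr
  haveI := finite_GL (L := L) (V := V)
  haveI := hirr.1
  haveI := hsol
  by_cases hprim : Prim G
  · obtain ⟨F⟩ := exists_frame (G := G) hsol
    haveI := F.A_normal
    haveI := F.E_normal
    obtain ⟨s, u, hs, hu, hdim, hidx, -, -, hhom, hsq⟩ :=
      exists_field G hirr hprim F.A F.A_normal F.A_comm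
    obtain ⟨t, ht, hX⟩ := layer_index_bound hhom F.E F.A_le le_rfl F.E_nondeg
    have htu : t ≤ u := by
      refine (Nat.pow_le_pow_iff_left two_ne_zero).1 ?_
      rw [← ht]
      exact hsq F.E F.A_le F.E_le (fun x hx y hy => F.E_comm y hy x hx) F.E_nondeg
    obtain ⟨B, hBE, hBc, hBt⟩ := exists_isotropic hhom ht
    refine ⟨B, hBc, ?_⟩
    have hE : F.E.index ≤ s * (cen F.A F.E).index := by
      rw [← congrArg Subgroup.index (inf_cen_eq (F := F) hhom)]
      exact Subgroup.index_inf_le.trans (Nat.mul_le_mul_right _ hidx)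
    rw [← Subgroup.relIndex_mul_index hBE, hdim]
    calc 3 * (B.relIndex F.E * F.E.index) ≤ 3 * (t * (s * (cen F.A F.E).index)) :=
          Nat.mul_le_mul_left _ (Nat.mul_le_mul hBt hE)
      _ = s * (3 * (t * (cen F.A F.E).index)) := by ring
      _ ≤ s * 8 ^ u :=
          Nat.mul_le_mul_left _ (hX.trans (Nat.pow_le_pow_right (by norm_num) htu))
      _ ≤ 8 ^ (s - 1) * 8 ^ u := by
          refine Nat.mul_le_mul_right _ ?_
          calc s = (s - 1) + 1 := by omega
            _ ≤ 8 ^ (s - 1) := Nat.lt_pow_self (by norm_num)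
      _ ≤ 8 ^ (s * u) := by
          rw [← pow_add]
          refine Nat.pow_le_pow_right (by norm_num) ?_
          obtain ⟨a, rfl⟩ : ∃ a, s = a + 1 := ⟨s - 1, by omega⟩
          rw [Nat.add_sub_cancel, add_mul, one_mul]
          have := Nat.le_mul_of_pos_right a hu
          omega
  · obtain ⟨t, m, D, π, φ, ht, hm, hdim, hrk, hmem, -, hφ, hmin⟩ := exists_blocks hirr hprim
    haveI : Nonempty (Fin t) := ⟨⟨0, by omega⟩⟩
    let T : Fin t → Subgroup G := fun i =>
      (MulAction.stabilizer (Equiv.Perm (Fin t)) i).comap π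
    have hinv : ∀ (i : Fin t) (g : T i), ∀ w ∈ D i, ((g : G) : V ≃ₗ[L] V) w ∈ D i :=
      fun i g w hw => by
        have h1 : π g i = i := g.2
        simpa [h1] using hmem (g : G) i w hw
    let σ := fun i : Fin t => subRep (G.subtype.comp (T i).subtype) (D i) (hinv i)
    have hH : ∀ i, ∃ Bi : Subgroup (σ i).range, (∀ a ∈ Bi, ∀ b ∈ Bi, a * b = b * a) ∧
        3 * Bi.index ≤ 8 ^ m := by
      intro i
      haveI : Nontrivial (D i) := by
        rw [← Module.finrank_pos_iff (R := L), hrk]; omega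
      refine ih m (by nlinarith) (σ i).range
        (Group.isSolvable_of_surjective (σ i).rangeRestrict_surjective) (irr_range (σ i) ?_) (hrk i)
      intro W hW
      rcases hmin i (W.map (D i).subtype) (Submodule.map_subtype_le _ _) (fun g hg w hw => by
          obtain ⟨x, hx, rfl⟩ := hw
          exact ⟨_, hW ⟨g, hg⟩ x hx, rfl⟩) with h | h
      · exact Or.inl (Submodule.map_injective_of_injective (D i).injective_subtype
          (h.trans (Submodule.map_bot _).symm))
      · exact Or.inr (Submodule.map_injective_of_injective (D i).injective_subtype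
          (h.trans (Submodule.map_subtype_top _).symm))
    choose Bi hBi hBidx using hH
    have hKT : ∀ i, π.ker ≤ T i := fun i g hg => by
      show π g i = i
      rw [MonoidHom.mem_ker.1 hg]; rfl
    let ψ : ∀ i, π.ker →* (σ i).range := fun i =>
      (σ i).rangeRestrict.comp (Subgroup.inclusion (hKT i))
    haveI : ∀ i, Finite (σ i).range := fun i => by
      haveI := finite_GL (L := L) (V := D i)
      infer_instance
    refine ⟨(⨅ i, (Bi i).comap (ψ i)).map π.ker.subtype, ?_, ?_⟩
    · rintro _ ⟨a, ha, rfl⟩ _ ⟨b, hb, rfl⟩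
      refine Subtype.ext (LinearEquiv.ext fun v => φ.injective (funext fun i => Subtype.ext ?_))
      have h := hBi i _ (Subgroup.mem_iInf.1 ha i) _ (Subgroup.mem_iInf.1 hb i)
      rw [← map_mul, ← map_mul] at h
      refine ((hφ ((a * b : π.ker) : G) (a * b).2 v i).trans ?_).trans
        (hφ ((b * a : π.ker) : G) (b * a).2 v i).symm
      exact congrArg Subtype.val (LinearEquiv.congr_fun (congrArg Subtype.val h) (φ v i))
    · have hX : π.ker.index * 3 ≤ 3 ^ t := by
        rw [Subgroup.index_ker]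
        have := Perm.card_mul_three_le π.range
          (Group.isSolvable_of_surjective π.rangeRestrict_surjective)
        rwa [Nat.card_eq_fintype_card (α := Fin t), Fintype.card_fin] at this
      have hN : (⨅ i, (Bi i).comap (ψ i)).index ≤ ∏ i, (Bi i).index := by
        refine (Subgroup.index_iInf_le _).trans ?_
        refine Finset.prod_le_prod' fun i _ => ?_
        rw [Subgroup.index_comap]
        rw [← Subgroup.relIndex_top_right]
        exact Subgroup.relIndex_le_of_le_right le_top Subgroup.index_ne_zero_of_finite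
      rw [Subgroup.index_map_subtype, ← hdim, mul_comm t m, pow_mul]
      calc 3 * ((⨅ i, (Bi i).comap (ψ i)).index * π.ker.index)
          = π.ker.index * 3 * (⨅ i, (Bi i).comap (ψ i)).index := by ring
        _ ≤ 3 ^ t * ∏ i, (Bi i).index := Nat.mul_le_mul hX hN
        _ = ∏ i : Fin t, 3 * (Bi i).index := by
            rw [Finset.prod_mul_distrib]; simp
        _ ≤ ∏ _i : Fin t, 8 ^ m := Finset.prod_le_prod' fun i _ => hBidx i
        _ = (8 ^ m) ^ t := by simp

/-- Over a large field the square of the index is at most `|L| ^ (r - 1)`. -/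
theorem exists_abelian_subgroup_sq {L : Type} [Field L] [Finite L] {V : Type}
    [AddCommGroup V] [Module L V] [Finite V] (G : Subgroup (V ≃ₗ[L] V))
    (hsol : Group.IsSolvable G) (hirr : Irr G) (hL : 4096 ≤ Nat.card L) :
    ∃ B : Subgroup G, (∀ a ∈ B, ∀ b ∈ B, a * b = b * a) ∧
      B.index ^ 2 ≤ Nat.card L ^ (finrank L V - 1) := by
  haveI := hirr.1
  haveI : Module.Finite L V := Module.Finite.of_finite
  obtain ⟨r, hr⟩ : ∃ r, finrank L V = r + 1 :=
    Nat.exists_eq_succ_of_ne_zero Module.finrank_pos.ne'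
  rcases Nat.eq_zero_or_pos r with rfl | hr0
  · refine ⟨⊤, fun a _ b _ => ?_, by simp [hr]⟩
    obtain ⟨v, hv⟩ := exists_ne (0 : V)
    have hscal := (finrank_eq_one_iff_of_nonzero' v hv).1 hr
    refine Subtype.ext (LinearEquiv.ext fun w => ?_)
    obtain ⟨c, rfl⟩ := hscal w
    obtain ⟨x, hx⟩ := hscal ((a : V ≃ₗ[L] V) v)
    obtain ⟨y, hy⟩ := hscal ((b : V ≃ₗ[L] V) v)
    show (a : V ≃ₗ[L] V) ((b : V ≃ₗ[L] V) (c • v)) = (b : V ≃ₗ[L] V) ((a : V ≃ₗ[L] V) (c • v))
    simp only [map_smul, ← hx, ← hy]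
    rw [smul_comm x y]
  · obtain ⟨B, hB, hidx⟩ := exists_abelian_subgroup _ G hsol hirr hr
    refine ⟨B, hB, ?_⟩
    rw [hr, Nat.add_sub_cancel]
    refine le_trans ?_ (Nat.pow_le_pow_left hL r)
    have h2 : (3 * B.index) ^ 2 ≤ 64 ^ (r + 1) := by
      refine (Nat.pow_le_pow_left hidx 2).trans_eq ?_
      rw [← pow_mul, show (64 : ℕ) = 8 ^ 2 by norm_num, ← pow_mul, mul_comm]
    have h3 : 64 ^ (r + 1) ≤ 4096 ^ r := by
      rw [show (4096 : ℕ) = 64 ^ 2 by norm_num, ← pow_mul]
      exact Nat.pow_le_pow_right (by norm_num) (by omega)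
    rw [mul_pow] at h2
    omega

end Cfsg.Agent.Lib.SolvClass
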