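import Cfsg.Agent.S4201
import Mathlib.GroupTheory.QuotientGroup.Basic
import Mathlib.GroupTheory.GroupAction.CardCommute
import Mathlib.Algebra.Group.ConjFinite
import Mathlib.GroupTheory.Index
import Mathlib.GroupTheory.SpecificGroups.Cyclic
import Mathlib.Tactic.NormNum.Prime
import Mathlib.GroupTheory.Subgroup.Center
import Mathlib.GroupTheory.Subgroup.Centralizer
import Mathlib.Tactic.Ring
import Mathlib.Tactic.Linarith

/-!
# Class numbers: elementary inequalities

`k X` is the number of conjugacy classes of `X`.
-/

set_option autoImplicit false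
set_option linter.style.haveILetI false

namespace Cfsg.Agent.Lib.SolvClass

/-- The number of conjugacy classes. -/
noncomputable def k (X : Type*) [Group X] : ℕ := Nat.card (ConjClasses X)

section

variable {X Y Z : Type*} [Group X] [Group Y] [Group Z]

instance finite_conjClasses [Finite X] : Finite (ConjClasses X) :=
  Finite.of_surjective ConjClasses.mk ConjClasses.mk_surjective

theorem k_pos [Finite X] : 0 < k X := Nat.card_pos

theorem k_congr (e : X ≃* Y) : k X = k Y :=
  Nat.card_congr
    { toFun := ConjClasses.map e.toMonoidHom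
      invFun := ConjClasses.map e.symm.toMonoidHom
      left_inv := fun c => by
        induction c using Quotient.inductionOn with
        | h a => exact congrArg ConjClasses.mk (e.symm_apply_apply a)
      right_inv := fun c => by
        induction c using Quotient.inductionOn with
        | h a => exact congrArg ConjClasses.mk (e.apply_symm_apply a) }

theorem k_le_card [Finite X] : k X ≤ Nat.card X :=
  Nat.card_le_card_of_surjective _ ConjClasses.mk_surjective

theorem k_of_comm (h : ∀ a b : X, a * b = b * a) : k X = Nat.card X :=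
  (Nat.card_congr (Equiv.ofBijective ConjClasses.mk ⟨fun a b hab => by
    obtain ⟨c, hc⟩ := isConj_iff.1 (ConjClasses.mk_eq_mk_iff_isConj.1 hab)
    rw [h c a, mul_inv_cancel_right] at hc
    exact hc, ConjClasses.mk_surjective⟩)).symm

theorem k_le_mul_range [Finite X] (f : X →* Y) : k X ≤ k f.ker * k f.range :=
  (S4201.result (X := X) f.ker).trans_eq
    (congrArg (k f.ker * ·) (k_congr (QuotientGroup.quotientKerEquivRange f)))

theorem k_range_le [Finite X] (f : X →* Y) : k f.range ≤ k X :=
  Nat.card_le_card_of_surjective _ (ConjClasses.map_surjective f.rangeRestrict_surjective)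

theorem k_le_mul_surjective [Finite X] (f : X →* Y) (hf : Function.Surjective f) :
    k X ≤ k f.ker * k Y := by
  refine (k_le_mul_range f).trans_eq (congrArg (k f.ker * ·) ?_)
  exact k_congr ((MulEquiv.subgroupCongr (MonoidHom.range_eq_top.2 hf)).trans Subgroup.topEquiv)

/-- The image of a subgroup under two homomorphisms with the same kernel on it. -/
theorem k_map_congr (H : Subgroup X) (f : X →* Y) (g : X →* Z)
    (h : ∀ x ∈ H, f x = 1 ↔ g x = 1) : k (H.map f) = k (H.map g) := by
  have e1 := QuotientGroup.quotientKerEquivRange (f.comp H.subtype)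
  have e2 := QuotientGroup.quotientKerEquivRange (g.comp H.subtype)
  have hk : (f.comp H.subtype).ker = (g.comp H.subtype).ker := by
    ext x; exact h x x.2
  have r1 : (f.comp H.subtype).range = H.map f := by
    rw [MonoidHom.range_comp, Subgroup.range_subtype]
  have r2 : (g.comp H.subtype).range = H.map g := by
    rw [MonoidHom.range_comp, Subgroup.range_subtype]
  exact k_congr ((((MulEquiv.subgroupCongr r1).symm.trans e1.symm).trans
    (QuotientGroup.quotientMulEquivOfEq hk)).trans (e2.trans (MulEquiv.subgroupCongr r2)))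

theorem k_map_le [Finite X] (H : Subgroup X) (f : X →* Y) : k (H.map f) ≤ k H := by
  have r1 : (f.comp H.subtype).range = H.map f := by
    rw [MonoidHom.range_comp, Subgroup.range_subtype]
  exact (k_congr (MulEquiv.subgroupCongr r1)).symm.trans_le (k_range_le _)

theorem k_map_injective (H : Subgroup X) (f : X →* Y) (hf : Function.Injective f) :
    k (H.map f) = k H :=
  (k_congr (H.equivMapOfInjective f hf)).symm

/-- If on `S` the kernel of `f` is the intersection of those of `g` and `h`, then the class number
of the image under `f` is bounded by the product of those of the images under `g` and under `h`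
of the corresponding pieces. -/
theorem k_map_le_mul {W : Type*} [Group W] [Finite X] (S : Subgroup X) (f : X →* Y) (g : X →* Z)
    (h : X →* W) (hfg : ∀ x ∈ S, f x = 1 ↔ g x = 1 ∧ h x = 1) :
    k (S.map f) ≤ k ((S ⊓ g.ker).map h) * k (S.map g) := by
  -- pass to the image under `f × g`, whose kernel on `S` is that of `f`
  let P : Subgroup (Y × Z) := S.map (f.prod g)
  have h1 : k (S.map f) = k P := k_map_congr S f (f.prod g) fun x hx => by
    simp only [MonoidHom.prod_apply, Prod.mk_eq_one]
    exact ⟨fun hf => ⟨hf, ((hfg x hx).1 hf).1⟩, fun hf => hf.1⟩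
  let π : P →* Z := (MonoidHom.snd Y Z).comp P.subtype
  have hr : π.range = S.map g := by
    rw [MonoidHom.range_comp, Subgroup.range_subtype, Subgroup.map_map]
    rfl
  have hker : π.ker.map P.subtype = (S ⊓ g.ker).map (f.prod g) := by
    ext y
    constructor
    · rintro ⟨⟨z, x, hx, rfl⟩, hz, rfl⟩
      exact ⟨x, ⟨hx, hz⟩, rfl⟩
    · rintro ⟨x, ⟨hx, hgx⟩, rfl⟩
      exact ⟨⟨_, x, hx, rfl⟩, hgx, rfl⟩
  haveI : Finite P :=
    Set.Finite.to_subtype ((Set.toFinite (S : Set X)).image (f.prod g))
  rw [h1]
  refine (k_le_mul_range π).trans_eq ?_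
  rw [k_congr (MulEquiv.subgroupCongr hr), ← k_map_injective π.ker _ P.subtype_injective,
    k_congr (MulEquiv.subgroupCongr hker)]
  congr 1
  refine k_map_congr _ _ _ fun x hx => ?_
  simp only [MonoidHom.prod_apply, Prod.mk_eq_one]
  exact ⟨fun hf => ((hfg x hx.1).1 hf.1).2,
    fun hh => ⟨(hfg x hx.1).2 ⟨hx.2, hh⟩, hx.2⟩⟩

theorem card_map_mul_le [Finite X] (S : Subgroup X) (g : X →* Z) :
    k (S.map g) ≤ Nat.card (S.map g) := by
  haveI : Finite (S.map g) := Set.Finite.to_subtype ((Set.toFinite (S : Set X)).image g)
  exact k_le_card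

theorem k_mul_card_eq_sum [Fintype X] :
    k X * Nat.card X = ∑ a : X, Nat.card (Subgroup.centralizer ({a} : Set X)) := by
  rw [k, ← card_comm_eq_card_conjClasses_mul_card,
    Nat.card_congr (Equiv.subtypeProdEquivSigmaSubtype fun a b : X => Commute a b), Nat.card_sigma]
  exact Finset.sum_congr rfl fun a _ => Nat.card_congr (Equiv.subtypeEquivRight fun b => by
    rw [Subgroup.mem_centralizer_singleton_iff]
    exact ⟨fun h => h.eq.symm, fun h => Eq.symm h⟩)

/-- Class number from a bound on the proper centralisers. -/
theorem k_mul_card_le [Finite X] {c : ℕ}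
    (hc : ∀ a : X, a ∉ Subgroup.center X → Nat.card (Subgroup.centralizer ({a} : Set X)) ≤ c) :
    k X * Nat.card X ≤ Nat.card (Subgroup.center X) * Nat.card X +
      (Nat.card X - Nat.card (Subgroup.center X)) * c := by
  classical
  haveI := Fintype.ofFinite X
  rw [k_mul_card_eq_sum, ← Finset.sum_filter_add_sum_filter_not Finset.univ
    (fun a => a ∈ Subgroup.center X)]
  have hz : (Finset.univ.filter (fun a => a ∈ Subgroup.center X)).card =
      Nat.card (Subgroup.center X) := by
    rw [Nat.card_eq_fintype_card]
    exact (Fintype.card_subtype _).symm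
  have hnz : (Finset.univ.filter (fun a => a ∉ Subgroup.center X)).card =
      Nat.card X - Nat.card (Subgroup.center X) := by
    rw [Finset.filter_not, Finset.card_univ_sdiff, hz, Nat.card_eq_fintype_card (α := X)]
  refine Nat.add_le_add ?_ ?_
  · rw [← hz, ← smul_eq_mul]
    exact Finset.sum_le_card_nsmul _ _ _ fun a _ =>
      Nat.card_le_card_of_injective _ Subtype.val_injective
  · rw [← hnz, ← smul_eq_mul]
    exact Finset.sum_le_card_nsmul _ _ _ fun a ha => hc a (Finset.mem_filter.1 ha).2

/-- `k(X) < z + c` if the centre has at most `z` elements and proper centralisers at most `c`. -/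
theorem k_lt_add [Finite X] {z c : ℕ} (hcpos : 0 < c) (hz : Nat.card (Subgroup.center X) ≤ z)
    (hc : ∀ a : X, a ∉ Subgroup.center X → Nat.card (Subgroup.centralizer ({a} : Set X)) ≤ c) :
    k X < z + c := by
  have h := k_mul_card_le hc
  have h1 : Nat.card (Subgroup.center X) * Nat.card X ≤ z * Nat.card X :=
    Nat.mul_le_mul_right _ hz
  have hp : 0 < Nat.card X := Nat.card_pos
  have hp' : 0 < Nat.card (Subgroup.center X) := Nat.card_pos
  have h2 : (Nat.card X - Nat.card (Subgroup.center X)) * c < Nat.card X * c :=
    Nat.mul_lt_mul_of_pos_right (by omega) hcpos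
  refine Nat.lt_of_mul_lt_mul_right (a := Nat.card X) ?_
  rw [add_mul, mul_comm c]
  omega

/-- A non-abelian group has class number at most five eighths of its order. -/
theorem eight_mul_k_le [Finite X] (hna : ¬ ∀ a b : X, a * b = b * a) :
    8 * k X ≤ 5 * Nat.card X := by
  set Z := Subgroup.center X with hZ
  have hc : ∀ a : X, a ∉ Subgroup.center X →
      Nat.card (Subgroup.centralizer ({a} : Set X)) ≤ Nat.card X / 2 := by
    intro a ha
    set C := Subgroup.centralizer ({a} : Set X)
    have hne : C.index ≠ 1 := fun h => ha (Subgroup.mem_center_iff.2 fun g => by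
      have hg : g ∈ C := by rw [Subgroup.index_eq_one.1 h]; trivial
      exact Subgroup.mem_centralizer_singleton_iff.1 hg)
    have hi : 2 ≤ C.index := by
      have := Subgroup.index_ne_zero_of_finite (H := C); omega
    rw [Nat.le_div_iff_mul_le two_pos, ← C.card_mul_index]
    exact Nat.mul_le_mul_left _ hi
  have hzidx : 4 ≤ Z.index := by
    by_contra hlt
    apply hna
    have hcyc : IsCyclic (X ⧸ Z) := by
      have h1 := Subgroup.index_ne_zero_of_finite (H := Z)
      have hidx : Nat.card (X ⧸ Z) = Z.index := rfl
      rcases Nat.lt_or_ge Z.index 2 with h | h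
      · haveI : Subsingleton (X ⧸ Z) := (Nat.card_eq_one_iff_unique.1 (by omega)).1
        infer_instance
      · haveI : Fact (Nat.card (X ⧸ Z)).Prime := ⟨by
          rw [hidx]; rcases (show Z.index = 2 ∨ Z.index = 3 by omega) with h | h <;> rw [h] <;>
            norm_num⟩
        exact isCyclic_of_prime_card rfl
    exact commutative_of_cyclic_center_quotient (QuotientGroup.mk' Z)
      (by rw [QuotientGroup.ker_mk'])
  have h := k_mul_card_le hc
  have hx : 4 * Nat.card Z ≤ Nat.card X := by
    rw [← Z.card_mul_index, mul_comm 4]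
    exact Nat.mul_le_mul_left _ hzidx
  have hp : 0 < Nat.card X := Nat.card_pos
  have h2 : 2 * (Nat.card X / 2) ≤ Nat.card X := Nat.mul_div_le _ _
  obtain ⟨w, hw⟩ : ∃ w, Nat.card X = Nat.card Z + w := ⟨_, (Nat.add_sub_of_le (by omega)).symm⟩
  rw [← hZ, hw, Nat.add_sub_cancel_left, ← hw] at h
  refine Nat.le_of_mul_le_mul_right ?_ hp
  nlinarith

end

end Cfsg.Agent.Lib.SolvClass
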