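import Cfsg.Agent.Lib.SolvClass.Wrapper
import Cfsg.Agent.Lib.PSolvable.FrattiniModule
import Mathlib.GroupTheory.SchurZassenhaus
import Mathlib.GroupTheory.Nilpotent
import Mathlib.GroupTheory.Frattini
import Mathlib.LinearAlgebra.Dimension.Free

/-!
# A normal subgroup with small class numbers below and above

For a soluble group without nontrivial normal subgroups of order prime to `p`.
-/

set_option autoImplicit false
set_option linter.style.haveILetI false

namespace Cfsg.Agent.Lib.SolvClass.BlockSize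

open Module

universe u

/-- The Fitting subgroup has order prime to `p` when there is no normal `p`-subgroup. -/
theorem not_dvd_fitting {H : Type u} [Group H] [Finite H] (p : ℕ) [Fact p.Prime]
    (hcore : ∀ U : Subgroup H, U.Normal → IsPGroup p U → U = ⊥) :
    ¬ p ∣ Nat.card (fittingSubgroup H) := by
  set F := fittingSubgroup H
  have hnil : Group.IsNilpotent F := Cores.fittingSubgroup_isNilpotent
  obtain ⟨P⟩ : Nonempty (Sylow p F) := inferInstance
  have hPn : (P : Subgroup F).Normal :=
    (Group.isNilpotent_of_finite_tfae.out 0 3 rfl rfl).mp hnil p ‹Fact p.Prime› P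
  haveI : (P : Subgroup F).Characteristic := P.characteristic_of_normal hPn
  have hN := Cores.normal_map_subtype F (P : Subgroup F)
  have hbot := hcore _ hN
    (P.isPGroup'.of_equiv ((P : Subgroup F).equivMapOfInjective _ F.subtype_injective))
  rw [Subgroup.map_eq_bot_iff_of_injective _ F.subtype_injective] at hbot
  intro hd
  exact P.ne_bot_of_dvd_card hd hbot

/-- A normal subgroup `M` such that `k(M) · k(S M / M)` is at most `3 ^ (a - 1) · p ^ a`, where
`p ^ a` is the `p`-part of the group order. -/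
theorem exists_normal_bound {K : Type u} [Group K] [Finite K] [Group.IsSolvable K] [Nontrivial K]
    (p : ℕ) [hp : Fact p.Prime] (h1 : Cfsg.pPrimeCore p K = ⊥) :
    ∃ (M : Subgroup K) (_ : M.Normal), ∀ S : Subgroup K,
      k M * k (S.map (QuotientGroup.mk' M)) ≤
        3 ^ ((Nat.card K).factorization p - 1) * p ^ (Nat.card K).factorization p := by
  classical
  have hsol : Cfsg.IsPSolvable p K := PSolvable.isPSolvable_of_isSolvable
  obtain ⟨V, _, _, _, π, f, hπs, hπm, hπ0, hf, hπc⟩ := PSolvable.exists_module hsol h1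
  have hPp : IsPGroup p (Cfsg.pCore p K) := Cores.pCore_isPGroup p
  haveI : Nontrivial (Cfsg.pCore p K) :=
    (Subgroup.nontrivial_iff_ne_bot (Cfsg.pCore p K)).2 (PSolvable.pCore_ne_bot hsol h1)
  haveI : Nontrivial V := by
    by_contra hV
    rw [not_nontrivial_iff_subsingleton] at hV
    have hfr : (⊥ : Subgroup (Cfsg.pCore p K)) ⊔ frattini (Cfsg.pCore p K) = ⊤ :=
      eq_top_iff.2 fun u _ => Subgroup.mem_sup_right ((hπ0 u).1 (Subsingleton.elim _ _))
    exact bot_ne_top (frattini_nongenerating hfr)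
  set r := finrank (ZMod p) V with hr
  have hr0 : 0 < r := Module.finrank_pos
  let e : V ≃ₗ[ZMod p] (Fin r → ZMod p) := (Module.finBasis (ZMod p) V).equivFun
  let L : K ⧸ (Cfsg.pCore p K) →* Module.End (ZMod p) (Fin r → ZMod p) :=
    { toFun := fun x => e.toLinearMap ∘ₗ f x ∘ₗ e.symm.toLinearMap
      map_one' := LinearMap.ext fun v => by simp
      map_mul' := fun a b => LinearMap.ext fun v => by simp }
  let ρ : K ⧸ (Cfsg.pCore p K) →* ((Fin r → ZMod p) ≃ₗ[ZMod p] (Fin r → ZMod p)) :=
    (LinearMap.GeneralLinearGroup.generalLinearEquiv (ZMod p) (Fin r → ZMod p)).toMonoidHom.comp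
      L.toHomUnits
  have hρapp : ∀ x v, ρ x v = e (f x (e.symm v)) := fun x v => rfl
  have hρ : Function.Injective ρ := fun a b hab => hf (LinearMap.ext fun v => e.injective (by
    have := LinearEquiv.congr_fun hab (e v)
    rwa [hρapp, hρapp, e.symm_apply_apply] at this))
  have hcore : ∀ U : Subgroup (K ⧸ (Cfsg.pCore p K)), U.Normal → IsPGroup p U → U = ⊥ := fun U hU hUp =>
    le_bot_iff.1 ((Cores.le_pCore hUp).trans_eq (Cores.pCore_quotient_pCore p))
  have hV : 0 < finrank (ZMod p) (Fin r → ZMod p) := by rw [Module.finrank_fin_fun]; exact hr0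
  set F := fittingSubgroup (K ⧸ (Cfsg.pCore p K)) with hF
  have hgood := good_fitting p ρ hρ hcore hV
  have hFp : ¬ p ∣ Nat.card F := not_dvd_fitting p hcore
  have hFp' : ¬ p ∣ Nat.card (F.map ρ) := by
    rwa [← Nat.card_congr (F.equivMapOfInjective ρ hρ).toEquiv]
  refine ⟨F.comap (QuotientGroup.mk' (Cfsg.pCore p K)), inferInstance, fun S => ?_⟩
  set M := F.comap (QuotientGroup.mk' (Cfsg.pCore p K)) with hM
  have hPM : (Cfsg.pCore p K) ≤ M := fun x hx => by
    rw [hM, Subgroup.mem_comap, QuotientGroup.mk'_apply, (QuotientGroup.eq_one_iff x).2 hx]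
    exact one_mem F
  let q : M →* F := ((QuotientGroup.mk' (Cfsg.pCore p K)).comp M.subtype).codRestrict F fun x => x.2
  have hqs : Function.Surjective q := fun y => by
    obtain ⟨x, hx⟩ := QuotientGroup.mk'_surjective (Cfsg.pCore p K) (y : K ⧸ (Cfsg.pCore p K))
    exact ⟨⟨x, show QuotientGroup.mk' (Cfsg.pCore p K) x ∈ F from hx ▸ y.2⟩, Subtype.ext hx⟩
  set Q := (Cfsg.pCore p K).subgroupOf M with hQ
  have hker : q.ker = Q := by
    ext x
    rw [MonoidHom.mem_ker, ← Subtype.coe_inj, hQ, Subgroup.mem_subgroupOf]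
    exact QuotientGroup.eq_one_iff _
  have hidx : Q.index = Nat.card F := by
    rw [← hker, Subgroup.index_ker, MonoidHom.range_eq_top.2 hqs, Subgroup.card_top]
  have hQcard : Nat.card Q = Nat.card (Cfsg.pCore p K) := Nat.card_congr (Subgroup.subgroupOfEquivOfLe hPM).toEquiv
  obtain ⟨a, ha⟩ := IsPGroup.iff_card.1 hPp
  obtain ⟨C, hC⟩ := Subgroup.exists_right_complement'_of_coprime (N := Q) (by
    rw [hQcard, ha, hidx]
    exact Nat.Coprime.pow_left _ (hp.out.coprime_iff_not_dvd.2 hFp))
  have hCcard : Nat.card C = Nat.card F := by rw [← hC.symm.index_eq_card, hidx]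
  let ψ : C →* F := q.comp C.subtype
  have hψ : Function.Bijective ψ := by
    haveI := Fintype.ofFinite C
    haveI := Fintype.ofFinite F
    refine (Fintype.bijective_iff_injective_and_card ψ).2 ⟨(injective_iff_map_eq_one ψ).2
      fun c hc => ?_, by rwa [← Nat.card_eq_fintype_card, ← Nat.card_eq_fintype_card]⟩
    have h2 : (c : M) ∈ Q ⊓ C := ⟨hker ▸ hc, c.2⟩
    rw [hC.disjoint.eq_bot] at h2
    exact Subtype.ext h2
  let fn : Q →* Multiplicative (Fin r → ZMod p) :=
    { toFun := fun u => Multiplicative.ofAdd (e (π ⟨((u : M) : K), u.2⟩))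
      map_one' := by
        refine congrArg Multiplicative.ofAdd ?_
        rw [show (⟨((1 : Q) : M).1, (1 : Q).2⟩ : (Cfsg.pCore p K)) = 1 from rfl, PSolvable.pi_one hπm, map_zero]
      map_mul' := fun u v => by
        rw [← ofAdd_add, ← map_add, ← hπm]
        rfl }
  let fg : C →* F.map ρ := (F.equivMapOfInjective ρ hρ).toMonoidHom.comp ψ
  let g := SemidirectProduct.map (φ₂ := act.comp (F.map ρ).subtype)
    (φ₁ := (Q.normalizerMonoidHom).comp (Subgroup.inclusion (Q.normalizer_eq_top ▸ le_top : C ≤ _)))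
    fn fg (fun c => MonoidHom.ext fun u => by
      show Multiplicative.ofAdd (e (π _)) = Multiplicative.ofAdd
        (ρ ((ψ c : F) : K ⧸ (Cfsg.pCore p K)) (e (π ⟨((u : M) : K), u.2⟩)))
      rw [hρapp, e.symm_apply_apply, show ((ψ c : F) : K ⧸ (Cfsg.pCore p K)) = ((c : M) : K) from rfl, hπc]
      rfl)
  have hgs : Function.Surjective g := fun b => by
    obtain ⟨u, hu⟩ := hπs (e.symm b.left.toAdd)
    obtain ⟨y, hy⟩ := (F.equivMapOfInjective ρ hρ).surjective b.right
    obtain ⟨c, rfl⟩ := hψ.2 y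
    refine ⟨⟨⟨⟨(u : K), hPM u.2⟩, u.2⟩, c⟩, SemidirectProduct.ext ?_ hy⟩
    show Multiplicative.ofAdd (e (π u)) = b.left
    rw [hu, e.apply_symm_apply, ofAdd_toAdd]
  have hcardW : Nat.card (Fin r → ZMod p) = p ^ r := by
    rw [Nat.card_fun, Nat.card_zmod, Nat.card_fin]
  have hkercard : Nat.card g.ker * p ^ r = p ^ a := by
    have h2 := g.ker.card_mul_index
    rw [Subgroup.index_ker, MonoidHom.range_eq_top.2 hgs, Subgroup.card_top,
      Nat.card_congr SemidirectProduct.equivProd, Nat.card_prod,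
      Nat.card_congr Multiplicative.toAdd, hcardW,
      ← Nat.card_congr (F.equivMapOfInjective ρ hρ).toEquiv,
      Nat.card_congr SemidirectProduct.equivProd, Nat.card_prod, hQcard, hCcard, ha,
      ← mul_assoc] at h2
    exact Nat.eq_of_mul_eq_mul_right Nat.card_pos h2
  have hkM : k M ≤ Nat.card g.ker * kv (F.map ρ).subtype := by
    rw [← k_congr (SemidirectProduct.mulEquivSubgroup hC)]
    haveI : Finite (SemidirectProduct Q C
        ((Q.normalizerMonoidHom).comp (Subgroup.inclusion (Q.normalizer_eq_top ▸ le_top)))) :=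
      Finite.of_equiv _ SemidirectProduct.equivProd.symm
    exact (k_le_mul_surjective g hgs).trans (Nat.mul_le_mul_right _ k_le_card)
  have hkS : k (S.map (QuotientGroup.mk' M)) =
      k ((S.map (QuotientGroup.mk' (Cfsg.pCore p K))).map (QuotientGroup.mk' F)) := by
    rw [Subgroup.map_map]
    exact k_map_congr _ _ _ fun x _ => by simp [M]
  have hbound := hgood F le_rfl hFp' (S.map (QuotientGroup.mk' (Cfsg.pCore p K)))
  rw [Module.finrank_fin_fun, hcardW] at hbound
  set d := (Nat.card K).factorization p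
  have had : a ≤ d := (hp.out.pow_dvd_iff_le_factorization Nat.card_pos.ne').1
    (ha ▸ (Cfsg.pCore p K).card_subgroup_dvd_card)
  have hra : r ≤ a := (Nat.pow_dvd_pow_iff_le_right hp.out.one_lt).1 (hkercard ▸ dvd_mul_left _ _)
  calc k M * k (S.map (QuotientGroup.mk' M))
      ≤ Nat.card g.ker * kv (F.map ρ).subtype *
          k ((S.map (QuotientGroup.mk' (Cfsg.pCore p K))).map (QuotientGroup.mk' F)) := by
        rw [hkS]; exact Nat.mul_le_mul_right _ hkM
    _ ≤ Nat.card g.ker * (3 ^ (r - 1) * p ^ r) := by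
        rw [mul_assoc]; exact Nat.mul_le_mul_left _ hbound
    _ = 3 ^ (r - 1) * p ^ a := by rw [← hkercard]; ring
    _ ≤ 3 ^ (d - 1) * p ^ d :=
        Nat.mul_le_mul (Nat.pow_le_pow_right (by norm_num) (by omega))
          (Nat.pow_le_pow_right hp.out.pos had)

end Cfsg.Agent.Lib.SolvClass.BlockSize
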