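import Cfsg.Agent.Lib.SolvClass.Main

/-!
# The combined bound for an arbitrary representation of a soluble group
-/

set_option autoImplicit false
set_option linter.style.haveILetI false

namespace Cfsg.Agent.Lib.SolvClass

open Module

universe u

/-- An element acting trivially on an invariant subspace and on the quotient by it has `p`-th
power one in characteristic `p`. -/
theorem pow_char_eq_one {L : Type} [Field L] (p : ℕ) [CharP L p] {V : Type} [AddCommGroup V]
    [Module L V] (W : Submodule L V) (y : V ≃ₗ[L] V) (h1 : ∀ w ∈ W, y w = w)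
    (h2 : ∀ v, y v - v ∈ W) : y ^ p = 1 := by
  have key : ∀ (n : ℕ) (v : V), (y ^ n) v = v + (n : L) • (y v - v) := by
    intro n
    induction n with
    | zero => intro v; simp
    | succ n ih =>
      intro v
      rw [pow_succ', LinearEquiv.mul_apply, ih, map_add, map_smul, h1 _ (h2 v), Nat.cast_succ,
        add_smul, one_smul]
      abel
  exact LinearEquiv.ext fun v => by rw [key, CharP.cast_eq_zero, zero_smul, add_zero]; rfl

/-- For every representation of a finite soluble group there is a normal subgroup containing all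
normal nilpotent subgroups, nilpotent modulo a normal subgroup acting as a `p`-group, for which
the combined bound holds. -/
theorem exists_good {G : Type u} [Group G] [Finite G] [Group.IsSolvable G] {L : Type} [Field L]
    [Finite L] (p : ℕ) [Fact p.Prime] [CharP L p] {V : Type} [AddCommGroup V] [Module L V]
    [Finite V] (ρ : G →* (V ≃ₗ[L] V)) (hV : 0 < finrank L V) :
    ∃ (N : Subgroup G) (_ : N.Normal) (U : Subgroup G) (_ : U.Normal),
      Good ρ N p (3 ^ (finrank L V - 1) * Nat.card V) ∧
      (∀ M : Subgroup G, M.Normal → Group.IsNilpotent M → M ≤ N) ∧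
      IsPGroup p (U.map ρ) ∧ Group.IsNilpotent (N.map (QuotientGroup.mk' U)) := by
  induction hn : finrank L V using Nat.strong_induction_on generalizing V with
  | _ r ih =>
  subst hn
  haveI := finite_GL (L := L) (V := V)
  haveI : Module.Finite L V := Module.Finite.of_finite
  haveI : Nontrivial V := Module.finrank_pos_iff.1 hV
  by_cases hirr : ∀ W : Submodule L V, (∀ g, ∀ w ∈ W, ρ g w ∈ W) → W = ⊥ ∨ W = ⊤
  · have hgood := mainBound _ L V p ρ.range
      (Group.isSolvable_of_surjective ρ.rangeRestrict_surjective) (irr_range ρ hirr) rfl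
    refine ⟨(fittingSubgroup ρ.range).comap ρ.rangeRestrict, inferInstance, ρ.ker, inferInstance,
      hgood.comp ρ.rangeRestrict, fun M hM hMn => ?_, ?_, ?_⟩
    · rw [← Subgroup.map_le_iff_le_comap]
      haveI := Subgroup.Normal.map hM _ ρ.rangeRestrict_surjective
      exact Cores.le_fittingSubgroup (Cores.isNilpotent_map _ hMn)
    · rw [show ρ.ker.map ρ = ⊥ from (Subgroup.map_eq_bot_iff _).2 le_rfl]
      exact IsPGroup.of_bot
    · let e := QuotientGroup.kerLift ρ.rangeRestrict
      haveI : Group.IsNilpotent (fittingSubgroup ρ.range) := Cores.fittingSubgroup_isNilpotent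
      set N := (fittingSubgroup ρ.range).comap ρ.rangeRestrict with hN
      let f : G ⧸ ρ.ker →* ρ.range :=
        QuotientGroup.lift ρ.ker ρ.rangeRestrict (MonoidHom.ker_rangeRestrict ρ).ge
      have hf : Function.Injective f := by
        rw [← MonoidHom.ker_eq_bot_iff, QuotientGroup.ker_lift, MonoidHom.ker_rangeRestrict,
          QuotientGroup.map_mk'_self]
      have hle : (N.map (QuotientGroup.mk' ρ.ker)).map f ≤ fittingSubgroup ρ.range := by
        rw [Subgroup.map_map, show f.comp (QuotientGroup.mk' ρ.ker) = ρ.rangeRestrict from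
          MonoidHom.ext fun _ => rfl]
        exact Subgroup.map_comap_le _ _
      haveI := Cores.isNilpotent_of_le hle Cores.fittingSubgroup_isNilpotent
      exact Group.nilpotent_of_mulEquiv
        ((N.map (QuotientGroup.mk' ρ.ker)).equivMapOfInjective f hf).symm
  push Not at hirr
  obtain ⟨W, hW, hW0, hW1⟩ := hirr
  have hd1 : 0 < finrank L W := Nat.pos_of_ne_zero fun h => hW0 (Submodule.finrank_eq_zero.1 h)
  have hlt : finrank L W < finrank L V := Submodule.finrank_lt hW1
  have hadd := Submodule.finrank_quotient_add_finrank W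
  have hd2 : 0 < finrank L (V ⧸ W) := by omega
  haveI : Finite (V ⧸ W) := Finite.of_surjective _ (Submodule.Quotient.mk_surjective W)
  obtain ⟨N₁, _, U₁, _, g₁, n₁, p₁, nil₁⟩ := ih _ hlt (subRep ρ W hW) hd1 rfl
  obtain ⟨N₂, _, U₂, _, g₂, n₂, p₂, nil₂⟩ := ih _ (by omega) (quotRep ρ W hW) hd2 rfl
  refine ⟨N₁ ⊓ N₂, inferInstance, U₁ ⊓ U₂, inferInstance,
    (Good.of_submodule p g₁ g₂).mono ?_, fun M hM hMn => le_inf (n₁ M hM hMn) (n₂ M hM hMn),
    ?_, ?_⟩
  · have hc := W.card_eq_card_quotient_mul_card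
    rw [hc]
    calc 3 ^ (finrank L W - 1) * Nat.card W * (3 ^ (finrank L (V ⧸ W) - 1) * Nat.card (V ⧸ W))
        = 3 ^ (finrank L W - 1 + (finrank L (V ⧸ W) - 1)) * (Nat.card W * Nat.card (V ⧸ W)) := by
          rw [pow_add]; ring
      _ ≤ 3 ^ (finrank L V - 1) * (Nat.card W * Nat.card (V ⧸ W)) :=
          Nat.mul_le_mul_right _ (Nat.pow_le_pow_right (by norm_num) (by omega))
  · rintro ⟨-, x, hx, rfl⟩
    obtain ⟨a, ha⟩ := p₁ ⟨_, x, hx.1, rfl⟩
    obtain ⟨b, hb⟩ := p₂ ⟨_, x, hx.2, rfl⟩
    refine ⟨a + b + 1, Subtype.ext ?_⟩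
    have ha' : subRep ρ W hW (x ^ p ^ (a + b)) = 1 := by
      rw [pow_add, pow_mul, map_pow, map_pow, show subRep ρ W hW x ^ p ^ a = 1 from
        congrArg Subtype.val ha, one_pow]
    have hb' : quotRep ρ W hW (x ^ p ^ (a + b)) = 1 := by
      rw [add_comm, pow_add, pow_mul, map_pow, map_pow, show quotRep ρ W hW x ^ p ^ b = 1 from
        congrArg Subtype.val hb, one_pow]
    show ρ x ^ p ^ (a + b + 1) = 1
    rw [pow_succ, pow_mul, ← map_pow]
    refine pow_char_eq_one p W _ (fun w hw => ?_) (fun v => ?_)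
    · exact congrArg Subtype.val (LinearEquiv.congr_fun ha' ⟨w, hw⟩)
    · rw [← Submodule.Quotient.eq]
      exact LinearEquiv.congr_fun hb' (Submodule.Quotient.mk v)
  · let f : G ⧸ (U₁ ⊓ U₂) →* (G ⧸ U₁) × (G ⧸ U₂) :=
      QuotientGroup.lift _ ((QuotientGroup.mk' U₁).prod (QuotientGroup.mk' U₂))
        (by rw [MonoidHom.ker_prod, QuotientGroup.ker_mk', QuotientGroup.ker_mk'])
    have hf : Function.Injective f := by
      rw [← MonoidHom.ker_eq_bot_iff, QuotientGroup.ker_lift, MonoidHom.ker_prod,
        QuotientGroup.ker_mk', QuotientGroup.ker_mk', QuotientGroup.map_mk'_self]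
    set P := (N₁.map (QuotientGroup.mk' U₁)).prod (N₂.map (QuotientGroup.mk' U₂))
    haveI := nil₁
    haveI := nil₂
    haveI : Group.IsNilpotent P := Group.nilpotent_of_mulEquiv (Subgroup.prodEquiv _ _).symm
    have hle : ((N₁ ⊓ N₂).map (QuotientGroup.mk' (U₁ ⊓ U₂))).map f ≤ P := by
      rintro _ ⟨_, ⟨x, hx, rfl⟩, rfl⟩
      exact ⟨⟨x, hx.1, rfl⟩, ⟨x, hx.2, rfl⟩⟩
    haveI := Cores.isNilpotent_of_le hle inferInstance
    exact Group.nilpotent_of_mulEquiv
      (((N₁ ⊓ N₂).map (QuotientGroup.mk' (U₁ ⊓ U₂))).equivMapOfInjective f hf).symm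

/-- A faithful representation of a soluble group without nontrivial normal `p`-subgroups. -/
theorem good_fitting {G : Type u} [Group G] [Finite G] [Group.IsSolvable G] {L : Type} [Field L]
    [Finite L] (p : ℕ) [Fact p.Prime] [CharP L p] {V : Type} [AddCommGroup V] [Module L V]
    [Finite V] (ρ : G →* (V ≃ₗ[L] V)) (hρ : Function.Injective ρ)
    (hcore : ∀ U : Subgroup G, U.Normal → IsPGroup p U → U = ⊥) (hV : 0 < finrank L V) :
    Good ρ (fittingSubgroup G) p (3 ^ (finrank L V - 1) * Nat.card V) := by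
  obtain ⟨N, hN, U, hU, hgood, hnil, hp, hq⟩ := exists_good p ρ hV
  have hUbot : U = ⊥ := hcore U hU (hp.of_equiv (U.equivMapOfInjective ρ hρ).symm)
  subst hUbot
  have hinj : Function.Injective (QuotientGroup.mk' (⊥ : Subgroup G)) := by
    rw [← MonoidHom.ker_eq_bot_iff, QuotientGroup.ker_mk']
  haveI := hq
  haveI : Group.IsNilpotent N := Group.nilpotent_of_mulEquiv (N.equivMapOfInjective _ hinj).symm
  exact hgood.congr (le_antisymm (Cores.le_fittingSubgroup inferInstance)
    (hnil _ inferInstance Cores.fittingSubgroup_isNilpotent))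

/-- In that situation the class numbers of the sections above the Fitting subgroup are bounded. -/
theorem k_quot_fitting_le {G : Type u} [Group G] [Finite G] [Group.IsSolvable G] {L : Type}
    [Field L] [Finite L] (p : ℕ) [Fact p.Prime] [CharP L p] {V : Type} [AddCommGroup V]
    [Module L V] [Finite V] (ρ : G →* (V ≃ₗ[L] V)) (hρ : Function.Injective ρ)
    (hcore : ∀ U : Subgroup G, U.Normal → IsPGroup p U → U = ⊥) (hV : 0 < finrank L V)
    (S : Subgroup G) :
    k (S.map (QuotientGroup.mk' (fittingSubgroup G))) ≤ 3 ^ (finrank L V - 1) := by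
  haveI := finite_GL (L := L) (V := V)
  have h := good_fitting p ρ hρ hcore hV ⊥ bot_le
    (by rw [Subgroup.map_bot, Subgroup.card_bot]; exact (Fact.out : p.Prime).not_dvd_one) S
  haveI : Subsingleton ((⊥ : Subgroup G).map ρ) := by rw [Subgroup.map_bot]; infer_instance
  have h2 := (Nat.mul_le_mul_right _ (card_le_kv ((⊥ : Subgroup G).map ρ).subtype)).trans h
  rw [mul_comm (3 ^ _)] at h2
  exact Nat.le_of_mul_le_mul_left h2 Nat.card_pos

end Cfsg.Agent.Lib.SolvClass
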