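import Cfsg.Agent.Lib.SolvClass.AbelianBound
import Cfsg.Agent.Lib.SolvClass.Wrapper
import Mathlib.FieldTheory.IsAlgClosed.AlgebraicClosure

/-!
# A soluble group centralising an element of large prime order
-/

set_option autoImplicit false
set_option linter.style.haveILetI false
set_option linter.unusedSectionVars false

namespace Cfsg.Agent.Lib.SolvClass.ClassLinear

open Module Polynomial Cfsg.Agent.Lib.SolvClass

/-- Polynomials in intertwined operators are intertwined. -/
theorem aeval_intertwine {K : Type*} [CommRing K] {V V' : Type*} [AddCommGroup V] [Module K V]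
    [AddCommGroup V'] [Module K V'] (f : V →ₗ[K] V') (T : Module.End K V) (T' : Module.End K V')
    (h : ∀ v, f (T v) = T' (f v)) (P : K[X]) : ∀ v, f (aeval T P v) = aeval T' P (f v) := by
  induction P using Polynomial.induction_on with
  | C a => intro v; simp [Module.algebraMap_end_apply]
  | add a b ha hb => intro v; simp [ha, hb]
  | monomial n a ih =>
    intro v
    rw [pow_succ, ← mul_assoc, map_mul (aeval T), map_mul (aeval T'), Module.End.mul_apply,
      Module.End.mul_apply, aeval_X, aeval_X, ih, h]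

variable {q : ℕ} [Fact q.Prime] {p : ℕ} [Fact p.Prime]

/-- The centraliser of a fixed point free element of prime order `p ≥ 4096` has a subgroup that is
abelian up to a `q`-group, small compared with the module and the minimal polynomial. -/
theorem exists_linear_bound (hp : 4096 ≤ p) {C : Type} [Group C] [Finite C] [Group.IsSolvable C]
    (x : C) (hx : ∀ c, c * x = x * c) (hxp : x ^ p = 1) {V : Type} [AddCommGroup V]
    [Module (ZMod q) V] [Finite V] (ρ : C →* (V ≃ₗ[ZMod q] V))
    (hfix : ∀ v, ρ x v = v → v = 0) :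
    ∃ (B U : Subgroup C) (_ : U.Normal) (P : (ZMod q)[X]), P.Monic ∧
      (∀ v, aeval ((ρ x : V ≃ₗ[ZMod q] V) : Module.End (ZMod q) V) P v = 0) ∧
      2 ^ P.natDegree * B.index ^ 2 ≤ Nat.card V ∧ IsPGroup q (U.map ρ) ∧
      ∀ a ∈ B, ∀ b ∈ B, a * b * (b * a)⁻¹ ∈ U := by
  classical
  induction hn : Nat.card V using Nat.strong_induction_on generalizing V with
  | _ n ih =>
  subst hn
  haveI := finite_GL (L := ZMod q) (V := V)
  rcases subsingleton_or_nontrivial V with hV | hV
  · refine ⟨⊤, ⊤, inferInstance, 1, monic_one, fun v => Subsingleton.elim _ _, ?_, ?_,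
      fun _ _ _ _ => trivial⟩
    · simp [Nat.card_unique]
    · haveI : Subsingleton (V ≃ₗ[ZMod q] V) :=
        ⟨fun f g => LinearEquiv.ext fun v => Subsingleton.elim _ _⟩
      exact fun g => ⟨0, Subsingleton.elim _ _⟩
  haveI : Module.Finite (ZMod q) V := Module.Finite.of_finite
  by_cases hirr : ∀ W : Submodule (ZMod q) V, (∀ g, ∀ w ∈ W, ρ g w ∈ W) → W = ⊥ ∨ W = ⊤
  · set T : Module.End (ZMod q) V := ((ρ x : V ≃ₗ[ZMod q] V) : Module.End (ZMod q) V) with hT
    let D : Subalgebra (ZMod q) (Module.End (ZMod q) V) := Algebra.adjoin (ZMod q) {T}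
    have hcT : ∀ (c : C) (d : Module.End (ZMod q) V), d ∈ D → ∀ v, ρ c (d v) = d (ρ c v) := by
      intro c d hd
      obtain ⟨P, rfl⟩ := (Algebra.adjoin_singleton_eq_range_aeval (ZMod q) T).le hd
      exact aeval_intertwine ((ρ c : V ≃ₗ[ZMod q] V) : V →ₗ[ZMod q] V) T T (fun v => by
        show ρ c (ρ x v) = ρ x (ρ c v)
        rw [← LinearEquiv.mul_apply, ← LinearEquiv.mul_apply, ← map_mul, ← map_mul, hx c]) P
    have hinjD : ∀ d ∈ D, ∀ v : V, v ≠ 0 → d v = 0 → d = 0 := by
      intro d hd v hv hdv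
      rcases hirr (LinearMap.ker d) (fun g w hw => by
        rw [LinearMap.mem_ker] at hw ⊢
        rw [← hcT g d hd w, hw, map_zero]) with h | h
      · exact absurd ((LinearMap.ker_eq_bot'.1 h) v hdv) hv
      · exact LinearMap.ker_eq_top.1 h
    letI : CommRing D := Algebra.adjoinCommRingOfComm (ZMod q)
      (fun a ha b hb => by rw [Set.mem_singleton_iff.1 ha, Set.mem_singleton_iff.1 hb])
    haveI : Finite (Module.End (ZMod q) V) :=
      Finite.of_injective (fun f => (f : V → V)) DFunLike.coe_injective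
    haveI : Nontrivial D := ⟨⟨0, 1, fun h => by
      obtain ⟨v, hv⟩ := exists_ne (0 : V)
      exact hv (by simpa using (LinearMap.congr_fun (congrArg Subtype.val h) v).symm)⟩⟩
    haveI : NoZeroDivisors D := ⟨fun {a b} hab => by
      by_cases hb : b = 0
      · exact Or.inr hb
      obtain ⟨v, hv⟩ : ∃ v, (b : Module.End (ZMod q) V) v ≠ 0 := by
        by_contra hall
        push Not at hall
        exact hb (Subtype.ext (LinearMap.ext hall))
      exact Or.inl (Subtype.ext
        (hinjD a a.2 _ hv (LinearMap.congr_fun (congrArg Subtype.val hab) v :)))⟩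
    haveI : IsDomain D := NoZeroDivisors.to_isDomain D
    haveI := Fintype.ofFinite D
    letI : Field D := Fintype.fieldOfDomain D
    haveI : IsScalarTower (ZMod q) D V := ⟨fun c d v => by
      show ((c • d : D) : Module.End (ZMod q) V) v = c • (d : Module.End (ZMod q) V) v
      simp⟩
    haveI : Module.Finite D V := Module.Finite.of_finite
    haveI : Module.Finite (ZMod q) D := Module.Finite.of_finite
    let ζ : D := ⟨T, Algebra.subset_adjoin rfl⟩
    have hTpow : ∀ n : ℕ, T ^ n = ((ρ (x ^ n) : V ≃ₗ[ZMod q] V) : Module.End (ZMod q) V) := by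
      intro n
      induction n with
      | zero => rw [pow_zero, pow_zero, map_one]; rfl
      | succ n ihn => rw [pow_succ, ihn, pow_succ, map_mul]; rfl
    have hζp : ζ ^ p = 1 := Subtype.ext (by
      show T ^ p = 1
      rw [hTpow, hxp, map_one]; rfl)
    have hζ1 : ζ ≠ 1 := fun h => by
      obtain ⟨v, hv⟩ := exists_ne (0 : V)
      exact hv (hfix v (LinearMap.congr_fun (congrArg Subtype.val h) v))
    have hcardD : 4096 ≤ Nat.card D := by
      have h1 : orderOf ζ = p := orderOf_eq_prime hζp hζ1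
      have h2 : IsUnit ζ := IsUnit.of_pow_eq_one hζp (Fact.out : p.Prime).ne_zero
      have h3 : p ≤ Nat.card D := by
        rw [← h1, ← h2.unit_spec, orderOf_units]
        exact (Nat.le_of_dvd Nat.card_pos (orderOf_dvd_natCard h2.unit)).trans
          (Nat.card_le_card_of_injective _ Units.val_injective)
      omega
    let ρ' : C →* (V ≃ₗ[D] V) :=
      { toFun := fun c =>
          { toFun := ρ c
            map_add' := fun a b => map_add _ a b
            map_smul' := fun d v => hcT c d d.2 v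
            invFun := (ρ c).symm
            left_inv := (ρ c).left_inv
            right_inv := (ρ c).right_inv }
        map_one' := LinearEquiv.ext fun v => by simp
        map_mul' := fun a b => LinearEquiv.ext fun v => by simp [LinearEquiv.mul_apply] }
    haveI := finite_GL (L := D) (V := V)
    have hirr' : Irr ρ'.range := irr_range ρ' fun W hW => by
      rcases hirr (W.restrictScalars (ZMod q)) (fun g w hw => hW g w hw) with h | h
      · exact Or.inl ((Submodule.restrictScalars_eq_bot_iff _ _ _).1 h)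
      · exact Or.inr ((Submodule.restrictScalars_eq_top_iff _ _ _).1 h)
    obtain ⟨B, hB, hBidx⟩ := exists_abelian_subgroup_sq ρ'.range
      (Group.isSolvable_of_surjective ρ'.rangeRestrict_surjective) hirr' hcardD
    refine ⟨B.comap ρ'.rangeRestrict, ρ.ker, inferInstance, minpoly (ZMod q) ζ,
      minpoly.monic (Algebra.IsIntegral.isIntegral ζ), fun v => ?_, ?_, ?_, ?_⟩
    · have h := aeval_algHom_apply D.val ζ (minpoly (ZMod q) ζ)
      rw [minpoly.aeval, map_zero] at h
      exact LinearMap.congr_fun h v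
    · rw [B.index_comap_of_surjective ρ'.rangeRestrict_surjective]
      have h2 : 2 ^ (minpoly (ZMod q) ζ).natDegree ≤ Nat.card D := by
        rw [Module.natCard_eq_pow_finrank (K := ZMod q) (V := D), Nat.card_zmod]
        exact (Nat.pow_le_pow_left (Fact.out : q.Prime).two_le _).trans
          (Nat.pow_le_pow_right (Fact.out : q.Prime).pos (minpoly.natDegree_le ζ))
      calc _ ≤ Nat.card D * Nat.card D ^ (finrank D V - 1) := Nat.mul_le_mul h2 hBidx
        _ = Nat.card D ^ finrank D V := by
            rw [← pow_succ']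
            congr 1
            have : 0 < finrank D V := Module.finrank_pos
            omega
        _ = Nat.card V := (Module.natCard_eq_pow_finrank (K := D) (V := V)).symm
    · rw [show ρ.ker.map ρ = ⊥ from (Subgroup.map_eq_bot_iff _).2 le_rfl]
      exact IsPGroup.of_bot
    · intro a ha b hb
      rw [MonoidHom.mem_ker]
      have h := congrArg Subtype.val (hB _ ha _ hb)
      have h2 : ρ (a * b) = ρ (b * a) := LinearEquiv.ext fun v => by
        rw [map_mul, map_mul, LinearEquiv.mul_apply, LinearEquiv.mul_apply]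
        exact LinearEquiv.congr_fun h v
      rw [map_mul ρ (a * b), map_inv, h2, mul_inv_cancel]
  push Not at hirr
  obtain ⟨W, hW, hW0, hW1⟩ := hirr
  haveI : Finite (V ⧸ W) := Finite.of_surjective _ (Submodule.Quotient.mk_surjective W)
  have hWfix : ∀ w : W, subRep ρ W hW x w = w → w = 0 := fun w h =>
    Subtype.ext (hfix w (congrArg Subtype.val h))
  have hQfix : ∀ w : V ⧸ W, quotRep ρ W hW x w = w → w = 0 := by
    intro w hw
    obtain ⟨v, rfl⟩ := Submodule.Quotient.mk_surjective W w
    have hmem : ρ x v - v ∈ W := (Submodule.Quotient.eq W).1 hw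
    let δ : W → W := fun w => subRep ρ W hW x w - w
    have hδ : Function.Injective δ := fun a b h => by
      refine sub_eq_zero.1 (hWfix (a - b) ?_)
      rw [map_sub, sub_eq_sub_iff_sub_eq_sub]
      exact h
    obtain ⟨w', hw'⟩ := Finite.injective_iff_surjective.1 hδ ⟨_, hmem⟩
    have h1 : ρ x (w' : V) - (w' : V) = ρ x v - v := congrArg Subtype.val hw'
    have h2 : v - w' = 0 := hfix _ (by rw [map_sub, sub_eq_sub_iff_sub_eq_sub]; exact h1.symm)
    rw [Submodule.Quotient.mk_eq_zero, sub_eq_zero.1 h2]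
    exact w'.2
  have hcard := W.card_eq_card_quotient_mul_card
  have hW2 : 1 < Nat.card W := by
    haveI : Nontrivial W := Submodule.nontrivial_iff_ne_bot.2 hW0
    exact Finite.one_lt_card
  have hQ2 : 1 < Nat.card (V ⧸ W) := by
    haveI : Nontrivial (V ⧸ W) := Submodule.Quotient.nontrivial_iff.2 hW1
    exact Finite.one_lt_card
  obtain ⟨B₁, U₁, _, P₁, m₁, e₁, c₁, u₁, a₁⟩ := ih (Nat.card W) (by rw [hcard]; nlinarith)
    (subRep ρ W hW) hWfix rfl
  obtain ⟨B₂, U₂, _, P₂, m₂, e₂, c₂, u₂, a₂⟩ := ih (Nat.card (V ⧸ W)) (by rw [hcard]; nlinarith)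
    (quotRep ρ W hW) hQfix rfl
  refine ⟨B₁ ⊓ B₂, U₁ ⊓ U₂, inferInstance, P₁ * P₂, m₁.mul m₂, fun v => ?_, ?_, ?_,
    fun a ha b hb => ⟨a₁ a ha.1 b hb.1, a₂ a ha.2 b hb.2⟩⟩
  · set T : Module.End (ZMod q) V := ((ρ x : V ≃ₗ[ZMod q] V) : Module.End (ZMod q) V) with hT
    rw [map_mul, Module.End.mul_apply]
    have hmem : aeval T P₂ v ∈ W := by
      rw [← Submodule.Quotient.mk_eq_zero]
      have := aeval_intertwine W.mkQ T
        ((quotRep ρ W hW x : (V ⧸ W) ≃ₗ[ZMod q] (V ⧸ W)) : Module.End (ZMod q) (V ⧸ W))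
        (fun v => rfl) P₂ v
      exact this.trans (e₂ _)
    have := aeval_intertwine W.subtype
      ((subRep ρ W hW x : W ≃ₗ[ZMod q] W) : Module.End (ZMod q) W) T (fun w => rfl) P₁ ⟨_, hmem⟩
    exact this.symm.trans (by rw [e₁]; rfl)
  · rw [m₁.natDegree_mul m₂, pow_add, hcard]
    calc 2 ^ P₁.natDegree * 2 ^ P₂.natDegree * (B₁ ⊓ B₂).index ^ 2
        ≤ 2 ^ P₁.natDegree * 2 ^ P₂.natDegree * (B₁.index * B₂.index) ^ 2 :=
          Nat.mul_le_mul_left _ (Nat.pow_le_pow_left Subgroup.index_inf_le 2)
      _ = (2 ^ P₁.natDegree * B₁.index ^ 2) * (2 ^ P₂.natDegree * B₂.index ^ 2) := by ring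
      _ ≤ _ := Nat.mul_le_mul c₁ c₂
  · haveI : CharP (ZMod q) q := inferInstance
    rintro ⟨-, y, hy, rfl⟩
    obtain ⟨a, ha⟩ := u₁ ⟨_, y, hy.1, rfl⟩
    obtain ⟨b, hb⟩ := u₂ ⟨_, y, hy.2, rfl⟩
    refine ⟨a + b + 1, Subtype.ext ?_⟩
    have ha' : subRep ρ W hW (y ^ q ^ (a + b)) = 1 := by
      rw [pow_add, pow_mul, map_pow, map_pow, show subRep ρ W hW y ^ q ^ a = 1 from
        congrArg Subtype.val ha, one_pow]
    have hb' : quotRep ρ W hW (y ^ q ^ (a + b)) = 1 := by
      rw [add_comm, pow_add, pow_mul, map_pow, map_pow, show quotRep ρ W hW y ^ q ^ b = 1 from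
        congrArg Subtype.val hb, one_pow]
    show ρ y ^ q ^ (a + b + 1) = 1
    rw [pow_succ, pow_mul, ← map_pow]
    refine pow_char_eq_one q W _ (fun w hw => ?_) (fun v => ?_)
    · exact congrArg Subtype.val (LinearEquiv.congr_fun ha' ⟨w, hw⟩)
    · rw [← Submodule.Quotient.eq]
      exact LinearEquiv.congr_fun hb' (Submodule.Quotient.mk v)

/-- The conjugates of a fixed point free element of prime order are at most as many as the degree
of a polynomial it satisfies. -/
theorem card_exponents_le {V : Type} [AddCommGroup V] [Module (ZMod q) V] [Finite V]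
    [Nontrivial V] (T : Module.End (ZMod q) V) (hTp : T ^ p = 1)
    (hfix : ∀ v, T v = v → v = 0) (P : (ZMod q)[X]) (hP : P.Monic)
    (S : Finset ℕ) (hS : ∀ a ∈ S, a < p ∧ aeval (T ^ a) P = 0) : S.card ≤ P.natDegree := by
  classical
  haveI : Module.Finite (ZMod q) V := Module.Finite.of_finite
  haveI : Finite (Module.End (ZMod q) V) :=
    Finite.of_injective (fun f => (f : V → V)) DFunLike.coe_injective
  have hint : IsIntegral (ZMod q) T := Algebra.IsIntegral.isIntegral T
  set μ := minpoly (ZMod q) T with hμ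
  let K := AlgebraicClosure (ZMod q)
  have hdeg : 0 < μ.natDegree := minpoly.natDegree_pos hint
  obtain ⟨ζ, hζ⟩ := IsAlgClosed.exists_aeval_eq_zero K μ (by
    rw [Polynomial.degree_eq_natDegree (minpoly.ne_zero hint)]
    exact_mod_cast hdeg.ne')
  have hdvd : ∀ Q : (ZMod q)[X], aeval T Q = 0 → aeval ζ Q = 0 := fun Q hQ => by
    obtain ⟨R, hR⟩ := minpoly.dvd (ZMod q) T hQ
    rw [hR, map_mul, ← hμ, hζ, zero_mul]
  have hζp : ζ ^ p = 1 := by
    have := hdvd (X ^ p - 1) (by simp [hTp])
    simpa [sub_eq_zero] using this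
  have hζ1 : ζ ≠ 1 := by
    intro h1
    obtain ⟨R, hR⟩ : (X - C 1 : (ZMod q)[X]) ∣ μ := by
      rw [Polynomial.dvd_iff_isRoot, IsRoot.def]
      apply (algebraMap (ZMod q) K).injective
      rw [map_zero, ← Polynomial.aeval_algebraMap_apply_eq_algebraMap_eval, map_one, ← h1, hζ]
    have hR0 : R ≠ 0 := fun h => minpoly.ne_zero hint (by rw [← hμ, hR, h, mul_zero])
    have hne : aeval T R ≠ 0 := fun h0 => by
      have h2 := Polynomial.natDegree_le_natDegree (minpoly.degree_le_of_ne_zero (ZMod q) T hR0 h0)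
      rw [← hμ, hR, (monic_X_sub_C (1 : ZMod q)).natDegree_mul' hR0, natDegree_X_sub_C] at h2
      omega
    obtain ⟨v, hv⟩ : ∃ v, aeval T R v ≠ 0 := by
      by_contra hall
      push Not at hall
      exact hne (LinearMap.ext hall)
    refine hv (hfix _ ?_)
    have := LinearMap.congr_fun (minpoly.aeval (ZMod q) T) v
    rw [← hμ, hR, map_mul, Module.End.mul_apply] at this
    simpa [sub_eq_zero] using this
  have hord : orderOf ζ = p := orderOf_eq_prime hζp hζ1
  have hinj : Set.InjOn (fun a : ℕ => ζ ^ a) (S : Set ℕ) := fun a ha b hb hab =>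
    pow_injOn_Iio_orderOf (by rw [Set.mem_Iio, hord]; exact (hS a ha).1)
      (by rw [Set.mem_Iio, hord]; exact (hS b hb).1) hab
  have hsub : S.image (fun a : ℕ => ζ ^ a) ⊆ (P.map (algebraMap (ZMod q) K)).roots.toFinset := by
    intro z hz
    obtain ⟨a, ha, rfl⟩ := Finset.mem_image.1 hz
    rw [Multiset.mem_toFinset, Polynomial.mem_roots (hP.map _).ne_zero, IsRoot.def,
      ← Polynomial.eval₂_eq_eval_map, ← Polynomial.aeval_def]
    have := hdvd (P.comp (X ^ a)) (by
      rw [Polynomial.aeval_comp, map_pow, aeval_X]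
      exact (hS a ha).2)
    rwa [Polynomial.aeval_comp, map_pow, aeval_X] at this
  calc S.card = (S.image fun a : ℕ => ζ ^ a).card := (Finset.card_image_of_injOn hinj).symm
    _ ≤ _ := Finset.card_le_card hsub
    _ ≤ Multiset.card (P.map (algebraMap (ZMod q) K)).roots := Multiset.toFinset_card_le _
    _ ≤ (P.map (algebraMap (ZMod q) K)).natDegree := Polynomial.card_roots' _
    _ ≤ P.natDegree := Polynomial.natDegree_map_le

end Cfsg.Agent.Lib.SolvClass.ClassLinear
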