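import Cfsg.Agent.Lib.SolvClass.Basic

/-!
# Lower bounds for class numbers
-/

set_option autoImplicit false
set_option linter.style.haveILetI false

namespace Cfsg.Agent.Lib.SolvClass.Counting

open Cfsg.Agent.Lib.SolvClass

universe u

variable {X : Type u} [Group X] [Finite X]

/-- The class number of a subgroup is at most the index times that of the group. -/
theorem k_subgroup_le (S : Subgroup X) : k S ≤ S.index * k X := by
  have h : Nat.card {ab : S × S // Commute ab.1 ab.2} ≤
      Nat.card {ab : X × X // Commute ab.1 ab.2} :=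
    Nat.card_le_card_of_injective
      (fun z => ⟨((z.1.1 : X), (z.1.2 : X)), congrArg Subtype.val z.2.eq⟩)
      (fun a b hab => Subtype.ext (Prod.ext
        (Subtype.ext (congrArg (fun z => z.1.1) hab :))
        (Subtype.ext (congrArg (fun z => z.1.2) hab :))))
  rw [card_comm_eq_card_conjClasses_mul_card, card_comm_eq_card_conjClasses_mul_card] at h
  refine Nat.le_of_mul_le_mul_right (h.trans_eq ?_) (Nat.card_pos (α := S))
  rw [← S.card_mul_index, k]
  ring

/-- The classes outside and inside a normal subgroup. -/
theorem exists_classes (A C : Subgroup X) [A.Normal]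
    (hAC : ∀ a ∈ A, ∀ g ∈ C, g * a = a * g) :
    ∃ c : ℕ, k (X ⧸ A) + c ≤ k X ∧ Nat.card A - 1 ≤ c * C.index := by
  classical
  haveI := Fintype.ofFinite X
  haveI := Fintype.ofFinite (ConjClasses X)
  haveI := Fintype.ofFinite (ConjClasses (X ⧸ A))
  let π : ConjClasses X → ConjClasses (X ⧸ A) := ConjClasses.map (QuotientGroup.mk' A)
  have hπ : Function.Surjective π := ConjClasses.map_surjective (QuotientGroup.mk'_surjective A)
  let S : Finset (ConjClasses X) := (Finset.univ.filter fun a : X => a ∈ A ∧ a ≠ 1).image
    ConjClasses.mk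
  refine ⟨S.card, ?_, ?_⟩
  · have hdisj : ∀ c ∈ S, π c = 1 ∧ c ≠ 1 := by
      intro c hc
      simp only [S, Finset.mem_image, Finset.mem_filter, Finset.mem_univ, true_and] at hc
      obtain ⟨a, ⟨ha, ha1⟩, rfl⟩ := hc
      refine ⟨?_, fun h => ha1 ?_⟩
      · show ConjClasses.mk (QuotientGroup.mk' A a) = 1
        rw [QuotientGroup.mk'_apply, (QuotientGroup.eq_one_iff a).2 ha]
        rfl
      · rw [ConjClasses.one_eq_mk_one, ConjClasses.mk_eq_mk_iff_isConj] at h
        exact isConj_one_left.1 h
    let s : ConjClasses (X ⧸ A) → ConjClasses X := fun y =>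
      if y = 1 then 1 else Function.surjInv hπ y
    have hs : ∀ y, π (s y) = y := by
      intro y
      simp only [s]
      split
      · next h =>
        subst h
        show ConjClasses.mk (QuotientGroup.mk' A 1) = 1
        rw [map_one]
        rfl
      · exact Function.surjInv_eq hπ y
    have hcard : (Finset.univ.image s).card = k (X ⧸ A) := by
      rw [Finset.card_image_of_injective _ (Function.LeftInverse.injective hs), Finset.card_univ,
        k, Nat.card_eq_fintype_card]
    rw [← hcard, ← Finset.card_union_of_disjoint ?_, k, Nat.card_eq_fintype_card (α := ConjClasses X)]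
    · exact Finset.card_le_univ _
    rw [Finset.disjoint_left]
    intro c hc hcS
    simp only [Finset.mem_image, Finset.mem_univ, true_and] at hc
    obtain ⟨y, rfl⟩ := hc
    obtain ⟨h1, h2⟩ := hdisj _ hcS
    rw [hs] at h1
    exact h2 (by simp [s, h1])
  · have hA : (Finset.univ.filter fun a : X => a ∈ A ∧ a ≠ 1).card = Nat.card A - 1 := by
      have h1 : (Finset.univ.filter fun a : X => a ∈ A ∧ a ≠ 1) =
          (Finset.univ.filter fun a : X => a ∈ A).erase 1 := by
        ext a
        simp [and_comm]
      rw [h1, Finset.card_erase_of_mem (by simp [one_mem]), Nat.card_eq_fintype_card,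
        ← Fintype.card_subtype]
    rw [← hA]
    have h2 := Finset.card_le_mul_card_image_of_maps_to
      (s := Finset.univ.filter fun a : X => a ∈ A ∧ a ≠ 1) (t := S) (f := ConjClasses.mk)
      (fun a ha => Finset.mem_image_of_mem _ ha) C.index ?_
    · rwa [mul_comm]
    intro c hc
    simp only [S, Finset.mem_image, Finset.mem_filter, Finset.mem_univ, true_and] at hc
    obtain ⟨a, ⟨ha, -⟩, rfl⟩ := hc
    let φ : X ⧸ C → X := Quotient.lift (fun g : X => g * a * g⁻¹) (by
      intro g g' hgg
      rw [← Quotient.eq_iff_equiv, QuotientGroup.eq] at hgg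
      have h := hAC a ha _ hgg
      calc g * a * g⁻¹ = g * (a * (g⁻¹ * g')) * g'⁻¹ := by group
        _ = g * ((g⁻¹ * g') * a) * g'⁻¹ := by rw [h]
        _ = g' * a * g'⁻¹ := by group)
    haveI := Fintype.ofFinite (X ⧸ C)
    calc _ ≤ (Finset.univ.image φ).card := Finset.card_le_card (fun b hb => by
          simp only [Finset.mem_filter, Finset.mem_univ, true_and] at hb
          obtain ⟨g, hg⟩ := isConj_iff.1 (ConjClasses.mk_eq_mk_iff_isConj.1 hb.2).symm
          exact Finset.mem_image.2 ⟨(g : X ⧸ C), Finset.mem_univ _, hg⟩)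
      _ ≤ Finset.univ.card := Finset.card_image_le
      _ = C.index := by rw [Finset.card_univ, ← Nat.card_eq_fintype_card]; rfl

/-- The class number is at least that of a homomorphic image. -/
theorem k_quotient_le (N : Subgroup X) [N.Normal] : k (X ⧸ N) ≤ k X :=
  Nat.card_le_card_of_surjective _ (ConjClasses.map_surjective (QuotientGroup.mk'_surjective N))

end Cfsg.Agent.Lib.SolvClass.Counting
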