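import Cfsg.Agent.Lib.SolvClass.ClassLinear
import Cfsg.Agent.Lib.SolvClass.Counting
import Mathlib.GroupTheory.Frattini
import Mathlib.Analysis.SpecialFunctions.Log.Base

/-!
# `k(G) ≥ p / (3 log₂ p)` when `p` divides the index of the Fitting subgroup
-/

set_option autoImplicit false
set_option linter.style.haveILetI false
set_option linter.unusedSectionVars false

namespace Cfsg.Agent.Lib.SolvClass.ClassLower

open Cfsg.Agent.Lib.SolvClass Module

/-- The bound to be proved for the class number `c`. -/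
def Est (p c : ℕ) : Prop := (p : ℝ) / (3 * Real.logb 2 p) ≤ c

theorem Est.mono {p c c' : ℕ} (h : Est p c) (hc : c ≤ c') : Est p c' :=
  h.trans (Nat.cast_le.2 hc)

theorem est_of_pow {p c : ℕ} (hp : 2 ≤ p) (h : 2 ^ p ≤ p ^ (3 * c)) : Est p c := by
  have hlog : 0 < Real.logb 2 p := Real.logb_pos (by norm_num) (by exact_mod_cast hp)
  rw [Est, div_le_iff₀ (by positivity)]
  have h1 : ((2 : ℝ) ^ p) ≤ (p : ℝ) ^ (3 * c) := by exact_mod_cast h
  have h2 := Real.logb_le_logb_of_le (b := 2) (by norm_num) (by positivity) h1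
  rw [Real.logb_pow, Real.logb_pow, Real.logb_self_eq_one (by norm_num)] at h2
  push_cast at h2
  linarith

theorem est_of_log {p c : ℕ} (hp : 2 ≤ p) (h : p ≤ 3 * c * Nat.log 2 p) : Est p c := by
  refine est_of_pow hp ((Nat.pow_le_pow_right two_pos h).trans ?_)
  rw [mul_comm (3 * c), pow_mul]
  exact Nat.pow_le_pow_left (Nat.pow_log_le_self 2 (by omega)) _

theorem small_two (p : ℕ) (h : 2 ≤ p) (h' : p ≤ 29) : 2 ^ p ≤ p ^ (3 * 2) := by
  interval_cases p <;> norm_num

theorem small_four (p : ℕ) (h : 2 ≤ p) (h' : p ≤ 66) : 2 ^ p ≤ p ^ (3 * 4) := by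
  interval_cases p <;> norm_num

/-- The middle range. -/
theorem mid_bound {p c : ℕ} (h36 : 36 ≤ p) (h4096 : p < 4096) (h : 4 * (p - 1) ≤ c ^ 2) :
    p ≤ 3 * c * Nat.log 2 p := by
  set l := Nat.log 2 p
  have h1 : p < 2 ^ (l + 1) := Nat.lt_pow_succ_log_self one_lt_two p
  have h2 : 2 ^ l ≤ p := Nat.pow_log_le_self 2 (by omega)
  have hl : l < 12 := (Nat.pow_lt_pow_iff_right one_lt_two).1
    (h2.trans_lt (h4096.trans_eq (by norm_num)))
  have hl5 : 5 ≤ l := by
    by_contra hlt
    have := Nat.pow_le_pow_right two_pos (show l + 1 ≤ 5 by omega)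
    norm_num at this h1
    omega
  have h35 : p ≤ 35 * l ^ 2 := by
    refine h1.le.trans ?_
    interval_cases l <;> norm_num
  have h3 : p ^ 2 ≤ (3 * c * l) ^ 2 := by
    calc p ^ 2 ≤ p * (35 * l ^ 2) := by rw [sq]; exact Nat.mul_le_mul_left _ h35
      _ = 35 * p * l ^ 2 := by ring
      _ ≤ 36 * (p - 1) * l ^ 2 := Nat.mul_le_mul_right _ (by omega)
      _ = 9 * (4 * (p - 1)) * l ^ 2 := by ring
      _ ≤ 9 * c ^ 2 * l ^ 2 := Nat.mul_le_mul_right _ (Nat.mul_le_mul_left _ h)
      _ = _ := by ring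
  exact (Nat.pow_le_pow_iff_left two_ne_zero).1 h3

theorem sq_mul_pow_le {l : ℕ} (hl : 12 ≤ l) : ∀ M, 3 * l + 1 ≤ M →
    2 ^ (2 * (l + 1)) * M ^ 2 ≤ 9 * l ^ 2 * 2 ^ M := by
  intro M hM
  induction M, hM using Nat.le_induction with
  | base =>
    have e : (2 : ℕ) ^ (3 * l + 1) = 2 ^ (2 * (l + 1)) * 2 ^ (l - 1) := by
      rw [← pow_add]; congr 1; omega
    rw [e]
    have hb : 4 ≤ 2 ^ (l - 1) := by
      calc 4 = 2 ^ 2 := by norm_num
        _ ≤ _ := Nat.pow_le_pow_right two_pos (by omega)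
    calc 2 ^ (2 * (l + 1)) * (3 * l + 1) ^ 2 ≤ 2 ^ (2 * (l + 1)) * (9 * l ^ 2 * 4) := by
          refine Nat.mul_le_mul_left _ ?_
          nlinarith
      _ ≤ 2 ^ (2 * (l + 1)) * (9 * l ^ 2 * 2 ^ (l - 1)) :=
          Nat.mul_le_mul_left _ (Nat.mul_le_mul_left _ hb)
      _ = _ := by ring
  | succ M hM ih =>
    rw [pow_succ 2 M]
    have : (M + 1) ^ 2 ≤ 2 * M ^ 2 := by nlinarith
    calc 2 ^ (2 * (l + 1)) * (M + 1) ^ 2 ≤ 2 ^ (2 * (l + 1)) * (2 * M ^ 2) :=
          Nat.mul_le_mul_left _ this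
      _ = 2 * (2 ^ (2 * (l + 1)) * M ^ 2) := by ring
      _ ≤ 2 * (9 * l ^ 2 * 2 ^ M) := Nat.mul_le_mul_left _ ih
      _ = _ := by ring

/-- The large range. -/
theorem large_bound {p c M : ℕ} (hp : 4096 ≤ p) (hM : 3 * Nat.log 2 p < M)
    (h : 2 ^ M ≤ c ^ 2 * M ^ 2) : p ≤ 3 * c * Nat.log 2 p := by
  set l := Nat.log 2 p
  have h1 : p < 2 ^ (l + 1) := Nat.lt_pow_succ_log_self one_lt_two p
  have hl : 12 ≤ l := by
    refine Nat.le_log_of_pow_le one_lt_two ?_
    norm_num
    exact hp
  have h3 : p ^ 2 * M ^ 2 ≤ (3 * c * l) ^ 2 * M ^ 2 := by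
    calc p ^ 2 * M ^ 2 ≤ 2 ^ (2 * (l + 1)) * M ^ 2 := by
          refine Nat.mul_le_mul_right _ ?_
          rw [mul_comm, pow_mul]
          exact Nat.pow_le_pow_left h1.le 2
      _ ≤ 9 * l ^ 2 * 2 ^ M := sq_mul_pow_le hl M hM
      _ ≤ 9 * l ^ 2 * (c ^ 2 * M ^ 2) := Nat.mul_le_mul_left _ h
      _ = _ := by ring
  exact (Nat.pow_le_pow_iff_left two_ne_zero).1
    (Nat.le_of_mul_le_mul_right h3 (Nat.pow_pos (by omega)))

/-- A noncyclic minimal normal subgroup of order `p ^ d`, `p` large. -/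
theorem rank_bound {p d f c : ℕ} (hp : 67 ≤ p) (hd : 2 ≤ d) (hf : 3 * f ≤ 8 ^ d)
    (h : 4 * (p ^ d - 1) ≤ c ^ 2 * f ^ 2) : p ≤ 3 * c * Nat.log 2 p := by
  set l := Nat.log 2 p
  have hl : 6 ≤ l := by
    refine Nat.le_log_of_pow_le one_lt_two ?_
    norm_num
    omega
  obtain ⟨d, rfl⟩ : ∃ e, d = e + 2 := ⟨d - 2, by omega⟩
  have hpd : 64 ^ d ≤ p ^ d := Nat.pow_le_pow_left (by omega) d
  have h2 : 1 ≤ p ^ (d + 2) := Nat.one_le_pow _ _ (by omega)
  have h2' : 2 ≤ p ^ (d + 2) :=
    le_trans (by omega : 2 ≤ p) (Nat.le_self_pow (by omega) p)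
  have hkey : p ^ 2 * (3 * f) ^ 2 ≤ (3 * c * l) ^ 2 * (3 * f) ^ 2 := by
    calc p ^ 2 * (3 * f) ^ 2 ≤ p ^ 2 * (8 ^ (d + 2)) ^ 2 :=
          Nat.mul_le_mul_left _ (Nat.pow_le_pow_left hf 2)
      _ = p ^ 2 * 4096 * 64 ^ d := by
          rw [← pow_mul, mul_comm (d + 2) 2, pow_mul, pow_add]; norm_num; ring
      _ ≤ p ^ 2 * 5832 * p ^ d := Nat.mul_le_mul (Nat.mul_le_mul_left _ (by norm_num)) hpd
      _ = 5832 * p ^ (d + 2) := by rw [pow_add]; ring
      _ ≤ 11664 * (p ^ (d + 2) - 1) := by omega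
      _ ≤ 81 * (4 * (p ^ (d + 2) - 1)) * 36 := by omega
      _ ≤ 81 * (c ^ 2 * f ^ 2) * l ^ 2 := Nat.mul_le_mul (Nat.mul_le_mul_left _ h)
          (by nlinarith)
      _ = _ := by ring
  refine (Nat.pow_le_pow_iff_left two_ne_zero).1 (Nat.le_of_mul_le_mul_right hkey ?_)
  rcases Nat.eq_zero_or_pos f with rfl | hf0
  · simp at h; omega
  · positivity

/-- A group with nilpotent quotient by a normal subgroup of the Frattini subgroup. -/
theorem isNilpotent_of_le_frattini {G : Type} [Group G] [Finite G] (K V : Subgroup G) [K.Normal]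
    [V.Normal] (hV : V ≤ frattini G) (hVK : V ≤ K)
    (hn : Group.IsNilpotent (K.map (QuotientGroup.mk' V))) : Group.IsNilpotent K := by
  refine (Group.isNilpotent_of_finite_tfae (G := K).out 0 3 rfl rfl).2 fun r hr P => ?_
  haveI := hr
  set Kq := K.map (QuotientGroup.mk' V) with hKq
  haveI : Kq.Normal := Subgroup.Normal.map inferInstance _ (QuotientGroup.mk'_surjective V)
  let π : K →* Kq := (QuotientGroup.mk' V).subgroupMap K
  have hπ : Function.Surjective π := (QuotientGroup.mk' V).subgroupMap_surjective K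
  let P' : Sylow r Kq := P.mapSurjective hπ
  have hP' : (P' : Subgroup Kq).Normal :=
    (Group.isNilpotent_of_finite_tfae (G := Kq).out 0 3 rfl rfl).1 hn r hr P'
  haveI : (P' : Subgroup Kq).Characteristic := P'.characteristic_of_normal hP'
  haveI hN : ((P' : Subgroup Kq).map Kq.subtype).Normal := Cores.normal_map_subtype Kq _
  let N : Subgroup G := ((P' : Subgroup Kq).map Kq.subtype).comap (QuotientGroup.mk' V)
  set PG := (P : Subgroup K).map K.subtype with hPG
  have hNeq : N = PG ⊔ V := by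
    have h1 : (P' : Subgroup Kq).map Kq.subtype = PG.map (QuotientGroup.mk' V) := by
      show ((P : Subgroup K).map π).map Kq.subtype = _
      rw [hPG, Subgroup.map_map, Subgroup.map_map]
      rfl
    show Subgroup.comap _ _ = _
    rw [h1, Subgroup.comap_map_eq, QuotientGroup.ker_mk']
  haveI hNn : N.Normal := inferInstance
  have hPN : PG ≤ N := hNeq ▸ le_sup_left
  have hPK : PG ≤ K := Subgroup.map_subtype_le _
  have hNK : N ≤ K := hNeq ▸ sup_le hPK hVK
  have hPN' : (P : Subgroup K) ≤ N.subgroupOf K := fun x hx => hPN ⟨x, hx, rfl⟩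
  let e := Subgroup.subgroupOfEquivOfLe hNK
  let PN : Sylow r N := (P.subtype hPN').mapSurjective (f := e.toMonoidHom) e.surjective
  have hPNmap : (PN : Subgroup N).map N.subtype = PG := by
    show (((P : Subgroup K).subgroupOf (N.subgroupOf K)).map e.toMonoidHom).map N.subtype = _
    rw [Subgroup.map_map, show N.subtype.comp e.toMonoidHom =
      K.subtype.comp (N.subgroupOf K).subtype from MonoidHom.ext fun _ => rfl, ← Subgroup.map_map,
      Subgroup.subgroupOf_map_subtype, inf_of_le_left hPN']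
  have htop := Sylow.normalizer_sup_eq_top PN
  rw [hPNmap] at htop
  have hnt : Subgroup.normalizer (PG : Set G) ⊔ frattini G = ⊤ := by
    rw [eq_top_iff, ← htop]
    refine sup_le le_sup_left ?_
    rw [hNeq]
    exact sup_le (Subgroup.le_normalizer.trans le_sup_left) (hV.trans le_sup_right)
  have hn' := Subgroup.normalizer_eq_top_iff.1 (frattini_nongenerating hnt)
  haveI : PG.Normal := hn'
  have hPeq : (P : Subgroup K) = PG.subgroupOf K := by
    rw [hPG, Subgroup.subgroupOf, Subgroup.comap_map_eq_self_of_injective K.subtype_injective]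
  rw [hPeq]
  infer_instance

/-- The action of `G` by conjugation on an elementary abelian normal subgroup. -/
theorem exists_conj_rep {G : Type} [Group G] [Finite G] (V : Subgroup G) [V.Normal]
    [IsMulCommutative V] {q : ℕ} [Fact q.Prime] (hexp : ∀ x ∈ V, x ^ q = 1)
    (hmin : ∀ W : Subgroup G, W.Normal → W ≤ V → W = ⊥ ∨ W = V) (hV : V ≠ ⊥) :
    ∃ (W : Type) (_ : AddCommGroup W) (_ : Module (ZMod q) W) (_ : Finite W) (_ : Nontrivial W)
      (ρ : G →* (W ≃ₗ[ZMod q] W)), Nat.card W = Nat.card V ∧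
        ρ.ker = Subgroup.centralizer (V : Set G) ∧ Irr ρ.range := by
  classical
  letI : CommGroup V := { (inferInstance : Group V) with mul_comm := mul_comm' }
  have he : ∀ x : Additive V, q • x = 0 := fun x =>
    Additive.toMul.injective (Subtype.ext (hexp _ (Additive.toMul x).2))
  letI := AddCommGroup.zmodModule (n := q) he
  let lin : G →* Module.End (ZMod q) (Additive V) :=
    { toFun := fun g => (MonoidHom.toAdditive
        (MulAut.conjNormal g : MulAut V).toMonoidHom).toZModLinearMap q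
      map_one' := LinearMap.ext fun x => Additive.toMul.injective (by
        show MulAut.conjNormal (1 : G) (Additive.toMul x) = Additive.toMul x
        rw [map_one]
        rfl)
      map_mul' := fun a b => LinearMap.ext fun x => Additive.toMul.injective (by
        show MulAut.conjNormal (a * b) (Additive.toMul x) =
          MulAut.conjNormal a (MulAut.conjNormal b (Additive.toMul x))
        rw [map_mul]
        rfl) }
  let ρ : G →* (Additive V ≃ₗ[ZMod q] Additive V) :=
    (LinearMap.GeneralLinearGroup.generalLinearEquiv (ZMod q) (Additive V)).toMonoidHom.comp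
      lin.toHomUnits
  have hρ : ∀ g x, ((Additive.toMul (ρ g x) : V) : G) = g * (Additive.toMul x : V) * g⁻¹ :=
    fun g x => rfl
  haveI : Nontrivial (Additive V) := (Subgroup.nontrivial_iff_ne_bot V).2 hV
  refine ⟨Additive V, inferInstance, inferInstance, inferInstance, inferInstance, ρ,
    Nat.card_congr Additive.toMul, ?_, irr_range ρ fun U hU => ?_⟩
  · ext g
    rw [MonoidHom.mem_ker, Subgroup.mem_centralizer_iff]
    constructor
    · intro h y hy
      have h1 := hρ g (Additive.ofMul ⟨y, hy⟩)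
      rw [h] at h1
      exact (mul_inv_eq_iff_eq_mul.1 h1.symm).symm
    · intro h
      refine LinearEquiv.ext fun x => Additive.toMul.injective (Subtype.ext ?_)
      rw [hρ]
      exact mul_inv_eq_iff_eq_mul.2 (h _ (Additive.toMul x).2).symm
  · let K : Subgroup G :=
      { carrier := {x | ∃ hx : x ∈ V, Additive.ofMul (⟨x, hx⟩ : V) ∈ U}
        mul_mem' := by
          rintro a b ⟨ha, ha'⟩ ⟨hb, hb'⟩
          exact ⟨mul_mem ha hb, U.add_mem ha' hb'⟩
        one_mem' := ⟨one_mem _, U.zero_mem⟩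
        inv_mem' := by
          rintro a ⟨ha, ha'⟩
          exact ⟨inv_mem ha, U.neg_mem ha'⟩ }
    have hKn : K.Normal := ⟨by
      rintro x ⟨hx, hx'⟩ g
      exact ⟨(inferInstance : V.Normal).conj_mem _ hx g, hU g _ hx'⟩⟩
    rcases hmin K hKn fun x hx => hx.1 with h | h
    · left
      refine (Submodule.eq_bot_iff U).2 fun u hu => ?_
      have hK : ((Additive.toMul u : V) : G) ∈ K := ⟨(Additive.toMul u).2, hu⟩
      rw [h, Subgroup.mem_bot] at hK
      exact Additive.toMul.injective (Subtype.ext hK)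
    · right
      refine Submodule.eq_top_iff'.2 fun u => ?_
      have hK : ((Additive.toMul u : V) : G) ∈ K := by rw [h]; exact (Additive.toMul u).2
      exact hK.2

/-- The unique minimal normal subgroup is self-centralising. -/
theorem exists_self_centralising {G : Type} [Group G] [Finite G] [Group.IsSolvable G] (p : ℕ)
    [Fact p.Prime] (hp : p ∣ (fittingSubgroup G).index)
    (hquo : ∀ W : Subgroup G, ∀ _ : W.Normal, W ≠ ⊥ → ¬ p ∣ (fittingSubgroup (G ⧸ W)).index) :
    ∃ V : Subgroup G, ∃ _ : V.Normal, V ≠ ⊥ ∧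
      (∀ W : Subgroup G, W.Normal → W ≤ V → W = ⊥ ∨ W = V) ∧
      Subgroup.centralizer (V : Set G) = V := by
  classical
  haveI : Nontrivial G := by
    by_contra h
    rw [not_nontrivial_iff_subsingleton] at h
    rw [show fittingSubgroup G = ⊤ from Subsingleton.elim _ _, Subgroup.index_top] at hp
    exact (Fact.out : p.Prime).not_dvd_one hp
  let K : ∀ (W : Subgroup G) [W.Normal], Subgroup G := fun W =>
    (fittingSubgroup (G ⧸ W)).comap (QuotientGroup.mk' W)
  have hK : ∀ (W : Subgroup G) [W.Normal], W ≠ ⊥ → ¬ p ∣ (K W).index := fun W _ hW => by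
    rw [(fittingSubgroup (G ⧸ W)).index_comap_of_surjective (QuotientGroup.mk'_surjective W)]
    exact hquo W inferInstance hW
  obtain ⟨V, hVn, hV0, hVmin⟩ : ∃ V : Subgroup G, V.Normal ∧ V ≠ ⊥ ∧
      ∀ W : Subgroup G, W.Normal → W ≤ V → W = ⊥ ∨ W = V := by
    obtain ⟨V, ⟨hVn, hV0⟩, hmin⟩ := Set.Finite.exists_minimal
      (s := {V : Subgroup G | V.Normal ∧ V ≠ ⊥}) (Set.toFinite _) ⟨⊤, inferInstance, top_ne_bot⟩
    refine ⟨V, hVn, hV0, fun W hW hWV => or_iff_not_imp_left.2 fun h => ?_⟩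
    exact le_antisymm hWV (hmin ⟨hW, h⟩ hWV)
  haveI := hVn
  haveI := Cores.MinNormal.isMulCommutative_of_solvable hV0 hVmin
  have hfr : ¬ V ≤ frattini G := by
    intro hle
    have hVK : V ≤ K V := fun x hx => by
      show QuotientGroup.mk' V x ∈ fittingSubgroup (G ⧸ V)
      rw [QuotientGroup.mk'_apply, (QuotientGroup.eq_one_iff x).2 hx]
      exact one_mem _
    have hn : Group.IsNilpotent (K V) := isNilpotent_of_le_frattini (K V) V hle hVK (by
      rw [Subgroup.map_comap_eq_self_of_surjective (QuotientGroup.mk'_surjective V)]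
      exact Cores.fittingSubgroup_isNilpotent)
    exact hK V hV0 (hp.trans (Subgroup.index_dvd_of_le (Cores.le_fittingSubgroup hn)))
  obtain ⟨M, hM, hVM⟩ : ∃ M : Subgroup G, IsCoatom M ∧ ¬ V ≤ M := by
    by_contra hall
    push Not at hall
    exact hfr (le_iInf₂ fun M hM => hall M hM)
  have hcompl := Cores.MinNormal.isComplement'_of_not_le hM hVmin hVM
  set C := Subgroup.centralizer (V : Set G) with hC
  haveI : C.Normal := Subgroup.normal_centralizer
  have hVC : V ≤ C := fun v hv => Subgroup.mem_centralizer_iff.2 fun w hw =>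
    congrArg Subtype.val (mul_comm' (⟨w, hw⟩ : V) ⟨v, hv⟩)
  have hN : (M ⊓ C).Normal := by
    refine ⟨fun n hn g => ?_⟩
    obtain ⟨⟨v, m⟩, hvm⟩ := hcompl.2 g
    rw [← hvm]
    have h1 : (m : G) * n * (m : G)⁻¹ ∈ M ⊓ C :=
      ⟨M.mul_mem (M.mul_mem m.2 hn.1) (M.inv_mem m.2), (inferInstance : C.Normal).conj_mem n hn.2 m⟩
    have h2 := Subgroup.mem_centralizer_iff.1 h1.2 v v.2
    have h3 : ((v : G) * m) * n * ((v : G) * m)⁻¹ =
        (v : G) * ((m : G) * n * (m : G)⁻¹) * (v : G)⁻¹ := by group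
    rw [h3, h2, mul_inv_cancel_right]
    exact h1
  refine ⟨V, hVn, hV0, hVmin, le_antisymm (fun x hx => ?_) hVC⟩
  by_contra hxV
  have hne : M ⊓ C ≠ ⊥ := by
    intro hbot
    obtain ⟨⟨v, m⟩, hvm⟩ := hcompl.2 x
    have hmC : (m : G) ∈ C := by
      rw [show (m : G) = (v : G)⁻¹ * x by rw [← hvm]; group]
      exact C.mul_mem (C.inv_mem (hVC v.2)) hx
    have hm1 : (m : G) ∈ M ⊓ C := ⟨m.2, hmC⟩
    rw [hbot, Subgroup.mem_bot] at hm1
    exact hxV (by rw [← hvm]; show (v : G) * m ∈ V; rw [hm1, mul_one]; exact v.2)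
  haveI := hN
  have hVW : V ⊓ (M ⊓ C) = ⊥ := by
    rw [← inf_assoc, hcompl.disjoint.eq_bot, bot_inf_eq]
  let f : G →* (G ⧸ V) × (G ⧸ (M ⊓ C)) :=
    (QuotientGroup.mk' V).prod (QuotientGroup.mk' (M ⊓ C))
  have hf : Function.Injective f := by
    rw [← MonoidHom.ker_eq_bot_iff, MonoidHom.ker_prod, QuotientGroup.ker_mk',
      QuotientGroup.ker_mk', hVW]
  set P := (fittingSubgroup (G ⧸ V)).prod (fittingSubgroup (G ⧸ (M ⊓ C)))
  haveI : Group.IsNilpotent (fittingSubgroup (G ⧸ V)) := Cores.fittingSubgroup_isNilpotent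
  haveI : Group.IsNilpotent (fittingSubgroup (G ⧸ (M ⊓ C))) := Cores.fittingSubgroup_isNilpotent
  haveI : Group.IsNilpotent P := Group.nilpotent_of_mulEquiv (Subgroup.prodEquiv _ _).symm
  have hnil : Group.IsNilpotent ↥(P.comap f) := by
    haveI := Cores.isNilpotent_of_le (Subgroup.map_comap_le f P) (inferInstance : Group.IsNilpotent P)
    exact Group.nilpotent_of_mulEquiv ((P.comap f).equivMapOfInjective f hf).symm
  have hle : K V ⊓ K (M ⊓ C) ≤ fittingSubgroup G := by
    have hPn : (P.comap f).Normal := inferInstance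
    have hsub : K V ⊓ K (M ⊓ C) ≤ P.comap f := fun y hy =>
      Subgroup.mem_prod.2 ⟨hy.1, hy.2⟩
    exact hsub.trans (Cores.le_fittingSubgroup hnil)
  have hdvd : p ∣ (K V ⊓ K (M ⊓ C)).index := hp.trans (Subgroup.index_dvd_of_le hle)
  rw [← Subgroup.relIndex_mul_index (inf_le_right : K V ⊓ K (M ⊓ C) ≤ K (M ⊓ C))] at hdvd
  rcases (Fact.out : p.Prime).dvd_mul.1 hdvd with h | h
  · rw [Subgroup.inf_relIndex_right] at h
    exact hK V hV0 (h.trans (Subgroup.relIndex_dvd_index_of_normal (K V) (K (M ⊓ C))))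
  · exact hK (M ⊓ C) hne h

/-- The facts about the conjugation action on a minimal normal subgroup of the quotient. -/
theorem est_of_reduced {G : Type} [Group G] [Finite G] [Group.IsSolvable G] (p : ℕ)
    [Fact p.Prime] (hp : p ∣ (fittingSubgroup G).index) (V : Subgroup G) [V.Normal] (hV0 : V ≠ ⊥)
    (hmin : ∀ W : Subgroup G, W.Normal → W ≤ V → W = ⊥ ∨ W = V)
    (hC : Subgroup.centralizer (V : Set G) = V)
    (hF : ¬ p ∣ (fittingSubgroup (G ⧸ V)).index) : Est p (k G) := by
  classical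
  have hpp : p.Prime := Fact.out
  haveI := Cores.MinNormal.isMulCommutative_of_solvable hV0 hmin
  obtain ⟨-, q, hq, hqexp⟩ := Cores.MinNormal.elementary_of_solvable hV0 hmin
  haveI := Fact.mk hq
  obtain ⟨W, _, _, _, _, ρ₀, hWcard, hρker, hirr⟩ := exists_conj_rep V hqexp hmin hV0
  rw [hC] at hρker
  let ρ : G ⧸ V →* (W ≃ₗ[ZMod q] W) := QuotientGroup.lift V ρ₀ hρker.ge
  have hρ : Function.Injective ρ := by
    rw [← MonoidHom.ker_eq_bot_iff, QuotientGroup.ker_lift, hρker, QuotientGroup.map_mk'_self]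
  have hrange : ρ.range = ρ₀.range := by
    refine le_antisymm ?_ ?_
    · rintro _ ⟨y, rfl⟩
      induction y using QuotientGroup.induction_on with | H g => exact ⟨g, rfl⟩
    · rintro _ ⟨g, rfl⟩
      exact ⟨(g : G ⧸ V), rfl⟩
  haveI := finite_GL (L := ZMod q) (V := W)
  -- no normal subgroup of `G / V` is a `q`-group
  have hqcore : ∀ U : Subgroup (G ⧸ V), U.Normal → IsPGroup q U → U = ⊥ := by
    intro U hU hUq
    haveI := Subgroup.Normal.map hU ρ.rangeRestrict ρ.rangeRestrict_surjective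
    have h := eq_bot_of_isPGroup q (hrange ▸ hirr) (U.map ρ.rangeRestrict) (hUq.map _)
    exact (Subgroup.map_eq_bot_iff_of_injective U (ρ.rangeRestrict_injective_iff.2 hρ)).1 h
  set H := G ⧸ V
  set F := fittingSubgroup H
  haveI : Group.IsNilpotent F := Cores.fittingSubgroup_isNilpotent
  -- `k(G) > k(H)`
  have hkGH : k H + 1 ≤ k G := by
    obtain ⟨c, hc, hc'⟩ := Counting.exists_classes V V (fun a ha g hg =>
      congrArg Subtype.val (mul_comm' (⟨g, hg⟩ : V) ⟨a, ha⟩))
    have h2 : 1 < Nat.card V := (Subgroup.one_lt_card_iff_ne_bot _).2 hV0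
    have : 0 < c := Nat.pos_of_ne_zero fun h => by
      rw [h, Nat.zero_mul] at hc'
      omega
    exact (Nat.add_le_add_left this _).trans hc
  -- a Sylow subgroup of `F`
  have hpH : p ∣ Nat.card H := by
    have hVF : V ≤ fittingSubgroup G := by
      refine Cores.le_fittingSubgroup ?_
      letI : CommGroup V := { (inferInstance : Group V) with mul_comm := mul_comm' }
      exact CommGroup.isNilpotent
    exact (hp.trans (Subgroup.index_dvd_of_le hVF))
  have hpF : p ∣ Nat.card F := by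
    rw [← F.card_mul_index] at hpH
    exact (hpp.dvd_mul.1 hpH).resolve_right hF
  obtain ⟨P⟩ : Nonempty (Sylow p F) := inferInstance
  have hPn : (P : Subgroup F).Normal :=
    (Group.isNilpotent_of_finite_tfae (G := F).out 0 3 rfl rfl).1 inferInstance p ‹_› P
  haveI : (P : Subgroup F).Characteristic := P.characteristic_of_normal hPn
  haveI := Cores.normal_map_subtype F (P : Subgroup F)
  have hP0 : (P : Subgroup F).map F.subtype ≠ ⊥ := fun h =>
    P.ne_bot_of_dvd_card hpF ((Subgroup.map_eq_bot_iff_of_injective _ F.subtype_injective).1 h)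
  obtain ⟨A, hAn, hA0, hAP, hAmin⟩ : ∃ A : Subgroup H, A.Normal ∧ A ≠ ⊥ ∧
      A ≤ (P : Subgroup F).map F.subtype ∧
      ∀ B : Subgroup H, B.Normal → B ≤ A → B = ⊥ ∨ B = A := by
    obtain ⟨A, ⟨hAn, hA0, hAP⟩, hmin'⟩ := Set.Finite.exists_minimal
      (s := {A : Subgroup H | A.Normal ∧ A ≠ ⊥ ∧ A ≤ (P : Subgroup F).map F.subtype})
      (Set.toFinite _) ⟨_, inferInstance, hP0, le_rfl⟩
    refine ⟨A, hAn, hA0, hAP, fun B hB hBA => or_iff_not_imp_left.2 fun h => ?_⟩
    exact le_antisymm hBA (hmin' ⟨hB, h, hBA.trans hAP⟩ hBA)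
  haveI := hAn
  haveI := Cores.MinNormal.isMulCommutative_of_solvable hA0 hAmin
  have hPG : IsPGroup p A :=
    (P.isPGroup'.map F.subtype).to_le hAP
  have hAF : A ≤ F := hAP.trans (Subgroup.map_subtype_le _)
  have hAexp : ∀ y ∈ A, y ^ p = 1 := by
    obtain ⟨-, r, hr, hrexp⟩ := Cores.MinNormal.elementary_of_solvable hA0 hAmin
    obtain ⟨y, hy, hy1⟩ : ∃ y ∈ A, y ≠ 1 := by
      by_contra hall
      push Not at hall
      exact hA0 ((Subgroup.eq_bot_iff_forall _).2 hall)
    haveI := Fact.mk hr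
    have hor : orderOf y = r := orderOf_eq_prime (hrexp y hy) hy1
    obtain ⟨j, hj⟩ := hPG ⟨y, hy⟩
    have hdvd : r ∣ p ^ j := hor ▸ orderOf_dvd_of_pow_eq_one (congrArg Subtype.val hj)
    rw [(Nat.prime_dvd_prime_iff_eq hr hpp).1 (hr.dvd_of_dvd_pow hdvd)] at hrexp
    exact hrexp
  have hqp : p ≠ q := by
    rintro rfl
    exact hA0 (hqcore A hAn hPG)
  set C := Subgroup.centralizer (A : Set H) with hCdef
  haveI : C.Normal := Subgroup.normal_centralizer
  have hAC : A ≤ C := fun v hv => Subgroup.mem_centralizer_iff.2 fun w hw =>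
    congrArg Subtype.val (mul_comm' (⟨w, hw⟩ : A) ⟨v, hv⟩)
  have hFC : F ≤ C := by
    have hne := exists_ne_one_centralized (P := F) (N := A) inferInstance hAF hA0
    haveI : (Subgroup.centralizer (F : Set H)).Normal := Subgroup.normal_centralizer
    rcases hAmin (A ⊓ Subgroup.centralizer (F : Set H)) inferInstance inf_le_left with h | h
    · exact absurd h hne
    · intro f hf
      refine Subgroup.mem_centralizer_iff.2 fun a ha => ?_
      exact (Subgroup.mem_centralizer_iff.1 (h.ge ha).2 f hf).symm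
  -- classes
  obtain ⟨c, hc, hcA⟩ := Counting.exists_classes A C
    (fun a ha g hg => (Subgroup.mem_centralizer_iff.1 hg a ha).symm)
  have hkC : k (H ⧸ C) ≤ k (H ⧸ A) := by
    refine Nat.card_le_card_of_surjective (ConjClasses.map
      (QuotientGroup.map A C (MonoidHom.id H) hAC)) (ConjClasses.map_surjective ?_)
    intro y
    induction y using QuotientGroup.induction_on with | H g => exact ⟨(g : H ⧸ A), rfl⟩
  have hA2 : 2 ≤ Nat.card A := (Subgroup.one_lt_card_iff_ne_bot _).2 hA0
  have hc1 : 1 ≤ c := Nat.pos_of_ne_zero fun h => by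
    rw [h, Nat.zero_mul] at hcA
    omega
  -- small primes
  have hp2 := hpp.two_le
  by_cases hp29 : p ≤ 29
  · refine (est_of_pow hp2 (small_two p hp2 hp29)).mono ?_
    have : 0 < k H := k_pos
    omega
  by_cases hAp : Nat.card A = p
  swap
  · -- the noncyclic case
    haveI : Fact (Nat.Prime p) := ⟨hpp⟩
    have hCtop : C ≠ ⊤ := by
      intro htop
      obtain ⟨y, hy, hy1⟩ : ∃ y ∈ A, y ≠ 1 := by
        by_contra hall
        push Not at hall
        exact hA0 ((Subgroup.eq_bot_iff_forall _).2 hall)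
      have hzn : (Subgroup.zpowers y).Normal := by
        refine ⟨fun z hz g => ?_⟩
        have hzA : z ∈ A := (Subgroup.zpowers_le.2 hy) hz
        have hg : g ∈ C := htop ▸ Subgroup.mem_top g
        rw [← Subgroup.mem_centralizer_iff.1 hg z hzA, mul_inv_cancel_right]
        exact hz
      rcases hAmin _ hzn (Subgroup.zpowers_le.2 hy) with h | h
      · exact hy1 (Subgroup.zpowers_eq_bot.1 h)
      · exact hAp (by rw [← h, Nat.card_zpowers, orderOf_eq_prime (hAexp y hy) hy1])
    have hk2 : 2 ≤ k (H ⧸ C) := by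
      haveI : Nontrivial (H ⧸ C) := QuotientGroup.nontrivial_iff.2 hCtop
      obtain ⟨y, hy⟩ := exists_ne (1 : H ⧸ C)
      haveI : Nontrivial (ConjClasses (H ⧸ C)) := ⟨⟨ConjClasses.mk y, ConjClasses.mk 1,
        fun h => hy (isConj_one_left.1 (ConjClasses.mk_eq_mk_iff_isConj.1 h))⟩⟩
      exact Finite.one_lt_card
    by_cases hp66 : p ≤ 66
    · exact (est_of_pow hp2 (small_four p hp2 hp66)).mono (by omega)
    obtain ⟨U, _, _, _, _, σ, hUcard, hσker, hUirr⟩ := exists_conj_rep A hAexp hAmin hA0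
    haveI := finite_GL (L := ZMod p) (V := U)
    set d := finrank (ZMod p) U
    have hUd : Nat.card A = p ^ d := by
      rw [← hUcard, Module.natCard_eq_pow_finrank (K := ZMod p), Nat.card_zmod]
    have hd : 2 ≤ d := by
      by_contra hlt
      interval_cases d
      · rw [pow_zero] at hUd; omega
      · exact hAp (hUd.trans (pow_one p))
    obtain ⟨B, hB, hBidx⟩ := exists_abelian_subgroup d σ.range
      (Group.isSolvable_of_surjective σ.rangeRestrict_surjective) hUirr rfl
    have hkr : k σ.range = k (H ⧸ C) :=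
      (k_congr ((QuotientGroup.quotientMulEquivOfEq hσker.symm).trans
        (QuotientGroup.quotientKerEquivRange σ))).symm
    have hkf : C.index ≤ k (H ⧸ C) * B.index ^ 2 := by
      have h1 : Nat.card B ≤ B.index * k σ.range :=
        (k_of_comm (X := B) fun a b => Subtype.ext (hB a a.2 b b.2)).symm.trans_le
          (Counting.k_subgroup_le B)
      have h2 : C.index = Nat.card σ.range := by
        rw [hCdef, ← hσker, Subgroup.index_ker]
      rw [h2, ← B.card_mul_index, ← hkr]
      calc Nat.card B * B.index ≤ B.index * k σ.range * B.index := Nat.mul_le_mul_right _ h1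
        _ = _ := by ring
    refine est_of_log hp2 (rank_bound (c := k G) (by
      by_contra hlt
      push Not at hlt
      have hp' : 66 < p := by omega
      omega) hd hBidx ?_)
    calc 4 * (p ^ d - 1) ≤ 4 * (c * (k (H ⧸ C) * B.index ^ 2)) := by
          rw [← hUd]
          exact Nat.mul_le_mul_left _ (hcA.trans (Nat.mul_le_mul_left _ hkf))
      _ = 4 * c * k (H ⧸ C) * B.index ^ 2 := by ring
      _ ≤ (k (H ⧸ C) + c) ^ 2 * B.index ^ 2 := Nat.mul_le_mul_right _ (by
          nlinarith [two_mul_le_add_sq (c : ℤ) (k (H ⧸ C))])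
      _ ≤ k G ^ 2 * B.index ^ 2 :=
          Nat.mul_le_mul_right _ (Nat.pow_le_pow_left (by omega) _)
  -- the cyclic case
  haveI : IsCyclic A := isCyclic_of_prime_card hAp
  obtain ⟨⟨x, hxA⟩, hxgen⟩ := IsCyclic.exists_monoid_generator (α := A)
  have hx1 : x ≠ 1 := by
    rintro rfl
    obtain ⟨y, hy, hy1⟩ : ∃ y ∈ A, y ≠ 1 := by
      by_contra hall
      push Not at hall
      exact hA0 ((Subgroup.eq_bot_iff_forall _).2 hall)
    obtain ⟨j, hj⟩ := Submonoid.mem_powers_iff _ _ |>.1 (hxgen ⟨y, hy⟩)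
    exact hy1 (by simpa using (congrArg Subtype.val hj).symm)
  have hordx : orderOf x = p := orderOf_eq_prime (hAexp x hxA) hx1
  have hpow : ∀ y ∈ A, ∃ a < p, x ^ a = y := by
    intro y hy
    obtain ⟨j, hj⟩ := Submonoid.mem_powers_iff _ _ |>.1 (hxgen ⟨y, hy⟩)
    refine ⟨j % p, Nat.mod_lt _ hpp.pos, ?_⟩
    rw [← hordx, pow_mod_orderOf]
    simpa using congrArg Subtype.val hj
  -- exponent of conjugation
  have hexpo : ∀ g : H, ∃ a < p, x ^ a = g * x * g⁻¹ := fun g => hpow _ (hAn.conj_mem x hxA g)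
  choose ex hexlt hex using hexpo
  have hexC : ∀ g g' : H, ex g = ex g' ↔ g⁻¹ * g' ∈ C := by
    intro g g'
    constructor
    · intro h
      have h1 : g * x * g⁻¹ = g' * x * g'⁻¹ := by rw [← hex, ← hex, h]
      refine Subgroup.mem_centralizer_iff.2 fun y hy => ?_
      obtain ⟨a, -, rfl⟩ := hpow y hy
      have h2 : Commute (g⁻¹ * g') x := by
        show g⁻¹ * g' * x = x * (g⁻¹ * g')
        calc g⁻¹ * g' * x = g⁻¹ * (g' * x * g'⁻¹) * g' := by group
          _ = g⁻¹ * (g * x * g⁻¹) * g' := by rw [h1]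
          _ = _ := by group
      exact (h2.pow_right a).eq.symm
    · intro h
      have h1 : g * x * g⁻¹ = g' * x * g'⁻¹ := by
        have h2 := Subgroup.mem_centralizer_iff.1 h x hxA
        calc g * x * g⁻¹ = g * (x * (g⁻¹ * g')) * g'⁻¹ := by group
          _ = g * (g⁻¹ * g' * x) * g'⁻¹ := by rw [h2]
          _ = _ := by group
      exact pow_injOn_Iio_orderOf (by rw [Set.mem_Iio, hordx]; exact hexlt g)
        (by rw [Set.mem_Iio, hordx]; exact hexlt g') (by
          show x ^ ex g = x ^ ex g'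
          rw [hex, hex, h1])
  have hcomm : ∀ a b : H ⧸ C, a * b = b * a := by
    intro a b
    induction a using QuotientGroup.induction_on with | H g => ?_
    induction b using QuotientGroup.induction_on with | H g' => ?_
    rw [← QuotientGroup.mk_mul, ← QuotientGroup.mk_mul, QuotientGroup.eq, ← hexC]
    have h1 : ∀ s t : H, s * t * x * (s * t)⁻¹ = x ^ (ex s * ex t) := fun s t => by
      rw [pow_mul, hex s, conj_pow, hex t]
      group
    refine pow_injOn_Iio_orderOf (by rw [Set.mem_Iio, hordx]; exact hexlt _)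
      (by rw [Set.mem_Iio, hordx]; exact hexlt _) ?_
    show x ^ ex (g * g') = x ^ ex (g' * g)
    rw [hex, hex, h1, h1, mul_comm]
  have hkCeq : k (H ⧸ C) = C.index := k_of_comm hcomm
  set e := C.index with he
  have he0 : 0 < e := Nat.pos_of_ne_zero Subgroup.index_ne_zero_of_finite
  rw [hAp] at hcA
  have hkG : e + c + 1 ≤ k G := by omega
  by_cases hp36 : p < 36
  · refine (est_of_pow hp2 (small_four p hp2 (by omega))).mono (le_trans ?_ hkG)
    by_contra hlt
    push Not at hlt
    have : c * e ≤ 2 * 2 := Nat.mul_le_mul (by omega) (by omega)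
    omega
  by_cases hp4096 : p < 4096
  · refine est_of_log hp2 (mid_bound (c := k G) ?_ hp4096 ?_)
    · omega
    · calc 4 * (p - 1) ≤ 4 * (c * e) := Nat.mul_le_mul_left _ hcA
        _ ≤ (e + c + 1) ^ 2 := by nlinarith [two_mul_le_add_sq (c : ℤ) e]
        _ ≤ k G ^ 2 := Nat.pow_le_pow_left hkG _
  push Not at hp4096
  by_cases hel : e ≤ 3 * Nat.log 2 p
  · refine est_of_log hp2 ?_
    calc p ≤ (e + c + 1) * e := by
          have : 1 ≤ e := he0
          nlinarith [Nat.sub_add_cancel (show 1 ≤ p by omega)]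
      _ ≤ k G * (3 * Nat.log 2 p) := Nat.mul_le_mul hkG hel
      _ = _ := by ring
  push Not at hel
  -- the linear part
  let xC : C := ⟨x, hAC hxA⟩
  let ρC : C →* (W ≃ₗ[ZMod q] W) := ρ.comp C.subtype
  have hxcen : ∀ g : C, g * xC = xC * g := fun g =>
    Subtype.ext (Subgroup.mem_centralizer_iff.1 g.2 x hxA).symm
  have hirrρ : Irr ρ.range := hrange ▸ hirr
  have hfix : ∀ v, ρC xC v = v → v = 0 := by
    intro v hv
    have hgen : ∀ y ∈ A, ρ y v = v := by
      intro y hy
      obtain ⟨a, -, rfl⟩ := hpow y hy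
      rw [map_pow]
      clear hy
      induction a with
      | zero => rfl
      | succ a iha => rw [pow_succ, LinearEquiv.mul_apply]; exact (congrArg _ hv).trans iha
    let S : Submodule (ZMod q) W :=
      { carrier := {v | ∀ y ∈ A, ρ y v = v}
        add_mem' := fun ha hb y hy => by rw [map_add, ha y hy, hb y hy]
        zero_mem' := fun y _ => map_zero _
        smul_mem' := fun r a ha y hy => by rw [map_smul, ha y hy] }
    have hS : ∀ g ∈ ρ.range, ∀ w ∈ S, g w ∈ S := by
      rintro _ ⟨g, rfl⟩ w hw y hy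
      have h := congrArg (ρ g) (hw _ (hAn.conj_mem y hy g⁻¹))
      rw [inv_inv, ← LinearEquiv.mul_apply, ← map_mul] at h
      rw [← LinearEquiv.mul_apply, ← map_mul, ← h]
      congr 2
      group
    rcases hirrρ.2 S hS with h | h
    · have : v ∈ S := hgen
      rw [h] at this
      exact this
    · exfalso
      refine hx1 (hρ (LinearEquiv.ext fun w => ?_))
      rw [map_one]
      exact (h ▸ Submodule.mem_top : w ∈ S) x hxA
  obtain ⟨B, U, hUn, Pol, hPm, hPol, hPB, hUq, hUab⟩ :=
    ClassLinear.exists_linear_bound hp4096 xC hxcen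
      (Subtype.ext (hAexp x hxA)) ρC hfix
  -- `U` is trivial
  have hρC : Function.Injective ρC := hρ.comp C.subtype_injective
  have hUbot : U = ⊥ := by
    have hUq' : IsPGroup q U := hUq.of_equiv (U.equivMapOfInjective ρC hρC).symm
    haveI := hUn
    have h1 := Cores.le_pCore (p := q) hUq'
    haveI : (Cfsg.pCore q C).Characteristic := inferInstance
    haveI := Cores.normal_map_subtype C (Cfsg.pCore q C)
    have h2 := hqcore _ inferInstance ((Cores.pCore_isPGroup (G := C) q).map C.subtype)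
    rw [Subgroup.map_eq_bot_iff_of_injective _ C.subtype_injective] at h2
    exact le_bot_iff.1 (h1.trans h2.le)
  -- conjugates of `x`
  set T : Module.End (ZMod q) W := ((ρC xC : W ≃ₗ[ZMod q] W) : Module.End (ZMod q) W) with hT
  have hTpow : ∀ n : ℕ, T ^ n = ((ρ (x ^ n) : W ≃ₗ[ZMod q] W) : Module.End (ZMod q) W) := by
    intro n
    induction n with
    | zero => rw [pow_zero, pow_zero, map_one]; rfl
    | succ n ihn => rw [pow_succ, ihn, pow_succ, map_mul]; rfl
  have heM : e ≤ Pol.natDegree := by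
    haveI := Fintype.ofFinite H
    have hS : (Finset.univ.image ex).card ≤ Pol.natDegree := by
      refine ClassLinear.card_exponents_le (p := p) T ?_ hfix Pol hPm _ fun a ha => ?_
      · rw [hTpow, hAexp x hxA, map_one]; rfl
      · obtain ⟨g, -, rfl⟩ := Finset.mem_image.1 ha
        refine ⟨hexlt g, LinearMap.ext fun w => ?_⟩
        rw [hTpow, hex]
        have h := ClassLinear.aeval_intertwine ((ρ g : W ≃ₗ[ZMod q] W) : W →ₗ[ZMod q] W) T
          ((ρ (g * x * g⁻¹) : W ≃ₗ[ZMod q] W) : Module.End (ZMod q) W) (fun v => by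
            show ρ g (ρ x v) = ρ (g * x * g⁻¹) (ρ g v)
            rw [← LinearEquiv.mul_apply, ← LinearEquiv.mul_apply, ← map_mul, ← map_mul]
            congr 2
            group) Pol ((ρ g).symm w)
        rw [hPol, map_zero] at h
        rw [LinearMap.zero_apply]
        simpa using h.symm
    refine le_trans ?_ hS
    rw [he, Subgroup.index_eq_card]
    let φ : H ⧸ C → ↥(Finset.univ.image ex) := Quotient.lift
      (fun g => ⟨ex g, Finset.mem_image_of_mem _ (Finset.mem_univ g)⟩) (fun g g' h => Subtype.ext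
        ((hexC g g').2 (QuotientGroup.eq.1 (Quotient.eq_iff_equiv.2 h))))
    refine (Nat.card_le_card_of_injective φ ?_).trans_eq (Nat.card_eq_finsetCard _)
    intro a b hab
    induction a using QuotientGroup.induction_on with | H g => ?_
    induction b using QuotientGroup.induction_on with | H g' => ?_
    exact QuotientGroup.eq.2 ((hexC g g').1 (congrArg Subtype.val hab))
  -- the subgroup `X = V B`
  let B' : Subgroup H := B.map C.subtype
  have hB' : ∀ a ∈ B', ∀ b ∈ B', a * b = b * a := by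
    rintro _ ⟨a, ha, rfl⟩ _ ⟨b, hb, rfl⟩
    have h := hUab a ha b hb
    rw [hUbot, Subgroup.mem_bot, mul_inv_eq_one] at h
    exact congrArg C.subtype h
  let X : Subgroup G := B'.comap (QuotientGroup.mk' V)
  let V' : Subgroup X := V.subgroupOf X
  have hVX : V ≤ X := fun v hv => by
    show QuotientGroup.mk' V v ∈ B'
    rw [QuotientGroup.mk'_apply, (QuotientGroup.eq_one_iff v).2 hv]
    exact one_mem _
  let πX : X →* B' := (QuotientGroup.mk' V).subgroupComap B'
  have hπX : Function.Surjective πX := fun y => by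
    obtain ⟨g, hg⟩ := QuotientGroup.mk'_surjective V (y : H)
    exact ⟨⟨g, show QuotientGroup.mk' V g ∈ B' from hg ▸ y.2⟩, Subtype.ext hg⟩
  have hπker : πX.ker = V' := by
    ext y
    rw [MonoidHom.mem_ker, ← Subtype.coe_inj]
    exact QuotientGroup.eq_one_iff _
  have hkX : Nat.card W ≤ k X ^ 2 := by
    obtain ⟨c', hc1', hc2'⟩ := Counting.exists_classes V' V' (fun a ha g hg =>
      Subtype.ext (congrArg (fun z : V => (z : G))
        (mul_comm' (⟨(g : G), hg⟩ : V) ⟨(a : G), ha⟩)))
    have hkB : k (X ⧸ V') = Nat.card B' := by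
      rw [k_congr ((QuotientGroup.quotientMulEquivOfEq hπker.symm).trans
        (QuotientGroup.quotientKerEquivOfSurjective πX hπX))]
      exact k_of_comm fun a b => Subtype.ext (hB' a a.2 b b.2)
    have hidx : V'.index = Nat.card B' := by
      rw [← hπker, Subgroup.index_ker, MonoidHom.range_eq_top.2 hπX, Subgroup.card_top]
    have hV'card : Nat.card V' = Nat.card W := by
      rw [hWcard]; exact Nat.card_congr (Subgroup.subgroupOfEquivOfLe hVX).toEquiv
    have hB1 : 1 ≤ Nat.card B' := Nat.card_pos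
    rw [hkB] at hc1'
    rw [hV'card, hidx] at hc2'
    calc Nat.card W ≤ (Nat.card B' + c') * Nat.card B' := by
          rw [add_mul]
          have : 1 ≤ Nat.card B' * Nat.card B' := Nat.one_le_iff_ne_zero.2 (by positivity)
          omega
      _ ≤ k X * k X := Nat.mul_le_mul hc1' (le_trans (Nat.le_add_right _ _) hc1')
      _ = _ := (sq _).symm
  have hXidx : X.index = B.index * e := by
    rw [B'.index_comap_of_surjective (QuotientGroup.mk'_surjective V), Subgroup.index_map_subtype]
  have hfinal : 2 ^ Pol.natDegree * B.index ^ 2 ≤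
      k G ^ 2 * Pol.natDegree ^ 2 * B.index ^ 2 := by
    calc _ ≤ k X ^ 2 := hPB.trans hkX
      _ ≤ (X.index * k G) ^ 2 := Nat.pow_le_pow_left (Counting.k_subgroup_le X) 2
      _ ≤ (B.index * Pol.natDegree * k G) ^ 2 := by
          rw [hXidx]
          exact Nat.pow_le_pow_left (Nat.mul_le_mul_right _ (Nat.mul_le_mul_left _ heM)) 2
      _ = _ := by ring
  exact est_of_log hp2 (large_bound hp4096 (hel.trans_le heM) (Nat.le_of_mul_le_mul_right hfinal
    (Nat.pow_pos (Nat.pos_of_ne_zero Subgroup.index_ne_zero_of_finite))))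

/-- The theorem for groups in the lowest universe. -/
theorem est_class_number (p : ℕ) [Fact p.Prime] : ∀ (n : ℕ) (G : Type) [Group G] [Finite G]
    [Group.IsSolvable G], Nat.card G = n → p ∣ (fittingSubgroup G).index → Est p (k G) := by
  classical
  intro n
  induction n using Nat.strong_induction_on with | _ n ih => ?_
  intro G _ _ _ hn hp
  subst hn
  by_cases hex : ∃ (W : Subgroup G) (_ : W.Normal), W ≠ ⊥ ∧ p ∣ (fittingSubgroup (G ⧸ W)).index
  · obtain ⟨W, _, hW, hWp⟩ := hex
    refine (ih _ ?_ (G ⧸ W) rfl hWp).mono (Counting.k_quotient_le W)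
    rw [W.card_eq_card_quotient_mul_card_subgroup]
    exact lt_mul_of_one_lt_right Nat.card_pos ((Subgroup.one_lt_card_iff_ne_bot _).2 hW)
  push Not at hex
  obtain ⟨V, _, hV0, hmin, hC⟩ := exists_self_centralising p hp hex
  exact est_of_reduced p hp V hV0 hmin hC (hex V inferInstance hV0)

end Cfsg.Agent.Lib.SolvClass.ClassLower
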