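import Cfsg.Agent.Lib.SolvClass.Counting
import Mathlib.GroupTheory.ClassEquation

/-!
# Weights from class sizes, and groups with very few classes
-/

set_option autoImplicit false
set_option linter.style.haveILetI false
set_option linter.unusedSectionVars false

namespace Cfsg.Agent.Lib.SolvClass.ClassSize

open Cfsg.Agent.Lib.SolvClass

universe u

variable {X : Type u} [Group X] [Finite X]

/-- `w` bounds the square of an index times the class sizes in the subgroup. -/
def Wt (X : Type u) [Group X] (w : ℕ) : Prop :=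
  ∃ (C : Subgroup X) (c g : ℕ), C.index ≤ c ∧
    (∀ x ∈ C, (Subgroup.centralizer ({x} : Set X)).relIndex C ≤ g) ∧ c ^ 2 * g ≤ w

theorem Wt.mono {w w' : ℕ} (h : Wt X w) (hw : w ≤ w') : Wt X w' := by
  obtain ⟨C, c, g, h1, h2, h3⟩ := h
  exact ⟨C, c, g, h1, h2, h3.trans hw⟩

/-- If all classes have at most `g` elements there are at least `|X| / g` of them. -/
theorem card_le_k_mul {g : ℕ}
    (h : ∀ x : X, (Subgroup.centralizer ({x} : Set X)).index ≤ g) : Nat.card X ≤ g * k X := by
  classical
  haveI := Fintype.ofFinite X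
  have hpt : ∀ x : X, Nat.card X ≤ g * Nat.card (Subgroup.centralizer ({x} : Set X)) := fun x => by
    rw [← (Subgroup.centralizer ({x} : Set X)).card_mul_index, mul_comm g]
    exact Nat.mul_le_mul_left _ (h x)
  have hsum := Finset.sum_le_sum (s := Finset.univ) fun x (_ : x ∈ Finset.univ) => hpt x
  rw [← Finset.mul_sum, ← k_mul_card_eq_sum, Finset.sum_const, smul_eq_mul, Finset.card_univ,
    ← Nat.card_eq_fintype_card, ← mul_assoc] at hsum
  exact Nat.le_of_mul_le_mul_right hsum Nat.card_pos

theorem Wt.pos {w : ℕ} (h : Wt X w) : 0 < w := by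
  obtain ⟨C, c, g, hc, hg, hw⟩ := h
  have h1 : 0 < c := lt_of_lt_of_le (Nat.pos_of_ne_zero Subgroup.index_ne_zero_of_finite) hc
  have h2 : 0 < g := lt_of_lt_of_le (Nat.pos_of_ne_zero
    Subgroup.index_ne_zero_of_finite) (hg 1 C.one_mem)
  exact lt_of_lt_of_le (by positivity) hw

theorem Wt.card_le {w : ℕ} (h : Wt X w) : Nat.card X ≤ w * k X := by
  obtain ⟨C, c, g, hc, hg, hw⟩ := h
  have h1 : Nat.card C ≤ g * k C := card_le_k_mul fun x => by
    refine le_trans (le_of_eq ?_) (hg x x.2)
    rw [Subgroup.relIndex]
    congr 1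
    ext y
    rw [Subgroup.mem_subgroupOf, Subgroup.mem_centralizer_singleton_iff,
      Subgroup.mem_centralizer_singleton_iff]
    exact ⟨fun hy => congrArg Subtype.val hy, fun hy => Subtype.ext hy⟩
  rw [← C.card_mul_index]
  calc Nat.card C * C.index ≤ g * k C * C.index := Nat.mul_le_mul_right _ h1
    _ ≤ g * (C.index * k X) * C.index :=
        Nat.mul_le_mul_right _ (Nat.mul_le_mul_left _ (Counting.k_subgroup_le C))
    _ = C.index ^ 2 * g * k X := by ring
    _ ≤ w * k X := Nat.mul_le_mul_right _ (le_trans
        (Nat.mul_le_mul_right _ (Nat.pow_le_pow_left hc 2)) hw)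

/-- A group with at most four classes has at most 42 elements. -/
theorem card_le_of_k_le_four (h : k X ≤ 4) : Nat.card X ≤ 42 := by
  classical
  haveI := Fintype.ofFinite X
  haveI := Fintype.ofFinite (ConjClasses X)
  let N := Nat.card X
  let sz : ConjClasses X → ℕ := fun c => Nat.card c.carrier
  have hsum : ∑ c : ConjClasses X, sz c = N := by
    show ∑ c : ConjClasses X, Nat.card c.carrier = Nat.card X
    simp only [Nat.card_eq_fintype_card, ← Set.toFinset_card]
    exact sum_conjClasses_card_eq_card X
  have hdvd : ∀ c, sz c ∣ N := by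
    intro c
    induction c using Quotient.inductionOn with
    | h a =>
      show Nat.card (ConjClasses.mk a).carrier ∣ N
      rw [← ConjAct.orbit_eq_carrier_conjClasses, Nat.card_coe_set_eq,
        ← MulAction.index_stabilizer]
      exact (Subgroup.index_dvd_card _).trans
        (Nat.card_congr ConjAct.toConjAct.toEquiv).symm.dvd
  have h1 : sz (ConjClasses.mk 1) = 1 := by
    show Nat.card (ConjClasses.mk (1 : X)).carrier = 1
    haveI : Subsingleton (ConjClasses.mk (1 : X)).carrier := ⟨fun x y => Subtype.ext (by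
      have hx := ConjClasses.mem_carrier_iff_mk_eq.1 x.2
      have hy := ConjClasses.mem_carrier_iff_mk_eq.1 y.2
      rw [ConjClasses.mk_eq_mk_iff_isConj, isConj_one_left] at hx hy
      rw [hx, hy])⟩
    exact Nat.card_eq_one_iff_unique.2 ⟨inferInstance, ⟨⟨1, ConjClasses.mem_carrier_mk⟩⟩⟩
  obtain ⟨l, hl, hperm⟩ : ∃ l : List ℕ, l.length + 1 = k X ∧
      l.sum + 1 = N ∧ ∀ a ∈ l, a ∣ N ∧ 0 < a := by
    refine ⟨((Finset.univ.erase (ConjClasses.mk (1 : X))).toList.map sz), ?_, ?_, ?_⟩
    · rw [List.length_map, Finset.length_toList,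
        Finset.card_erase_of_mem (Finset.mem_univ _), Finset.card_univ, k,
        Nat.card_eq_fintype_card]
      have : 0 < Fintype.card (ConjClasses X) := Fintype.card_pos
      omega
    · rw [Finset.sum_map_toList, ← hsum,
        ← Finset.sum_erase_add _ _ (Finset.mem_univ (ConjClasses.mk (1 : X))), h1]
    · intro a ha
      obtain ⟨c, -, rfl⟩ := List.mem_map.1 ha
      refine ⟨hdvd c, ?_⟩
      induction c using Quotient.inductionOn with
      | h a =>
        haveI : Nonempty (ConjClasses.mk a).carrier := ⟨⟨a, ConjClasses.mem_carrier_mk⟩⟩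
        exact Nat.card_pos (α := (ConjClasses.mk a).carrier)
  obtain ⟨hN, hd⟩ := hperm
  have key : ∀ a b c : ℕ, a ∣ N → b ∣ N → c ∣ N → 0 < a → a ≤ b → b ≤ c → c < N →
      1 + a + b + c = N → N ≤ 42 := by
    intro a b c ha hb hc ha0 hab hbc hcN hNe
    obtain ⟨i, hi⟩ := hc
    obtain ⟨j, hj⟩ := hb
    obtain ⟨m, hm⟩ := ha
    have hi2 : 2 ≤ i := by
      by_contra hlt
      have : c * i ≤ c * 1 := Nat.mul_le_mul_left c (by omega)
      omega
    rcases Nat.lt_or_ge 4 N with hN4 | hN4
    swap
    · omega
    have hi3 : i ≤ 3 := by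
      by_contra hlt
      have : c * 4 ≤ c * i := Nat.mul_le_mul_left c (by omega)
      omega
    have hj3 : i ≤ j := by
      by_contra hlt
      have h2 : b * j < b * i := Nat.mul_lt_mul_of_pos_left (by omega) (by omega)
      have h3 : b * i ≤ c * i := Nat.mul_le_mul_right i hbc
      omega
    rcases Nat.lt_or_ge 42 N with hN42 | hN42
    swap
    · exact hN42
    have hj6 : j ≤ 6 := by
      by_contra hlt
      have h2 : b * 7 ≤ b * j := Nat.mul_le_mul_left b (by omega)
      interval_cases i <;> omega
    interval_cases i <;> interval_cases j <;> first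
      | omega
      | (have hm18 : m ≤ 43 := by
          by_contra hlt
          have h2 : a * 44 ≤ a * m := Nat.mul_le_mul_left a (by omega)
          omega
         interval_cases m <;> omega)
  match l, hl, hN, hd with
  | [], _, hN, _ => simp at hN; omega
  | [a], _, hN, hd =>
    obtain ⟨⟨m, hm⟩, ha⟩ := hd a (by simp)
    simp at hN
    have : m ≤ 2 := by
      by_contra hlt
      have h2 : a * 3 ≤ a * m := Nat.mul_le_mul_left a (by omega)
      omega
    interval_cases m <;> omega
  | [a, b], _, hN, hd =>
    simp at hN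
    have key2 : ∀ a b : ℕ, a ∣ N → b ∣ N → 0 < a → a ≤ b → 1 + a + b = N → N ≤ 42 := by
      intro a b ha hb ha0 hab hNe
      obtain ⟨j, hj⟩ := hb
      obtain ⟨m, hm⟩ := ha
      have hj3 : j ≤ 3 := by
        by_contra hlt
        have : b * 4 ≤ b * j := Nat.mul_le_mul_left b (by omega)
        omega
      have hm7 : m ≤ 8 ∨ N ≤ 42 := by
        by_contra hlt
        have h2 : a * 9 ≤ a * m := Nat.mul_le_mul_left a (by omega)
        interval_cases j <;> omega
      rcases hm7 with hm7 | hm7
      · interval_cases j <;> interval_cases m <;> omega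
      · exact hm7
    obtain ⟨had, ha⟩ := hd a (by simp)
    obtain ⟨hbd, hb⟩ := hd b (by simp)
    rcases le_total a b with hab | hab
    · exact key2 a b had hbd ha hab (by omega)
    · exact key2 b a hbd had hb hab (by omega)
  | [a, b, c], _, hN, hd =>
    simp at hN
    obtain ⟨had, ha⟩ := hd a (by simp)
    obtain ⟨hbd, hb⟩ := hd b (by simp)
    obtain ⟨hcd, hc⟩ := hd c (by simp)
    rcases le_total a b with h12 | h12 <;> rcases le_total b c with h23 | h23 <;>
      rcases le_total a c with h13 | h13
    all_goals first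
      | exact key a b c had hbd hcd ha (by omega) (by omega) (by omega) (by omega)
      | exact key a c b had hcd hbd ha (by omega) (by omega) (by omega) (by omega)
      | exact key b a c hbd had hcd hb (by omega) (by omega) (by omega) (by omega)
      | exact key b c a hbd hcd had hb (by omega) (by omega) (by omega) (by omega)
      | exact key c a b hcd had hbd hc (by omega) (by omega) (by omega) (by omega)
      | exact key c b a hcd hbd had hc (by omega) (by omega) (by omega) (by omega)
  | _ :: _ :: _ :: _ :: _, hl, _, _ => simp at hl; omega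

/-- A group with at most three classes has at most six elements. -/
theorem card_le_of_k_le_three (h : k X ≤ 3) : Nat.card X ≤ 6 := by
  classical
  haveI := Fintype.ofFinite X
  haveI := Fintype.ofFinite (ConjClasses X)
  let N := Nat.card X
  let sz : ConjClasses X → ℕ := fun c => Nat.card c.carrier
  have hsum : ∑ c : ConjClasses X, sz c = N := by
    show ∑ c : ConjClasses X, Nat.card c.carrier = Nat.card X
    simp only [Nat.card_eq_fintype_card, ← Set.toFinset_card]
    exact sum_conjClasses_card_eq_card X
  have hdvd : ∀ c, sz c ∣ N := by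
    intro c
    induction c using Quotient.inductionOn with
    | h a =>
      show Nat.card (ConjClasses.mk a).carrier ∣ N
      rw [← ConjAct.orbit_eq_carrier_conjClasses, Nat.card_coe_set_eq,
        ← MulAction.index_stabilizer]
      exact (Subgroup.index_dvd_card _).trans
        (Nat.card_congr ConjAct.toConjAct.toEquiv).symm.dvd
  have h1 : sz (ConjClasses.mk 1) = 1 := by
    show Nat.card (ConjClasses.mk (1 : X)).carrier = 1
    haveI : Subsingleton (ConjClasses.mk (1 : X)).carrier := ⟨fun x y => Subtype.ext (by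
      have hx := ConjClasses.mem_carrier_iff_mk_eq.1 x.2
      have hy := ConjClasses.mem_carrier_iff_mk_eq.1 y.2
      rw [ConjClasses.mk_eq_mk_iff_isConj, isConj_one_left] at hx hy
      rw [hx, hy])⟩
    exact Nat.card_eq_one_iff_unique.2 ⟨inferInstance, ⟨⟨1, ConjClasses.mem_carrier_mk⟩⟩⟩
  obtain ⟨l, hl, hperm⟩ : ∃ l : List ℕ, l.length + 1 = k X ∧
      l.sum + 1 = N ∧ ∀ a ∈ l, a ∣ N ∧ 0 < a := by
    refine ⟨((Finset.univ.erase (ConjClasses.mk (1 : X))).toList.map sz), ?_, ?_, ?_⟩
    · rw [List.length_map, Finset.length_toList,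
        Finset.card_erase_of_mem (Finset.mem_univ _), Finset.card_univ, k,
        Nat.card_eq_fintype_card]
      have : 0 < Fintype.card (ConjClasses X) := Fintype.card_pos
      omega
    · rw [Finset.sum_map_toList, ← hsum,
        ← Finset.sum_erase_add _ _ (Finset.mem_univ (ConjClasses.mk (1 : X))), h1]
    · intro a ha
      obtain ⟨c, -, rfl⟩ := List.mem_map.1 ha
      refine ⟨hdvd c, ?_⟩
      induction c using Quotient.inductionOn with
      | h a =>
        haveI : Nonempty (ConjClasses.mk a).carrier := ⟨⟨a, ConjClasses.mem_carrier_mk⟩⟩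
        exact Nat.card_pos (α := (ConjClasses.mk a).carrier)
  obtain ⟨hN, hd⟩ := hperm
  match l, hl, hN, hd with
  | [], _, hN, _ => simp at hN; omega
  | [a], _, hN, hd =>
    obtain ⟨⟨m, hm⟩, ha⟩ := hd a (by simp)
    simp at hN
    have : m ≤ 2 := by
      by_contra hlt
      have h2 : a * 3 ≤ a * m := Nat.mul_le_mul_left a (by omega)
      omega
    interval_cases m <;> omega
  | [a, b], _, hN, hd =>
    simp at hN
    have key2 : ∀ a b : ℕ, a ∣ N → b ∣ N → 0 < a → a ≤ b → 1 + a + b = N → N ≤ 6 := by
      intro a b ha hb ha0 hab hNe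
      obtain ⟨j, hj⟩ := hb
      obtain ⟨m, hm⟩ := ha
      have hj3 : j ≤ 3 := by
        by_contra hlt
        have : b * 4 ≤ b * j := Nat.mul_le_mul_left b (by omega)
        omega
      have hm7 : m ≤ 8 ∨ N ≤ 6 := by
        by_contra hlt
        have h2 : a * 9 ≤ a * m := Nat.mul_le_mul_left a (by omega)
        interval_cases j <;> omega
      rcases hm7 with hm7 | hm7
      · interval_cases j <;> interval_cases m <;> omega
      · exact hm7
    obtain ⟨had, ha⟩ := hd a (by simp)
    obtain ⟨hbd, hb⟩ := hd b (by simp)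
    rcases le_total a b with hab | hab
    · exact key2 a b had hbd ha hab (by omega)
    · exact key2 b a hbd had hb hab (by omega)
  | _ :: _ :: _ :: _, hl, _, _ => simp at hl; omega

end Cfsg.Agent.Lib.SolvClass.ClassSize
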