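import Cfsg.Agent.Lib.SolvClass.ClassSize
import Cfsg.Agent.Lib.SolvClass.AbelianBound

/-!
# Weights of soluble irreducible linear groups

Bounds `w` with `|H| ≤ w · k(H)` for soluble irreducible linear groups over `ZMod p`, `p ≥ 11`.
-/

set_option autoImplicit false
set_option linter.style.haveILetI false
set_option linter.unusedSectionVars false

namespace Cfsg.Agent.Lib.SolvClass.ClassWeights

open Module Cfsg.Agent.Lib.SolvClass ClassSize

/-- Bound for `[C : A]`, where `t ^ 2` is the order of the layer. -/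
def Bd (t x : ℕ) : Prop :=
  (t = 1 → x ≤ 1) ∧ (t = 2 → x ≤ 24) ∧ (t = 3 → x ≤ 432) ∧ (4 ≤ t → x ≤ 10 * 11 ^ (t - 2))

theorem Bd.mono {t x y : ℕ} (h : Bd t x) (hy : y ≤ x) : Bd t y :=
  ⟨fun e => hy.trans (h.1 e), fun e => hy.trans (h.2.1 e), fun e => hy.trans (h.2.2.1 e),
    fun e => hy.trans (h.2.2.2 e)⟩

theorem Bd.le_forty {t x : ℕ} (h : Bd t x) (ht : 2 ≤ t) : x ≤ 40 * 11 ^ (t - 2) := by
  rcases (show t = 2 ∨ t = 3 ∨ 4 ≤ t by omega) with rfl | rfl | h4
  · exact (h.2.1 rfl).trans (by norm_num)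
  · exact (h.2.2.1 rfl).trans (by norm_num)
  · exact (h.2.2.2 h4).trans (Nat.mul_le_mul_right _ (by norm_num))

theorem Bd.mul {a b x y : ℕ} (ha : 2 ≤ a) (hb : 2 ≤ b) (hx : Bd a x) (hy : Bd b y) :
    Bd (a * b) (x * y) := by
  have h4 : 4 ≤ a * b := Nat.mul_le_mul ha hb
  refine ⟨fun e => absurd e (by omega), fun e => absurd e (by omega), fun e => absurd e (by omega),
    fun _ => ?_⟩
  by_cases h22 : a = 2 ∧ b = 2
  · obtain ⟨rfl, rfl⟩ := h22
    exact (Nat.mul_le_mul (hx.2.1 rfl) (hy.2.1 rfl)).trans (by norm_num)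
  have h3 : a + b + 1 ≤ a * b := by
    obtain ⟨a, rfl⟩ : ∃ i, a = i + 2 := ⟨a - 2, by omega⟩
    obtain ⟨b, rfl⟩ : ∃ i, b = i + 2 := ⟨b - 2, by omega⟩
    have e : (a + 2) * (b + 2) = a * b + 2 * a + 2 * b + 4 := by ring
    omega
  calc x * y ≤ 40 * 11 ^ (a - 2) * (40 * 11 ^ (b - 2)) :=
        Nat.mul_le_mul (hx.le_forty ha) (hy.le_forty hb)
    _ = 10 * (160 * 11 ^ (a - 2 + (b - 2))) := by rw [pow_add]; ring
    _ ≤ 10 * (11 ^ 3 * 11 ^ (a - 2 + (b - 2))) :=
        Nat.mul_le_mul_left _ (Nat.mul_le_mul_right _ (by norm_num))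
    _ ≤ 10 * 11 ^ (a * b - 2) := by
        rw [← pow_add]
        exact Nat.mul_le_mul_left _ (Nat.pow_le_pow_right (by norm_num) (by omega))

theorem pow_eight_le (u : ℕ) (hu : 8 ≤ u) : u ^ 8 ≤ 10 * 11 ^ (u - 2) := by
  induction u, hu using Nat.le_induction with
  | base => norm_num
  | succ u hu ih =>
    have h8 : (u + 1) ^ 8 * 8 ^ 8 ≤ u ^ 8 * 9 ^ 8 := by
      rw [← mul_pow, ← mul_pow]
      exact Nat.pow_le_pow_left (by omega) _
    rw [show u + 1 - 2 = u - 2 + 1 by omega, pow_succ 11]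
    omega

theorem pow_six_le (q : ℕ) (hq : 7 ≤ q) : q ^ 6 ≤ 10 * 11 ^ (q - 2) := by
  induction q, hq using Nat.le_induction with
  | base => norm_num
  | succ q hq ih =>
    have h7 : (q + 1) ^ 6 * 7 ^ 6 ≤ q ^ 6 * 8 ^ 6 := by
      rw [← mul_pow, ← mul_pow]
      exact Nat.pow_le_pow_left (by omega) _
    rw [show q + 1 - 2 = q - 2 + 1 by omega, pow_succ 11]
    omega

/-- The bound for one piece. -/
theorem action_weight {q e : ℕ} [Fact q.Prime] (he : 0 < e)
    {W : Type} [AddCommGroup W] [Module (ZMod q) W] [Finite W] (hcard : Nat.card W = q ^ (2 * e))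
    (T : Subgroup (W ≃ₗ[ZMod q] W)) (hsol : Group.IsSolvable T) (hirr : Irr T) :
    Bd (q ^ e) (q ^ (2 * e) * Nat.card T) := by
  have hq : q.Prime := Fact.out
  haveI : Module.Finite (ZMod q) W := Module.Finite.of_finite
  haveI := finite_GL (L := ZMod q) (V := W)
  have hdim : finrank (ZMod q) W = 2 * e := by
    have := Module.natCard_eq_pow_finrank (K := ZMod q) (V := W)
    rw [hcard, Nat.card_zmod] at this
    exact (Nat.pow_right_injective hq.two_le this).symm
  have hq2 := hq.two_le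
  by_cases he1 : e = 1
  · subst he1
    have hT : Nat.card T ≤ (q ^ 2 - 1) * (q ^ 2 - q) := by
      have := card_GL_two (hdim.trans (mul_one 2))
      rw [Nat.card_zmod] at this
      exact T.card_le_card_group.trans this
    rw [pow_one, mul_one]
    refine ⟨fun h => absurd h (by omega), fun h => ?_, fun h => ?_, fun h => ?_⟩
    · subst h; exact (Nat.mul_le_mul_left _ hT).trans (by norm_num)
    · subst h; exact (Nat.mul_le_mul_left _ hT).trans (by norm_num)
    · rcases (show q = 4 ∨ q = 5 ∨ q = 6 ∨ 7 ≤ q by omega) with rfl | rfl | rfl | h7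
      · norm_num at hq
      · exact (Nat.mul_le_mul_left _ hT).trans (by norm_num)
      · norm_num at hq
      · refine le_trans ?_ (pow_six_le q h7)
        calc q ^ 2 * Nat.card T ≤ q ^ 2 * (q ^ 2 * q ^ 2) :=
              Nat.mul_le_mul_left _ (hT.trans (Nat.mul_le_mul (Nat.sub_le _ _) (Nat.sub_le _ _)))
          _ = q ^ 6 := by ring
  have h4 : 4 ≤ q ^ e := by
    calc 4 = 2 ^ 2 := by norm_num
      _ ≤ 2 ^ e := Nat.pow_le_pow_right (by norm_num) (by omega)
      _ ≤ q ^ e := Nat.pow_le_pow_left hq2 e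
  refine ⟨fun h => absurd h (by omega), fun h => absurd h (by omega),
    fun h => absurd h (by omega), fun _ => ?_⟩
  by_cases h22 : q = 2 ∧ e = 2
  · obtain ⟨rfl, rfl⟩ := h22
    exact (Nat.mul_le_mul_left _ (card_four_two (Nat.card_zmod 2) hdim T hsol hirr)).trans
      (by norm_num)
  have hu : 8 ≤ q ^ e := by
    rcases hq.eq_two_or_odd with rfl | hodd
    · exact (Nat.pow_le_pow_right (by norm_num) (show 3 ≤ e by omega)).trans' (by norm_num)
    · calc (8 : ℕ) ≤ 3 ^ 2 := by norm_num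
        _ ≤ 3 ^ e := Nat.pow_le_pow_right (by norm_num) (by omega)
        _ ≤ q ^ e := Nat.pow_le_pow_left (by omega) e
  refine le_trans ?_ (pow_eight_le _ hu)
  calc q ^ (2 * e) * Nat.card T ≤ q ^ (2 * e) * Nat.card W ^ 3 :=
        Nat.mul_le_mul_left _ (card_le_cube T hsol hirr)
    _ = (q ^ e) ^ 8 := by rw [hcard]; ring

/-- A piece as a module. -/
theorem exists_piece_rep {G : Type} [Group G] [Finite G] {F : Frame G}
    [F.A.Normal] (B : Subgroup G) [B.Normal] (q e : ℕ) [Fact q.Prime] (hP : Piece F B q e) :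
    ∃ (W : Type) (_ : AddCommGroup W) (_ : Module (ZMod q) W) (_ : Finite W)
      (ρ : G →* (W ≃ₗ[ZMod q] W)) (φ : B → W),
      Nat.card W = q ^ (2 * e) ∧ ρ.ker = cen F.A B ∧ Irr ρ.range ∧ Function.Surjective φ ∧
      (∀ a b : B, φ (a * b) = φ a + φ b) ∧ (∀ b : B, φ b = 0 ↔ (b : G) ∈ F.A) ∧
      ∀ (g : G) (b b' : B), (b' : G) = g * b * g⁻¹ → ρ g (φ b) = φ b' := by
  classical
  set Bq := B.map (QuotientGroup.mk' F.A) with hBq
  haveI : Bq.Normal := Subgroup.Normal.map inferInstance _ (QuotientGroup.mk'_surjective _)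
  letI : CommGroup Bq :=
    { (inferInstance : Group Bq) with
      mul_comm := by
        rintro ⟨-, x, hx, rfl⟩ ⟨-, y, hy, rfl⟩
        refine Subtype.ext ?_
        have := (QuotientGroup.eq_one_iff (N := F.A) _).2 (F.E_comm x (hP.le hx) y (hP.le hy))
        simp only [QuotientGroup.mk_mul, QuotientGroup.mk_inv] at this
        exact mul_inv_eq_iff_eq_mul.1 (mul_inv_eq_one.1 this) }
  have hexp : ∀ x : Additive Bq, q • x = 0 := fun x => by
    obtain ⟨y, hy, hyx⟩ := (Additive.toMul x).2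
    refine Additive.toMul.injective (Subtype.ext ?_)
    show ((Additive.toMul x : Bq) : G ⧸ F.A) ^ q = 1
    rw [← hyx, ← map_pow, QuotientGroup.mk'_apply, QuotientGroup.eq_one_iff]
    exact hP.pow_mem y hy
  have hcard : Nat.card (Additive Bq) = q ^ (2 * e) := by
    have h := Subgroup.relIndex_ker B (QuotientGroup.mk' F.A)
    rw [QuotientGroup.ker_mk'] at h
    rw [← hP.relIndex, h]
    exact Nat.card_congr Additive.toMul
  letI := AddCommGroup.zmodModule (n := q) hexp
  let lin : G →* Module.End (ZMod q) (Additive Bq) :=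
    { toFun := fun g => (MonoidHom.toAdditive
        (MulAut.conjNormal (g : G ⧸ F.A) : MulAut Bq).toMonoidHom).toZModLinearMap q
      map_one' := LinearMap.ext fun x => Additive.toMul.injective (by
        show MulAut.conjNormal ((1 : G) : G ⧸ F.A) (Additive.toMul x) = Additive.toMul x
        rw [QuotientGroup.mk_one, map_one]
        rfl)
      map_mul' := fun a b => LinearMap.ext fun x => Additive.toMul.injective (by
        show MulAut.conjNormal ((a * b : G) : G ⧸ F.A) (Additive.toMul x) =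
          MulAut.conjNormal (a : G ⧸ F.A) (MulAut.conjNormal (b : G ⧸ F.A) (Additive.toMul x))
        rw [QuotientGroup.mk_mul, map_mul]
        rfl) }
  let ρ : G →* (Additive Bq ≃ₗ[ZMod q] Additive Bq) :=
    (LinearMap.GeneralLinearGroup.generalLinearEquiv (ZMod q) (Additive Bq)).toMonoidHom.comp
      lin.toHomUnits
  have hρ : ∀ g x, ((Additive.toMul (ρ g x) : Bq) : G ⧸ F.A) =
      (g : G ⧸ F.A) * ((Additive.toMul x : Bq) : G ⧸ F.A) * (g : G ⧸ F.A)⁻¹ := fun g x => rfl
  have hker : ρ.ker = cen F.A B := by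
    ext g
    rw [MonoidHom.mem_ker, mem_cen]
    constructor
    · intro h b hb
      have h1 := hρ g (Additive.ofMul ⟨_, b, hb, rfl⟩)
      rw [h] at h1
      rw [← QuotientGroup.eq_one_iff]
      simp only [QuotientGroup.mk_mul, QuotientGroup.mk_inv]
      rw [show (g : G ⧸ F.A) * (b : G ⧸ F.A) * (g : G ⧸ F.A)⁻¹ = (b : G ⧸ F.A) from h1.symm]
      exact mul_inv_cancel _
    · intro h
      refine LinearEquiv.ext fun x => Additive.toMul.injective (Subtype.ext ?_)
      rw [hρ]
      obtain ⟨b, hb, hbx⟩ := (Additive.toMul x).2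
      show _ = ((Additive.toMul x : Bq) : G ⧸ F.A)
      rw [← hbx]
      have h2 := (QuotientGroup.eq_one_iff (N := F.A) _).2 (h b hb)
      simp only [QuotientGroup.mk_mul, QuotientGroup.mk_inv] at h2
      exact mul_inv_eq_one.1 h2
  haveI : Nontrivial (Additive Bq) := by
    rw [← Finite.one_lt_card_iff_nontrivial, hcard]
    exact Nat.one_lt_pow (by have := hP.epos; omega) (Fact.out : q.Prime).one_lt
  have hirr : Irr ρ.range := irr_range ρ fun U hU => by
    let K : Subgroup G :=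
      { carrier := {x | ∃ hx : (x : G ⧸ F.A) ∈ Bq, Additive.ofMul (⟨_, hx⟩ : Bq) ∈ U}
        mul_mem' := by
          rintro a b ⟨ha, ha'⟩ ⟨hb, hb'⟩
          exact ⟨mul_mem ha hb, U.add_mem ha' hb'⟩
        one_mem' := ⟨one_mem _, U.zero_mem⟩
        inv_mem' := by
          rintro a ⟨ha, ha'⟩
          exact ⟨inv_mem ha, U.neg_mem ha'⟩ }
    have hKn : K.Normal := ⟨by
      rintro x ⟨hx, hx'⟩ g
      exact ⟨(inferInstance : Bq.Normal).conj_mem _ hx (g : G ⧸ F.A), hU g _ hx'⟩⟩
    have hAK : F.A ≤ K := fun a ha => by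
      have h1 : (a : G ⧸ F.A) = 1 := (QuotientGroup.eq_one_iff a).2 ha
      refine ⟨h1 ▸ one_mem _, ?_⟩
      convert U.zero_mem using 1
      exact Additive.toMul.injective (Subtype.ext h1)
    have hKB : K ≤ B := by
      rintro x ⟨hx, -⟩
      obtain ⟨b, hb, hbx⟩ := hx
      have : b⁻¹ * x ∈ F.A := QuotientGroup.eq.1 hbx
      simpa using B.mul_mem hb (hP.lt.le this)
    rcases hP.minimal K hKn hAK hKB with h | h
    · left
      refine (Submodule.eq_bot_iff U).2 fun u hu => ?_
      obtain ⟨b, hb, hbx⟩ := (Additive.toMul u).2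
      have hbK : b ∈ K := ⟨⟨b, hb, rfl⟩, by
        convert hu using 1
        exact Additive.toMul.injective (Subtype.ext hbx)⟩
      rw [h] at hbK
      exact Additive.toMul.injective
        (Subtype.ext (hbx.symm.trans ((QuotientGroup.eq_one_iff b).2 hbK)))
    · right
      refine Submodule.eq_top_iff'.2 fun u => ?_
      obtain ⟨b, hb, hbx⟩ := (Additive.toMul u).2
      have hbK : b ∈ K := by rw [h]; exact hb
      obtain ⟨hx, hxU⟩ := hbK
      convert hxU using 1
      exact Additive.toMul.injective (Subtype.ext hbx.symm)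
  refine ⟨Additive Bq, inferInstance, inferInstance, inferInstance, ρ,
    fun b => Additive.ofMul (⟨((b : G) : G ⧸ F.A), b, b.2, rfl⟩ : Bq), hcard, hker, hirr,
    fun x => ?_, fun a b => ?_, fun b => ?_, fun g b b' h => ?_⟩
  · obtain ⟨b, hb, hbx⟩ := (Additive.toMul x).2
    exact ⟨⟨b, hb⟩, Additive.toMul.injective (Subtype.ext hbx)⟩
  · exact Additive.toMul.injective (Subtype.ext rfl)
  · constructor
    · intro h
      exact (QuotientGroup.eq_one_iff _).1
        (congrArg (fun z : Additive Bq => ((Additive.toMul z : Bq) : G ⧸ F.A)) h :)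
    · intro h
      exact Additive.toMul.injective (Subtype.ext ((QuotientGroup.eq_one_iff _).2 h))
  · refine Additive.toMul.injective (Subtype.ext ?_)
    rw [hρ]
    show (g : G ⧸ F.A) * ((b : G) : G ⧸ F.A) * (g : G ⧸ F.A)⁻¹ = ((b' : G) : G ⧸ F.A)
    rw [h]
    rfl

/-- The index of `A` in its centraliser. -/
theorem piece_weight {G : Type} [Group G] [Finite G] [Group.IsSolvable G] {F : Frame G}
    [F.A.Normal] (B : Subgroup G) [B.Normal] (q e : ℕ) (hP : Piece F B q e) :
    Bd (q ^ e) (F.A.relIndex B * (cen F.A B).index) := by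
  haveI := Fact.mk hP.prime
  obtain ⟨W, _, _, _, ρ, -, hcard, hker, hirr, -⟩ := exists_piece_rep B q e hP
  rw [hP.relIndex, ← hker, Subgroup.index_ker]
  exact action_weight hP.epos hcard ρ.range
    (Group.isSolvable_of_surjective ρ.rangeRestrict_surjective) hirr

/-- Recursion over the layer. -/
theorem layer_weight {G : Type} [Group G] [Finite G] [Group.IsSolvable G] {F : Frame G}
    [F.A.Normal] (hom : HomBound F) (X : Subgroup G)
    [X.Normal] (hAX : F.A ≤ X) (hXE : X ≤ F.E) (hnd : Nondeg F.A X) :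
    ∃ t, F.A.relIndex X = t ^ 2 ∧ Bd t (F.A.relIndex X * (cen F.A X).index) := by
  classical
  induction hn : Nat.card X using Nat.strong_induction_on generalizing X with
  | _ n ih =>
  subst hn
  rcases hAX.eq_or_lt with h | hlt
  · subst h
    refine ⟨1, by rw [Subgroup.relIndex_self, one_pow], ?_⟩
    have hle : ∀ g : G, g ∈ cen F.A F.A := fun g => mem_cen.2 fun a ha =>
      F.A.mul_mem ((inferInstance : F.A.Normal).conj_mem a ha g) (F.A.inv_mem ha)
    rw [(Subgroup.eq_top_iff' _).2 hle, Subgroup.index_top, Subgroup.relIndex_self]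
    exact ⟨fun _ => le_rfl, fun e => absurd e (by omega), fun e => absurd e (by omega),
      fun e => absurd e (by omega)⟩
  obtain ⟨B, q, e, hBn, hBnd, hBX, hP⟩ := exists_piece hom hlt hXE
  haveI := hBn
  haveI : (Subgroup.centralizer (B : Set G)).Normal := Subgroup.normal_centralizer
  set Y := X ⊓ Subgroup.centralizer (B : Set G) with hYdef
  have hAY : F.A ≤ Y := fun a ha => ⟨hAX ha, Subgroup.mem_centralizer_iff.2 fun b hb =>
    (Subgroup.mem_centralizer_iff.1 (F.E_le (hP.le hb)) a ha).symm⟩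
  have hXc : ∀ x ∈ X, ∀ y ∈ X, x * y * x⁻¹ * y⁻¹ ∈ F.A := fun x hx y hy =>
    F.E_comm x (hXE hx) y (hXE hy)
  have hBY : B ⊓ Y = F.A := le_antisymm
    (fun x hx => hBnd x hx.1 fun y hy => (Subgroup.mem_centralizer_iff.1 hx.2.2 y hy).symm)
    (le_inf hP.lt.le hAY)
  -- `X = B Y` by counting
  have h1 := relIndex_le_of_pairing hom (X := X) (Y := B) (X₀ := Y) (Y₀ := F.A)
    (hP.le.trans F.E_le) (hXE.trans F.E_le)
    (subgroupOf_normal_of_comm le_rfl fun a ha b hb => hXc a (hBX ha) b (hBX hb))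
    (fun x hx y hy => hXc x hx y (hBX hy))
    (fun x hx y hy _ => (Subgroup.mem_centralizer_iff.1 (F.E_le (hXE hx)) y hy).symm)
    (fun x hx hxy => ⟨hx, Subgroup.mem_centralizer_iff.2 fun y hy => (hxy y hy).symm⟩) hP.lt.le
  have hBYle : B ⊔ Y ≤ X := sup_le hBX inf_le_left
  have h2 : Y.relIndex (B ⊔ Y) = F.A.relIndex B := by
    rw [Subgroup.relIndex_sup_right, ← Subgroup.inf_relIndex_right, inf_comm, hBY]
  have h3 := Subgroup.relIndex_mul_relIndex Y (B ⊔ Y) X le_sup_right hBYle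
  have hsup : B ⊔ Y = X := by
    refine le_antisymm hBYle (Subgroup.relIndex_eq_one.1 ?_)
    have hp : 0 < F.A.relIndex B := Nat.pos_of_ne_zero Subgroup.index_ne_zero_of_finite
    have hp' : 0 < (B ⊔ Y).relIndex X := Nat.pos_of_ne_zero Subgroup.index_ne_zero_of_finite
    rw [← h3, h2] at h1
    nlinarith
  have hYnd : Nondeg F.A Y := by
    intro y hy hyY
    refine hnd y hy.1 fun x hx => ?_
    rw [← hsup] at hx
    obtain ⟨b, hb, z, hz, rfl⟩ := Subgroup.mem_sup_of_normal_right.1 hx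
    have hyb : Commute y b := (Subgroup.mem_centralizer_iff.1 hy.2 b hb).symm
    exact (hyb.mul_right (hyY z hz :)).eq
  have hYlt : Nat.card Y < Nat.card X := by
    refine lt_of_le_of_ne (Subgroup.card_le_of_le inf_le_left) fun h => ?_
    have hYX : Y = X := Subgroup.eq_of_le_of_card_ge inf_le_left h.ge
    exact hP.lt.not_ge (hBY ▸ le_inf le_rfl (hYX ▸ hBX))
  obtain ⟨t, ht, hb⟩ := ih _ hYlt Y hAY (inf_le_left.trans hXE) hYnd rfl
  have hrel : F.A.relIndex X = F.A.relIndex B * F.A.relIndex Y := by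
    rw [← Subgroup.relIndex_mul_relIndex F.A Y X hAY inf_le_left,
      show Y.relIndex X = F.A.relIndex B by rw [← h2, hsup], mul_comm]
  refine ⟨q ^ e * t, ?_, ?_⟩
  · rw [hrel, ht, hP.relIndex]
    ring
  have hcen : cen F.A B ⊓ cen F.A Y ≤ cen F.A X := by
    intro g h
    simp only [Subgroup.mem_inf, mem_cen] at h ⊢
    intro x hx
    rw [← hsup] at hx
    obtain ⟨b, hb', z, hz, rfl⟩ := Subgroup.mem_sup_of_normal_right.1 hx
    have h1 := h.1 b hb'
    have h2 := h.2 z hz
    have : g * (b * z) * g⁻¹ * (b * z)⁻¹ =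
        (g * b * g⁻¹ * b⁻¹) * (b * (g * z * g⁻¹ * z⁻¹) * b⁻¹) := by group
    rw [this]
    exact F.A.mul_mem h1 ((inferInstance : F.A.Normal).conj_mem _ h2 b)
  have hidx : (cen F.A X).index ≤ (cen F.A B).index * (cen F.A Y).index :=
    (Nat.le_of_dvd (Nat.pos_of_ne_zero Subgroup.index_ne_zero_of_finite)
      (Subgroup.index_dvd_of_le hcen)).trans Subgroup.index_inf_le
  have hP3 := piece_weight B q e hP
  have hle : F.A.relIndex X * (cen F.A X).index ≤ (F.A.relIndex B * (cen F.A B).index) *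
      (F.A.relIndex Y * (cen F.A Y).index) := by
    rw [hrel]
    calc _ ≤ F.A.relIndex B * F.A.relIndex Y * ((cen F.A B).index * (cen F.A Y).index) :=
          Nat.mul_le_mul_left _ hidx
      _ = _ := by ring
  have ht1 : 1 ≤ t := Nat.one_le_iff_ne_zero.2 fun h => Subgroup.index_ne_zero_of_finite
    (show (F.A.subgroupOf Y).index = 0 by
      show F.A.relIndex Y = 0
      rw [ht, h]; rfl)
  rcases ht1.eq_or_lt with rfl | ht2
  · rw [mul_one]
    refine hP3.mono (hle.trans ?_)
    exact (Nat.mul_le_mul_left _ (hb.1 rfl)).trans (mul_one _).le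
  exact (hP3.mul (le_trans hP.prime.two_le (Nat.le_self_pow hP.epos.ne' q)) ht2 hb).mono hle

/-- An element commuting with an irreducible group and generating a proper part is a scalar. -/
theorem exists_scalar {p : ℕ} [Fact p.Prime] {V : Type} [AddCommGroup V] [Module (ZMod p) V]
    [Finite V] (G : Subgroup (V ≃ₗ[ZMod p] V)) (hirr : Irr G)
    (hn : (finrank (ZMod p) V).Prime) (hna : ∃ a b : G, a * b ≠ b * a) (x : G)
    (hx : ∀ g, g * x = x * g) : ∃ c : ZMod p, ∀ v, (x : V ≃ₗ[ZMod p] V) v = c • v := by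
  classical
  haveI := hirr.1
  haveI : Module.Finite (ZMod p) V := Module.Finite.of_finite
  set T : Module.End (ZMod p) V := ((x : V ≃ₗ[ZMod p] V) : Module.End (ZMod p) V) with hT
  let D : Subalgebra (ZMod p) (Module.End (ZMod p) V) := Algebra.adjoin (ZMod p) {T}
  have hcT : ∀ (c : G) (d : Module.End (ZMod p) V), d ∈ D →
      ∀ v, (c : V ≃ₗ[ZMod p] V) (d v) = d ((c : V ≃ₗ[ZMod p] V) v) := by
    intro c d hd
    induction hd using Algebra.adjoin_induction with
    | mem y hy =>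
      rw [Set.mem_singleton_iff.1 hy]
      intro v
      exact LinearEquiv.congr_fun (congrArg Subtype.val (hx c)) v
    | algebraMap r => intro v; simp [Module.algebraMap_end_apply]
    | add y z _ _ hy hz => intro v; simp [hy, hz]
    | mul y z _ _ hy hz => intro v; rw [Module.End.mul_apply, Module.End.mul_apply, hy, hz]
  have hinjD : ∀ d ∈ D, ∀ v : V, v ≠ 0 → d v = 0 → d = 0 := by
    intro d hd v hv hdv
    rcases hirr.2 (LinearMap.ker d) (fun g hg w hw => by
      rw [LinearMap.mem_ker] at hw ⊢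
      rw [← hcT ⟨g, hg⟩ d hd w, hw, map_zero]) with h | h
    · exact absurd ((LinearMap.ker_eq_bot'.1 h) v hdv) hv
    · exact LinearMap.ker_eq_top.1 h
  letI : CommRing D := Algebra.adjoinCommRingOfComm (ZMod p)
    (fun a ha b hb => by rw [Set.mem_singleton_iff.1 ha, Set.mem_singleton_iff.1 hb])
  haveI : Finite (Module.End (ZMod p) V) :=
    Finite.of_injective (fun f => (f : V → V)) DFunLike.coe_injective
  haveI : Nontrivial D := ⟨⟨0, 1, fun h => by
    obtain ⟨v, hv⟩ := exists_ne (0 : V)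
    exact hv (by simpa using (LinearMap.congr_fun (congrArg Subtype.val h) v).symm)⟩⟩
  haveI : NoZeroDivisors D := ⟨fun {a b} hab => by
    by_cases hb : b = 0
    · exact Or.inr hb
    obtain ⟨v, hv⟩ : ∃ v, (b : Module.End (ZMod p) V) v ≠ 0 := by
      by_contra hall
      push Not at hall
      exact hb (Subtype.ext (LinearMap.ext hall))
    exact Or.inl (Subtype.ext
      (hinjD a a.2 _ hv (LinearMap.congr_fun (congrArg Subtype.val hab) v :)))⟩
  haveI : IsDomain D := NoZeroDivisors.to_isDomain D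
  haveI := Fintype.ofFinite D
  letI : Field D := Fintype.fieldOfDomain D
  haveI : IsScalarTower (ZMod p) D V := ⟨fun c d v => by
    show ((c • d : D) : Module.End (ZMod p) V) v = c • (d : Module.End (ZMod p) V) v
    simp⟩
  haveI : Module.Finite D V := Module.Finite.of_finite
  haveI : Module.Finite (ZMod p) D := Module.Finite.of_finite
  have hmul := finrank_mul_finrank (ZMod p) D V
  rcases hn.eq_one_or_self_of_dvd (finrank (ZMod p) D) (Dvd.intro _ hmul) with h1 | h1
  · obtain ⟨c, hc⟩ := (finrank_eq_one_iff_of_nonzero' (1 : D) one_ne_zero).1 h1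
      ⟨T, Algebra.subset_adjoin rfl⟩
    refine ⟨c, fun v => ?_⟩
    have h2 := LinearMap.congr_fun (congrArg Subtype.val hc) v
    simpa [hT] using h2.symm
  · exfalso
    rw [h1] at hmul
    have h2 : finrank D V = 1 := by
      refine mul_left_cancel₀ hn.ne_zero ?_
      rw [hmul, mul_one]
    obtain ⟨v, hv⟩ := exists_ne (0 : V)
    have hscal := (finrank_eq_one_iff_of_nonzero' v hv).1 h2
    obtain ⟨a, b, hab⟩ := hna
    refine hab (Subtype.ext (LinearEquiv.ext fun w => ?_))
    obtain ⟨c, rfl⟩ := hscal w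
    obtain ⟨y, hy⟩ := hscal ((a : V ≃ₗ[ZMod p] V) v)
    obtain ⟨z, hz⟩ := hscal ((b : V ≃ₗ[ZMod p] V) v)
    have key : ∀ (g : G) (d : D) (w : V),
        (g : V ≃ₗ[ZMod p] V) (d • w) = d • (g : V ≃ₗ[ZMod p] V) w := fun g d w => hcT g d d.2 w
    show (a : V ≃ₗ[ZMod p] V) ((b : V ≃ₗ[ZMod p] V) (c • v)) =
      (b : V ≃ₗ[ZMod p] V) ((a : V ≃ₗ[ZMod p] V) (c • v))
    simp only [key, ← hy, ← hz]
    rw [smul_comm y z]

/-- The weight from an abelian subgroup central in `C`. -/
theorem wt_of_central {G : Type} [Group G] [Finite G] (C A : Subgroup G) (hAC : A ≤ C)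
    (hcent : ∀ a ∈ A, ∀ c ∈ C, c * a = a * c) (hA : ∀ a ∈ A, ∀ b ∈ A, a * b = b * a) {c N : ℕ}
    (hc : C.index ≤ c) (hN : A.relIndex C ≤ N) : Wt G (c ^ 2 * max 1 (N / 2)) := by
  refine ⟨C, c, max 1 (N / 2), hc, fun x hx => ?_, le_rfl⟩
  by_cases hxA : x ∈ A
  · refine le_trans (le_of_eq (Subgroup.relIndex_eq_one.2 fun y hy => ?_)) (le_max_left _ _)
    exact Subgroup.mem_centralizer_singleton_iff.2 (hcent x hxA y hy)
  · refine le_trans ?_ (le_max_right _ _)
    set D := Subgroup.centralizer ({x} : Set G) ⊓ C with hD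
    have hAD : A ≤ D := fun a ha => ⟨Subgroup.mem_centralizer_singleton_iff.2
      (hcent a ha x hx).symm, hAC ha⟩
    have hxD : x ∈ D := ⟨Subgroup.mem_centralizer_singleton_iff.2 rfl, hx⟩
    have h1 := Subgroup.relIndex_mul_relIndex A D C hAD inf_le_right
    have h2 : 2 ≤ A.relIndex D := by
      have h0 : A.relIndex D ≠ 0 := Subgroup.index_ne_zero_of_finite
      have h3 : A.relIndex D ≠ 1 := fun h => hxA (Subgroup.relIndex_eq_one.1 h hxD)
      omega
    rw [← Subgroup.inf_relIndex_right, ← hD, Nat.le_div_iff_mul_le two_pos]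
    calc D.relIndex C * 2 ≤ D.relIndex C * A.relIndex D := Nat.mul_le_mul_left _ h2
      _ = A.relIndex C := by rw [mul_comm, h1]
      _ ≤ N := hN

/-- The exceptional primitive groups of degree two or three. -/
structure Small {G : Type} [Group G] (p n : ℕ) (A E : Subgroup G) : Prop where
  A_normal : A.Normal
  E_normal : E.Normal
  cases : n = 2 ∧ A.index ≤ 24 ∨ n = 3 ∧ A.index ≤ 216
  central : ∀ a ∈ A, ∀ g : G, g * a = a * g
  card_dvd : Nat.card A ∣ p - 1
  roots : ∀ a ∈ A, ∀ b ∈ A, a ^ 2 = 1 → b ^ 2 = 1 → a ≠ 1 → b ≠ 1 → a = b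
  dvd : n ∣ Nat.card A
  le : A ≤ E
  relIndex : A.relIndex E = n ^ 2
  pow_mem : ∀ x ∈ E, x ^ n ∈ A
  cen_le : ∀ g : G, (∀ x ∈ E, g * x * g⁻¹ * x⁻¹ ∈ A) → g ∈ E
  comm : ∀ x ∈ E, ∀ y ∈ E, x * y * x⁻¹ * y⁻¹ ∈ A

theorem general_arith {p s u t x : ℕ} (hp : 11 ≤ p) (hs : 1 ≤ s) (ht : 2 ≤ t) (htu : t ≤ u)
    (hx : Bd t x) (h2 : ¬ (s = 1 ∧ u = 2)) (h3 : ¬ (s = 1 ∧ u = 3 ∧ t = 3)) :
    s ^ 2 * max 1 (x / 2) ≤ 5 * p ^ (s * u - 2) := by
  have hmax : ∀ B, x ≤ 2 * B → 1 ≤ B → max 1 (x / 2) ≤ B := fun B h h1 => by omega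
  have hpow : ∀ i, 11 ^ i ≤ p ^ i := fun i => Nat.pow_le_pow_left hp i
  rcases hs.eq_or_lt with rfl | hs2
  · rw [one_pow, one_mul, one_mul]
    refine hmax _ ?_ (Nat.one_le_iff_ne_zero.2 (Nat.mul_ne_zero (by norm_num)
      (pow_ne_zero _ (by omega))))
    rw [← mul_assoc]
    refine le_trans ?_ (Nat.mul_le_mul_left _ (hpow (u - 2)))
    rcases (show t = 2 ∨ t = 3 ∨ 4 ≤ t by omega) with rfl | rfl | h4
    · refine (hx.2.1 rfl).trans (le_trans ?_ (Nat.mul_le_mul_left _
        (Nat.pow_le_pow_right (by norm_num) (show 1 ≤ u - 2 by omega))))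
      norm_num
    · refine (hx.2.2.1 rfl).trans (le_trans ?_ (Nat.mul_le_mul_left _
        (Nat.pow_le_pow_right (by norm_num) (show 2 ≤ u - 2 by omega))))
      norm_num
    · exact (hx.2.2.2 h4).trans (Nat.mul_le_mul_left _
        (Nat.pow_le_pow_right (by norm_num) (by omega)))
  obtain ⟨a, rfl⟩ : ∃ a, s = a + 2 := ⟨s - 2, by omega⟩
  have hsq : 4 * (a + 2) ^ 2 ≤ 121 ^ (a + 1) := by
    clear h2 h3 hs hs2
    induction a with
    | zero => norm_num
    | succ a ih =>
      rw [pow_succ 121]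
      have : (a + 1 + 2) ^ 2 ≤ 4 * (a + 2) ^ 2 :=
        (Nat.pow_le_pow_left (show a + 1 + 2 ≤ 2 * (a + 2) by omega) 2).trans_eq (by ring)
      omega
  have hexp : (t - 2) + 2 * (a + 1) ≤ (a + 2) * u - 2 := by
    have : (a + 2) * u = a * u + 2 * u := by ring
    have h4 : a * 2 ≤ a * u := Nat.mul_le_mul_left a (by omega)
    omega
  have hB : 1 ≤ 20 * 11 ^ (t - 2) :=
    Nat.one_le_iff_ne_zero.2 (Nat.mul_ne_zero (by norm_num) (pow_ne_zero _ (by norm_num)))
  calc (a + 2) ^ 2 * max 1 (x / 2) ≤ (a + 2) ^ 2 * (20 * 11 ^ (t - 2)) := by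
        refine Nat.mul_le_mul_left _ (hmax _ ?_ hB)
        rw [← mul_assoc]
        exact hx.le_forty ht
    _ = 5 * (4 * (a + 2) ^ 2 * 11 ^ (t - 2)) := by ring
    _ ≤ 5 * (121 ^ (a + 1) * 11 ^ (t - 2)) :=
        Nat.mul_le_mul_left _ (Nat.mul_le_mul_right _ hsq)
    _ = 5 * 11 ^ ((t - 2) + 2 * (a + 1)) := by
        rw [show (121 : ℕ) = 11 ^ 2 by norm_num, ← pow_mul, ← pow_add, add_comm]
    _ ≤ 5 * p ^ ((a + 2) * u - 2) := Nat.mul_le_mul_left _
        ((Nat.pow_le_pow_right (by norm_num) hexp).trans (hpow _))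

/-- The primitive groups. -/
theorem prim_weight {p : ℕ} [Fact p.Prime] (hp : 11 ≤ p) {V : Type} [AddCommGroup V]
    [Module (ZMod p) V] [Finite V] (G : Subgroup (V ≃ₗ[ZMod p] V)) (hsol : Group.IsSolvable G)
    (hirr : Irr G) (hprim : Prim G) (hn : 2 ≤ finrank (ZMod p) V) :
    (∃ W, W ≤ 5 * p ^ (finrank (ZMod p) V - 2) ∧ Wt G W) ∨
      ∃ A E : Subgroup G, Small p (finrank (ZMod p) V) A E := by
  classical
  haveI := finite_GL (L := ZMod p) (V := V)
  haveI := hirr.1
  haveI := hsol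
  obtain ⟨F⟩ := exists_frame (G := G) hsol
  haveI := F.A_normal
  haveI := F.E_normal
  obtain ⟨s, u, hs, hu, hdim, hidx, -, -, hhom, hsq⟩ :=
    exists_field G hirr hprim F.A F.A_normal F.A_comm
  obtain ⟨t, ht, hX⟩ := layer_weight hhom F.E F.A_le le_rfl F.E_nondeg
  have htu : t ≤ u := by
    refine (Nat.pow_le_pow_iff_left two_ne_zero).1 ?_
    rw [← ht]
    exact hsq F.E F.A_le F.E_le (fun x hx y hy => F.E_comm y hy x hx) F.E_nondeg
  set C := Subgroup.centralizer (F.A : Set G) with hC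
  have hAC : F.A ≤ C := fun a ha => Subgroup.mem_centralizer_iff.2 fun b hb => F.A_comm b hb a ha
  have hcent : ∀ a ∈ F.A, ∀ c ∈ C, c * a = a * c := fun a ha c hc =>
    (Subgroup.mem_centralizer_iff.1 hc a ha).symm
  have hEC : F.E.relIndex C ≤ (cen F.A F.E).index := by
    rw [← congrArg (fun S => Subgroup.relIndex S C) (inf_cen_eq (F := F) hhom), hC,
      Subgroup.inf_relIndex_left, ← Subgroup.relIndex_top_right (cen F.A F.E)]
    exact Subgroup.relIndex_le_of_le_right le_top Subgroup.index_ne_zero_of_finite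
  have hN : F.A.relIndex C ≤ F.A.relIndex F.E * (cen F.A F.E).index := by
    rw [← Subgroup.relIndex_mul_relIndex F.A F.E C F.A_le F.E_le]
    exact Nat.mul_le_mul_left _ hEC
  have ht1 : 1 ≤ t := Nat.one_le_iff_ne_zero.2 fun h => Subgroup.index_ne_zero_of_finite
    (show (F.A.subgroupOf F.E).index = 0 by
      show F.A.relIndex F.E = 0
      rw [ht, h]; rfl)
  have hw := wt_of_central C F.A hAC hcent F.A_comm hidx hN
  rcases ht1.eq_or_lt with h1 | ht2
  · left
    refine ⟨_, ?_, hw⟩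
    have hle := hX.1 h1.symm
    rw [max_eq_left (by omega), mul_one, hdim]
    rcases Nat.eq_or_lt_of_le hs with hs1 | hs2
    · rw [← hs1, show Nat.succ 0 = 1 from rfl, one_pow]
      exact le_trans (by norm_num) (Nat.mul_le_mul_left 5 (Nat.one_le_pow (1 * u - 2) p (by omega)))
    refine le_trans ?_ (Nat.mul_le_mul_left 5 (Nat.pow_le_pow_left hp _))
    refine le_trans ?_ (Nat.mul_le_mul_left 5 (Nat.pow_le_pow_right (by norm_num)
      (show s - 2 ≤ s * u - 2 by have := Nat.le_mul_of_pos_right s hu; omega)))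
    obtain ⟨a, rfl⟩ : ∃ a, s = a + 2 := ⟨s - 2, by omega⟩
    rw [Nat.add_sub_cancel]
    clear hdim hidx hw hs hs2
    induction a with
    | zero => norm_num
    | succ a ih =>
      rw [pow_succ 11]
      have : (a + 1 + 2) ^ 2 ≤ 4 * (a + 2) ^ 2 :=
        (Nat.pow_le_pow_left (show a + 1 + 2 ≤ 2 * (a + 2) by omega) 2).trans_eq (by ring)
      omega
  by_cases hspec : s = 1 ∧ (u = 2 ∨ u = 3 ∧ t = 3)
  swap
  · left
    refine ⟨_, ?_, hw⟩
    rw [hdim]
    exact general_arith hp hs ht2 htu hX (fun h => hspec ⟨h.1, Or.inl h.2⟩)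
      (fun h => hspec ⟨h.1, Or.inr h.2⟩)
  right
  obtain ⟨rfl, hu23⟩ := hspec
  rw [one_mul] at hdim
  obtain rfl : t = u := by omega
  have hn23 : t = 2 ∨ t = 3 := by omega
  have hnp : (finrank (ZMod p) V).Prime := by
    rw [hdim]; rcases hn23 with rfl | rfl <;> norm_num
  have hCtop : C = ⊤ := by
    rw [← Subgroup.index_eq_one]
    have := Subgroup.index_ne_zero_of_finite (H := C)
    omega
  have hcentral : ∀ a ∈ F.A, ∀ g : G, g * a = a * g := fun a ha g =>
    hcent a ha g (hCtop ▸ Subgroup.mem_top g)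
  have hEA : F.A < F.E := lt_of_le_of_ne F.A_le fun h => by
    have h2 := ht
    rw [← h, Subgroup.relIndex_self] at h2
    nlinarith
  obtain ⟨B, q, e, hBn, -, hBE, hP⟩ := exists_piece hhom hEA le_rfl
  haveI := hBn
  have hqe : q ^ e ≤ t := by
    refine (Nat.pow_le_pow_iff_left two_ne_zero).1 ?_
    rw [← ht, ← pow_mul, mul_comm e 2, ← hP.relIndex]
    exact Subgroup.relIndex_le_of_le_right hBE Subgroup.index_ne_zero_of_finite
  have he1 : e = 1 := by
    by_contra h
    have h4 : 4 ≤ q ^ e := by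
      calc 4 = 2 ^ 2 := by norm_num
        _ ≤ 2 ^ e := Nat.pow_le_pow_right (by norm_num) (by have := hP.epos; omega)
        _ ≤ q ^ e := Nat.pow_le_pow_left hP.prime.two_le e
    omega
  subst he1
  rw [pow_one] at hqe
  have hqt : q = t := by
    refine (Nat.prime_dvd_prime_iff_eq hP.prime (hdim ▸ hnp)).1 ?_
    refine hP.prime.dvd_of_dvd_pow (n := 2) ?_
    have h := Subgroup.relIndex_mul_relIndex F.A B F.E hP.lt.le hBE
    rw [ht, hP.relIndex] at h
    exact Dvd.dvd.trans (dvd_pow_self q (by norm_num)) (Dvd.intro _ h)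
  subst hqt
  have hBeq : B = F.E := by
    refine Subgroup.eq_of_le_of_card_ge hBE ?_
    have h := Subgroup.relIndex_mul_relIndex F.A B F.E hP.lt.le hBE
    rw [ht, hP.relIndex, mul_one] at h
    have h1 : B.relIndex F.E = 1 :=
      Nat.eq_of_mul_eq_mul_left (pow_pos hP.prime.pos 2) (h.trans (mul_one _).symm)
    exact Subgroup.card_le_of_le (Subgroup.relIndex_eq_one.1 h1)
  subst hBeq
  have hEcen : cen F.A F.E = F.E := by
    refine Eq.trans ?_ (inf_cen_eq (F := F) hhom)
    rw [← hC, hCtop, top_inf_eq]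
  have hna : ∃ a b : G, a * b ≠ b * a := by
    obtain ⟨x, hxE, hxA⟩ := SetLike.exists_of_lt hEA
    by_contra hall
    push Not at hall
    exact hxA (F.E_nondeg x hxE fun y _ => hall x y)
  have hscal : ∀ a : F.A, ∃ c : ZMod p, ∀ v, ((a : G) : V ≃ₗ[ZMod p] V) v = c • v := fun a =>
    exists_scalar G hirr hnp hna a (hcentral a a.2)
  choose χ hχ using hscal
  have hχmul : ∀ a b, χ (a * b) = χ a * χ b := by
    intro a b
    obtain ⟨v, hv⟩ := exists_ne (0 : V)
    refine smul_left_injective (ZMod p) hv ?_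
    show χ (a * b) • v = (χ a * χ b) • v
    rw [← hχ, mul_smul, ← hχ b, ← hχ a]
    rfl
  have hχ1 : χ 1 = 1 := by
    obtain ⟨v, hv⟩ := exists_ne (0 : V)
    refine smul_left_injective (ZMod p) hv ?_
    show χ 1 • v = (1 : ZMod p) • v
    rw [← hχ, one_smul]
    rfl
  let χh : F.A →* ZMod p := { toFun := χ, map_one' := hχ1, map_mul' := hχmul }
  have hχinj : Function.Injective χh.toHomUnits := fun a b h => by
    refine Subtype.ext (Subtype.ext (LinearEquiv.ext fun v => ?_))
    rw [hχ, hχ, show χ a = χ b from congrArg Units.val h]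
  refine ⟨F.A, F.E, F.A_normal, F.E_normal, ?_, hcentral, ?_, ?_, hdim ▸ hP.dvd, F.A_le,
    hdim ▸ ht, hdim ▸ hP.pow_mem, fun g hg => hEcen.le (mem_cen.2 hg), F.E_comm⟩
  · have hidxA : F.A.index = q ^ 2 * (cen F.A F.E).index := by
      rw [← Subgroup.relIndex_mul_index F.A_le, ht, hEcen]
    rcases hn23 with rfl | rfl
    · refine Or.inl ⟨hdim, ?_⟩
      have := hX.2.1 rfl
      rw [ht] at this
      omega
    · refine Or.inr ⟨hdim, ?_⟩
      -- the image of `G` on `E / A` is not all of `GL(2, 3)`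
      haveI : Fact (Nat.Prime 3) := ⟨Nat.prime_three⟩
      obtain ⟨W, _, _, _, ρ, φ, hWcard, hker, -, hφs, hφadd, hφ0, hρφ⟩ :=
        exists_piece_rep F.E 3 1 hP
      haveI := finite_GL (L := ZMod 3) (V := W)
      have hne : ρ.range ≠ ⊤ := by
        intro htop
        obtain ⟨a, haE, haA⟩ := SetLike.exists_of_lt hEA
        obtain ⟨b, hbE, hab⟩ : ∃ b ∈ F.E, a * b ≠ b * a := by
          by_contra hall
          push Not at hall
          exact haA (F.E_nondeg a haE hall)
        haveI : Module.Finite (ZMod 3) W := Module.Finite.of_finite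
        have hφ0' : φ ⟨a, haE⟩ ≠ 0 := fun h => haA ((hφ0 _).1 h)
        have hind : LinearIndependent (ZMod 3) ![φ ⟨a, haE⟩, φ ⟨b, hbE⟩] := by
          rw [LinearIndependent.pair_iff' hφ0']
          intro c hc
          have hpow : ∀ i : ℕ, φ (⟨a, haE⟩ ^ i) = i • φ ⟨a, haE⟩ := by
            intro i
            induction i with
            | zero =>
              rw [pow_zero, zero_smul]
              exact (hφ0 _).2 F.A.one_mem
            | succ i ih => rw [pow_succ, hφadd, ih, succ_nsmul]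
          have hz : φ (⟨a, haE⟩ ^ c.val) = φ ⟨b, hbE⟩ := by
            rw [hpow, ← Nat.cast_smul_eq_nsmul (ZMod 3), ZMod.natCast_zmod_val, hc]
          have hAmem : (((⟨a, haE⟩ : F.E) ^ c.val)⁻¹ * ⟨b, hbE⟩ : F.E).1 ∈ F.A := by
            refine (hφ0 _).1 ?_
            have h2 := hφadd ((⟨a, haE⟩ : F.E) ^ c.val)
              ((((⟨a, haE⟩ : F.E) ^ c.val))⁻¹ * ⟨b, hbE⟩)
            rw [mul_inv_cancel_left, hz] at h2
            exact add_left_cancel (h2.symm.trans (add_zero _).symm)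
          have h3 : Commute a (((⟨a, haE⟩ : F.E) ^ c.val)⁻¹ * ⟨b, hbE⟩ : F.E).1 :=
            (Subgroup.mem_centralizer_iff.1 (F.E_le haE) _ hAmem).symm
          have h4 : Commute a (a ^ c.val * (((⟨a, haE⟩ : F.E) ^ c.val)⁻¹ * ⟨b, hbE⟩ : F.E).1) :=
            (Commute.self_pow a c.val).mul_right h3
          apply hab
          have h5 : a ^ c.val * (((⟨a, haE⟩ : F.E) ^ c.val)⁻¹ * ⟨b, hbE⟩ : F.E).1 = b := by
            push_cast
            group
          rw [h5] at h4
          exact h4.eq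
        have hdimW : finrank (ZMod 3) W = 2 := by
          have := Module.natCard_eq_pow_finrank (K := ZMod 3) (V := W)
          rw [hWcard, Nat.card_zmod] at this
          exact (Nat.pow_right_injective (le_refl 2 |>.trans (by norm_num)) this).symm
        let bs : Basis (Fin 2) (ZMod 3) W :=
          basisOfLinearIndependentOfCardEqFinrank hind (by rw [Fintype.card_fin, hdimW])
        have hbs : ⇑bs = ![φ ⟨a, haE⟩, φ ⟨b, hbE⟩] :=
          coe_basisOfLinearIndependentOfCardEqFinrank _ _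
        obtain ⟨g, hg⟩ := MonoidHom.range_eq_top.1 htop (bs.equiv bs (Equiv.swap 0 1))
        have hconj : ∀ x : F.E, g * (x : G) * g⁻¹ ∈ F.E := fun x =>
          (inferInstance : F.E.Normal).conj_mem _ x.2 g
        have e0 : ρ g (φ ⟨a, haE⟩) = φ ⟨b, hbE⟩ := by
          rw [hg]
          have := bs.equiv_apply 0 bs (Equiv.swap (0 : Fin 2) 1)
          simpa [hbs] using this
        have e1 : ρ g (φ ⟨b, hbE⟩) = φ ⟨a, haE⟩ := by
          rw [hg]
          have := bs.equiv_apply 1 bs (Equiv.swap (0 : Fin 2) 1)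
          simpa [hbs] using this
        rw [hρφ g ⟨a, haE⟩ ⟨_, hconj ⟨a, haE⟩⟩ rfl] at e0
        rw [hρφ g ⟨b, hbE⟩ ⟨_, hconj ⟨b, hbE⟩⟩ rfl] at e1
        have hshift : ∀ x y : F.E, φ x = φ y → ∃ z ∈ F.A, (x : G) = (y : G) * z := by
          intro x y h
          refine ⟨(y : G)⁻¹ * x, ?_, by group⟩
          have h2 := hφadd y (y⁻¹ * x)
          rw [mul_inv_cancel_left, h] at h2
          simpa using (hφ0 _).1 (add_left_cancel (h2.symm.trans (add_zero _).symm))
        obtain ⟨z, hz, hza⟩ := hshift _ _ e0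
        obtain ⟨z', hz', hzb⟩ := hshift _ _ e1
        simp only at hza hzb
        have hcmA : a * b * a⁻¹ * b⁻¹ ∈ F.A := F.E_comm a haE b hbE
        have hinv : a * b * a⁻¹ * b⁻¹ = (a * b * a⁻¹ * b⁻¹)⁻¹ := by
          have h2 : g * (a * b * a⁻¹ * b⁻¹) * g⁻¹ =
              (g * a * g⁻¹) * (g * b * g⁻¹) * (g * a * g⁻¹)⁻¹ * (g * b * g⁻¹)⁻¹ := by group
          rw [hcentral _ hcmA g, mul_inv_cancel_right, hza, hzb] at h2
          have h4 : (b * z) * (a * z') = (b * a) * (z * z') := by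
            rw [mul_assoc b z, ← mul_assoc z a, ← hcentral z hz a]; group
          have h5 : (a * z') * (b * z) = (a * b) * (z * z') := by
            rw [mul_assoc a z', ← mul_assoc z' b, ← hcentral z' hz' b,
              F.A_comm z hz z' hz']
            group
          calc a * b * a⁻¹ * b⁻¹
              = (b * z) * (a * z') * (b * z)⁻¹ * (a * z')⁻¹ := h2
            _ = ((b * z) * (a * z')) * ((a * z') * (b * z))⁻¹ := by group
            _ = (a * b * a⁻¹ * b⁻¹)⁻¹ := by rw [h4, h5]; group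
        set cc := a * b * a⁻¹ * b⁻¹ with hcc
        have hA3 : a ^ 3 ∈ F.A := hP.pow_mem a haE
        have hac : Commute cc a := (hcentral _ hcmA a).symm
        have h3 : cc ^ 3 = 1 := by
          have h1 : ∀ i : ℕ, a ^ i * b * (a ^ i)⁻¹ = cc ^ i * b := by
            intro i
            induction i with
            | zero => simp
            | succ i ih =>
              calc a ^ (i + 1) * b * (a ^ (i + 1))⁻¹ = a * (a ^ i * b * (a ^ i)⁻¹) * a⁻¹ := by
                    rw [pow_succ' a]; group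
                _ = (a * cc ^ i) * b * a⁻¹ := by rw [ih]; group
                _ = (cc ^ i * a) * b * a⁻¹ := by rw [(hac.pow_left i).eq]
                _ = cc ^ i * (cc * b) := by rw [hcc]; group
                _ = cc ^ (i + 1) * b := by rw [pow_succ]; group
          have h2 := h1 3
          rw [← hcentral _ hA3 b, mul_inv_cancel_right] at h2
          exact mul_eq_right.1 h2.symm
        refine hab ?_
        have h2 : cc ^ 2 = 1 := by rw [sq]; nth_rewrite 1 [hinv]; exact inv_mul_cancel _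
        have hcc1 : cc = 1 := by rw [pow_succ, h2, one_mul] at h3; exact h3
        exact mul_inv_eq_iff_eq_mul.1 (mul_inv_eq_one.1 (hcc ▸ hcc1))
      have hGL : Nat.card (W ≃ₗ[ZMod 3] W) ≤ 48 := by
        haveI : Module.Finite (ZMod 3) W := Module.Finite.of_finite
        have hdimW : finrank (ZMod 3) W = 2 := by
          have := Module.natCard_eq_pow_finrank (K := ZMod 3) (V := W)
          rw [hWcard, Nat.card_zmod] at this
          exact (Nat.pow_right_injective (le_refl 2 |>.trans (by norm_num)) this).symm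
        exact (card_GL_two hdimW).trans (by rw [Nat.card_zmod]; norm_num)
      have hhalf : Nat.card ρ.range * 2 ≤ 48 := by
        refine le_trans ?_ hGL
        rw [← ρ.range.card_mul_index]
        refine Nat.mul_le_mul_left _ ?_
        have h0 := Subgroup.index_ne_zero_of_finite (H := ρ.range)
        have h1 : ρ.range.index ≠ 1 := fun h => hne (Subgroup.index_eq_one.1 h)
        omega
      rw [← hker, Subgroup.index_ker] at hidxA
      omega
  · have h := Subgroup.card_range_dvd χh.toHomUnits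
    have h2 := Subgroup.card_subgroup_dvd_card χh.toHomUnits.range
    rw [← Nat.card_congr (MonoidHom.ofInjective hχinj).toEquiv, Nat.card_units, Nat.card_zmod] at h2
    exact h2
  · intro a ha b hb ha2 hb2 ha1 hb1
    have key : ∀ c : F.A, c ^ 2 = 1 → c ≠ 1 → χ c = -1 := by
      intro c hc hc1
      have h : χ c * χ c = 1 := by rw [← hχmul, ← sq, hc, hχ1]
      rcases mul_self_eq_one_iff.1 h with h' | h'
      · exact absurd (hχinj (Units.ext (h'.trans hχ1.symm))) hc1
      · exact h'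
    have h1 := key ⟨a, ha⟩ (Subtype.ext ha2) (fun h => ha1 (congrArg Subtype.val h))
    have h2 := key ⟨b, hb⟩ (Subtype.ext hb2) (fun h => hb1 (congrArg Subtype.val h))
    exact congrArg Subtype.val (hχinj (Units.ext (h1.trans h2.symm)))

/-- The square of the order of a transitive soluble group on `t` blocks. -/
def P : ℕ → ℕ
  | 0 => 1
  | 1 => 1
  | 2 => 4
  | 3 => 36
  | 4 => 576
  | 5 => 3600
  | t + 6 => 9 ^ (t + 5)

theorem P_le (t : ℕ) (ht : 1 ≤ t) : P t ≤ 9 ^ (t - 1) := by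
  match t, ht with
  | 1, _ => norm_num [P]
  | 2, _ => norm_num [P]
  | 3, _ => norm_num [P]
  | 4, _ => norm_num [P]
  | 5, _ => norm_num [P]
  | t + 6, _ => simp [P]

theorem P_mul {a b : ℕ} (ha : 2 ≤ a) (hb : 1 ≤ b) : P a * P b ^ a ≤ P (a * b) := by
  rcases hb.eq_or_lt with rfl | hb2
  · simp [P]
  by_cases h22 : a = 2 ∧ b = 2
  · obtain ⟨rfl, rfl⟩ := h22; norm_num [P]
  have h6 : 6 ≤ a * b := by
    rcases (show 3 ≤ a ∨ 3 ≤ b by omega) with h | h
    · exact le_trans (by norm_num) (Nat.mul_le_mul h hb2)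
    · exact le_trans (by norm_num) (Nat.mul_le_mul ha h)
  obtain ⟨i, hi⟩ : ∃ i, a * b = i + 6 := ⟨a * b - 6, by omega⟩
  rw [hi, P]
  calc P a * P b ^ a ≤ 9 ^ (a - 1) * (9 ^ (b - 1)) ^ a :=
        Nat.mul_le_mul (P_le a (by omega)) (Nat.pow_le_pow_left (P_le b hb) a)
    _ = 9 ^ ((a - 1) + (b - 1) * a) := by rw [pow_add, pow_mul]
    _ ≤ 9 ^ (i + 5) := by
        refine Nat.pow_le_pow_right (by norm_num) ?_
        obtain ⟨b, rfl⟩ : ∃ j, b = j + 1 := ⟨b - 1, by omega⟩
        rw [Nat.add_sub_cancel, mul_comm b a]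
        rw [mul_add, mul_one] at hi
        omega

/-- Weights for the primitive blocks. -/
def BlockW (p m W : ℕ) : Prop :=
  m = 1 ∧ W = 1 ∨ m = 2 ∧ W = 12 ∨ m = 3 ∧ W = 108 ∧ 13 ≤ p ∨ 2 ≤ m ∧ W ≤ 5 * p ^ (m - 2)

/-- The composite weight. -/
def Fam (p n w : ℕ) : Prop :=
  ∃ t m W, 1 ≤ t ∧ t * m = n ∧ BlockW p m W ∧ w ≤ P t * W ^ t

theorem exists_block_weight {p : ℕ} [Fact p.Prime] (hp : 11 ≤ p) {V : Type} [AddCommGroup V]
    [Module (ZMod p) V] [Finite V] (G : Subgroup (V ≃ₗ[ZMod p] V)) (hsol : Group.IsSolvable G)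
    (hirr : Irr G) (hprim : Prim G) :
    ∃ W, BlockW p (finrank (ZMod p) V) W ∧ Wt G W := by
  haveI := hirr.1
  haveI := finite_GL (L := ZMod p) (V := V)
  haveI : Module.Finite (ZMod p) V := Module.Finite.of_finite
  rcases (show finrank (ZMod p) V = 1 ∨ 2 ≤ finrank (ZMod p) V by
    have := Module.finrank_pos (R := ZMod p) (M := V); omega) with h1 | h2
  · refine ⟨1, Or.inl ⟨h1, rfl⟩, ⊤, 1, 1, by simp, fun x _ => ?_, le_rfl⟩
    refine le_of_eq (Subgroup.relIndex_eq_one.2 fun y _ => ?_)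
    rw [Subgroup.mem_centralizer_singleton_iff]
    obtain ⟨v, hv⟩ := exists_ne (0 : V)
    have hscal := (finrank_eq_one_iff_of_nonzero' v hv).1 h1
    refine Subtype.ext (LinearEquiv.ext fun w => ?_)
    obtain ⟨c, rfl⟩ := hscal w
    obtain ⟨i, hi⟩ := hscal ((y : V ≃ₗ[ZMod p] V) v)
    obtain ⟨j, hj⟩ := hscal ((x : V ≃ₗ[ZMod p] V) v)
    show (y : V ≃ₗ[ZMod p] V) ((x : V ≃ₗ[ZMod p] V) (c • v)) =
      (x : V ≃ₗ[ZMod p] V) ((y : V ≃ₗ[ZMod p] V) (c • v))
    simp only [map_smul, ← hi, ← hj]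
    rw [smul_comm i j]
  rcases prim_weight hp G hsol hirr hprim h2 with ⟨W, hW, hw⟩ | ⟨A, E, hS⟩
  · exact ⟨W, Or.inr (Or.inr (Or.inr ⟨h2, hW⟩)), hw⟩
  have hA : ∀ a ∈ A, ∀ b ∈ A, a * b = b * a := fun a ha b _ => (hS.central a ha b).symm
  have hw : ∀ N, A.index ≤ N → Wt G (1 ^ 2 * max 1 (N / 2)) := fun N hN =>
    wt_of_central ⊤ A le_top (fun a ha c _ => hS.central a ha c) hA (by simp)
      (by rwa [Subgroup.relIndex_top_right])
  rcases hS.cases with ⟨hn, hidx⟩ | ⟨hn, hidx⟩
  · exact ⟨12, Or.inr (Or.inl ⟨hn, rfl⟩), by simpa using hw 24 hidx⟩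
  · refine ⟨108, Or.inr (Or.inr (Or.inl ⟨hn, rfl, ?_⟩)), by simpa using hw 216 hidx⟩
    have h3 : 3 ∣ p - 1 := (hn ▸ hS.dvd).trans hS.card_dvd
    by_contra hlt
    have hp12 : p ≠ 12 := fun h => by
      have := (Fact.out : p.Prime)
      rw [h] at this
      norm_num at this
    obtain rfl : p = 11 := by omega
    norm_num at h3

theorem exists_weight {p : ℕ} [Fact p.Prime] (hp : 11 ≤ p) : ∀ (n : ℕ) {V : Type}
    [AddCommGroup V] [Module (ZMod p) V] [Finite V] (G : Subgroup (V ≃ₗ[ZMod p] V)),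
    Group.IsSolvable G → Irr G → finrank (ZMod p) V = n → ∃ w t m W, 1 ≤ t ∧ t * m = n ∧
      BlockW p m W ∧ w ≤ P t * W ^ t ∧ Wt G w ∧ (¬ Prim G → 2 ≤ t) := by
  classical
  intro n
  induction n using Nat.strong_induction_on with
  | _ n ih =>
  intro V _ _ _ G hsol hirr hr
  subst hr
  haveI := finite_GL (L := ZMod p) (V := V)
  haveI := hirr.1
  haveI := hsol
  by_cases hprim : Prim G
  · obtain ⟨W, hW, hw⟩ := exists_block_weight hp G hsol hirr hprim
    exact ⟨W, 1, _, W, le_rfl, one_mul _, hW, by simp [P], hw, fun h => absurd hprim h⟩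
  obtain ⟨t, m, D, π, φ, ht, hm, hdim, hrk, hmem, -, hφ, hmin⟩ := exists_blocks hirr hprim
  haveI : Nonempty (Fin t) := ⟨⟨0, by omega⟩⟩
  let T : Fin t → Subgroup G := fun i =>
    (MulAction.stabilizer (Equiv.Perm (Fin t)) i).comap π
  have hinv : ∀ (i : Fin t) (g : T i), ∀ w ∈ D i, ((g : G) : V ≃ₗ[ZMod p] V) w ∈ D i :=
    fun i g w hw => by
      have h1 : π g i = i := g.2
      simpa [h1] using hmem (g : G) i w hw
  let σ := fun i : Fin t => subRep (G.subtype.comp (T i).subtype) (D i) (hinv i)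
  have hH : ∀ i, ∃ w, Fam p m w ∧ Wt (σ i).range w := by
    intro i
    suffices ∃ w t m' W, 1 ≤ t ∧ t * m' = m ∧ BlockW p m' W ∧ w ≤ P t * W ^ t ∧
        Wt (σ i).range w ∧ (¬ Prim (σ i).range → 2 ≤ t) by
      obtain ⟨w, t, m', W, h1, h2, h3, h4, h5, -⟩ := this
      exact ⟨w, ⟨t, m', W, h1, h2, h3, h4⟩, h5⟩
    haveI : Nontrivial (D i) := by
      rw [← Module.finrank_pos_iff (R := ZMod p), hrk]; omega
    refine ih m (by nlinarith) (σ i).range
      (Group.isSolvable_of_surjective (σ i).rangeRestrict_surjective) (irr_range (σ i) ?_) (hrk i)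
    intro W hW
    rcases hmin i (W.map (D i).subtype) (Submodule.map_subtype_le _ _) (fun g hg w hw => by
        obtain ⟨x, hx, rfl⟩ := hw
        exact ⟨_, hW ⟨g, hg⟩ x hx, rfl⟩) with h | h
    · exact Or.inl (Submodule.map_injective_of_injective (D i).injective_subtype
        (h.trans (Submodule.map_bot _).symm))
    · exact Or.inr (Submodule.map_injective_of_injective (D i).injective_subtype
        (h.trans (Submodule.map_subtype_top _).symm))
  choose w hfam hwt using hH
  obtain ⟨i₀, -, hmax⟩ := Finset.exists_max_image (Finset.univ : Finset (Fin t)) w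
    Finset.univ_nonempty
  obtain ⟨t', m', W, ht', htm', hW, hwle⟩ := hfam i₀
  choose C c g hc hg hcg using hwt
  have hKT : ∀ i, π.ker ≤ T i := fun i x hx => by
    show π x i = i
    rw [MonoidHom.mem_ker.1 hx]; rfl
  let ψ : ∀ i, π.ker →* (σ i).range := fun i =>
    (σ i).rangeRestrict.comp (Subgroup.inclusion (hKT i))
  haveI : ∀ i, Finite (σ i).range := fun i => by
    haveI := finite_GL (L := ZMod p) (V := D i)
    infer_instance
  set C₁ := ⨅ i, (C i).comap (ψ i) with hC₁
  have hπ : Nat.card π.range ^ 2 ≤ P t := by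
    have h3 := Perm.card_mul_three_le π.range
      (Group.isSolvable_of_surjective π.rangeRestrict_surjective)
    rw [Nat.card_eq_fintype_card (α := Fin t), Fintype.card_fin] at h3
    have hd : Nat.card π.range ∣ t.factorial := by
      refine (Subgroup.card_subgroup_dvd_card π.range).trans (dvd_of_eq ?_)
      rw [Nat.card_eq_fintype_card, Fintype.card_perm, Fintype.card_fin]
    have hle := Nat.le_of_dvd (Nat.factorial_pos t) hd
    rcases (show t = 2 ∨ t = 3 ∨ t = 4 ∨ t = 5 ∨ 6 ≤ t by omega) with h | h | h | h | h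
    · subst h; exact (Nat.pow_le_pow_left hle 2).trans (by norm_num [P, Nat.factorial])
    · subst h; exact (Nat.pow_le_pow_left hle 2).trans (by norm_num [P, Nat.factorial])
    · subst h; exact (Nat.pow_le_pow_left hle 2).trans (by norm_num [P, Nat.factorial])
    · subst h
      have h81 : Nat.card π.range ≤ 81 := by rw [show (3 : ℕ) ^ 5 = 243 by norm_num] at h3; omega
      obtain ⟨j, hj⟩ := hd
      rw [show Nat.factorial 5 = 120 from rfl] at hj
      have h60 : Nat.card π.range ≤ 60 := by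
        by_contra hlt
        have : j ≤ 1 := by
          by_contra hj2
          have := Nat.mul_le_mul (show 61 ≤ Nat.card π.range by omega) (show 2 ≤ j by omega)
          omega
        interval_cases j <;> omega
      exact (Nat.pow_le_pow_left h60 2).trans (by norm_num [P])
    · obtain ⟨i, rfl⟩ : ∃ i, t = i + 6 := ⟨t - 6, by omega⟩
      have h1 : Nat.card π.range ≤ 3 ^ (i + 5) := by
        have e : (3 : ℕ) ^ (i + 6) = 3 ^ (i + 5) * 3 := pow_succ _ _
        exact Nat.le_of_mul_le_mul_right (h3.trans e.le) (by norm_num)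
      refine (Nat.pow_le_pow_left h1 2).trans_eq ?_
      rw [← pow_mul, mul_comm, pow_mul, show (3 : ℕ) ^ 2 = 9 by norm_num]
      rfl
  refine ⟨P t * w i₀ ^ t, t * t', m', W, Nat.one_le_iff_ne_zero.2 (Nat.mul_ne_zero
    (by omega) (by omega)), by rw [mul_assoc, htm', hdim], hW, ?_, ⟨C₁.map π.ker.subtype,
    Nat.card π.range * ∏ i, c i, ∏ i, g i, ?_, ?_, ?_⟩, fun _ =>
      le_trans (by omega) (Nat.mul_le_mul ht ht')⟩
  · calc P t * w i₀ ^ t ≤ P t * (P t' * W ^ t') ^ t :=
          Nat.mul_le_mul_left _ (Nat.pow_le_pow_left hwle t)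
      _ = P t * P t' ^ t * W ^ (t * t') := by rw [mul_pow, ← pow_mul, mul_comm t' t]; ring
      _ ≤ P (t * t') * W ^ (t * t') := Nat.mul_le_mul_right _ (P_mul ht ht')
  · rw [Subgroup.index_map_subtype, Subgroup.index_ker, mul_comm]
    refine Nat.mul_le_mul_left _ ((Subgroup.index_iInf_le _).trans
      (Finset.prod_le_prod' fun i _ => ?_))
    rw [Subgroup.index_comap]
    refine le_trans ?_ (hc i)
    rw [← Subgroup.relIndex_top_right]
    exact Subgroup.relIndex_le_of_le_right le_top Subgroup.index_ne_zero_of_finite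
  · rintro _ ⟨x, hx, rfl⟩
    set I := ⨅ i, (Subgroup.centralizer ({ψ i x} : Set (σ i).range)).comap (ψ i)
    have hle : (I ⊓ C₁).map π.ker.subtype ≤
        Subgroup.centralizer ({π.ker.subtype x} : Set G) := by
      rintro _ ⟨y, hy, rfl⟩
      rw [Subgroup.mem_centralizer_singleton_iff]
      refine Subtype.ext (LinearEquiv.ext fun v => φ.injective (funext fun i => Subtype.ext ?_))
      have h := Subgroup.mem_centralizer_singleton_iff.1 (Subgroup.mem_iInf.1 hy.1 i)
      rw [← map_mul, ← map_mul] at h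
      refine ((hφ ((y * x : π.ker) : G) (y * x).2 v i).trans ?_).trans
        (hφ ((x * y : π.ker) : G) (x * y).2 v i).symm
      exact congrArg Subtype.val (LinearEquiv.congr_fun (congrArg Subtype.val h) (φ v i))
    refine (Subgroup.relIndex_le_of_le_left hle Subgroup.index_ne_zero_of_finite).trans ?_
    rw [Subgroup.relIndex_map_map_of_injective _ _ π.ker.subtype_injective,
      Subgroup.inf_relIndex_right]
    refine (Subgroup.relIndex_iInf_le _).trans (Finset.prod_le_prod' fun i _ => ?_)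
    rw [Subgroup.relIndex_comap]
    refine le_trans ?_ (hg i _ (Subgroup.mem_iInf.1 hx i))
    refine Subgroup.relIndex_le_of_le_right ?_ Subgroup.index_ne_zero_of_finite
    rintro _ ⟨y, hy, rfl⟩
    exact Subgroup.mem_iInf.1 hy i
  · calc (Nat.card π.range * ∏ i, c i) ^ 2 * ∏ i, g i
        = Nat.card π.range ^ 2 * ∏ i, (c i ^ 2 * g i) := by
          rw [Finset.prod_mul_distrib, Finset.prod_pow, mul_pow]; ring
      _ ≤ P t * ∏ _i : Fin t, w i₀ := Nat.mul_le_mul hπ
          (Finset.prod_le_prod' fun i _ => (hcg i).trans (hmax i (Finset.mem_univ _)))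
      _ = _ := by simp

end Cfsg.Agent.Lib.SolvClass.ClassWeights
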