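import Cfsg.Agent.Lib.SolvClass.Semidirect
import Cfsg.Agent.Lib.SelfDual.Basic
import Mathlib.LinearAlgebra.Pi
import Mathlib.LinearAlgebra.Quotient.Basic
import Mathlib.GroupTheory.Index

/-!
# The combined bound, and how it composes over constituents

`Good ρ N p M` says `k(V ⋊ ρ K) · k(S N / N) ≤ M` for all subgroups `K ≤ N` with image of order
prime to `p` and all subgroups `S`.
-/

set_option autoImplicit false
set_option linter.style.haveILetI false

namespace Cfsg.Agent.Lib.SolvClass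

/-- The combined bound on class numbers. -/
def Good {G : Type*} [Group G] {L : Type*} [Field L] {V : Type*} [AddCommGroup V] [Module L V]
    (ρ : G →* (V ≃ₗ[L] V)) (N : Subgroup G) [N.Normal] (p M : ℕ) : Prop :=
  ∀ K : Subgroup G, K ≤ N → ¬ p ∣ Nat.card (K.map ρ) → ∀ S : Subgroup G,
    kv (K.map ρ).subtype * k (S.map (QuotientGroup.mk' N)) ≤ M

section

variable {G G' : Type*} [Group G] [Group G'] {L : Type*} [Field L]
variable {V : Type*} [AddCommGroup V] [Module L V]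
variable {V' : Type*} [AddCommGroup V'] [Module L V']

theorem kv_subgroup_congr {H H' : Subgroup (V ≃ₗ[L] V)} (h : H = H') :
    kv H.subtype = kv H'.subtype := by
  subst h; rfl

theorem Good.mono {ρ : G →* (V ≃ₗ[L] V)} {N : Subgroup G} [N.Normal] {p M M' : ℕ}
    (h : Good ρ N p M) (hM : M ≤ M') : Good ρ N p M' :=
  fun K hK hp S => (h K hK hp S).trans hM

theorem Good.congr {ρ : G →* (V ≃ₗ[L] V)} {N N' : Subgroup G} [N.Normal] [N'.Normal] {p M : ℕ}
    (h : Good ρ N p M) (hN : N = N') : Good ρ N' p M := by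
  subst hN; exact h

theorem Good.comp {ρ : G →* (V ≃ₗ[L] V)} {N : Subgroup G} [N.Normal] {p M : ℕ}
    (h : Good ρ N p M) (ψ : G' →* G) : Good (ρ.comp ψ) (N.comap ψ) p M := by
  intro K hK hp S
  rw [← Subgroup.map_map] at hp
  have := h (K.map ψ) (Subgroup.map_le_iff_le_comap.2 hK) hp (S.map ψ)
  rw [kv_subgroup_congr (Subgroup.map_map K ρ ψ), Subgroup.map_map] at this
  refine le_of_eq_of_le (congrArg (kv _ * ·) ?_) this
  exact k_map_congr _ _ _ fun x _ => by simp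

/-- The combined bound is multiplicative over two constituents. -/
theorem Good.combine {V₁ V₂ : Type*} [AddCommGroup V₁] [Module L V₁] [AddCommGroup V₂] [Module L V₂]
    [Finite G] [Finite V] {ρ : G →* (V ≃ₗ[L] V)} {ρ₁ : G →* (V₁ ≃ₗ[L] V₁)}
    {ρ₂ : G →* (V₂ ≃ₗ[L] V₂)} {N₁ N₂ : Subgroup G} [N₁.Normal] [N₂.Normal] {p M₁ M₂ : ℕ}
    (h₁ : Good ρ₁ N₁ p M₁) (h₂ : Good ρ₂ N₂ p M₂)
    (hsplit : ∀ K : Subgroup G, K ≤ N₁ ⊓ N₂ → ¬ p ∣ Nat.card (K.map ρ) →
      ∃ φ : V ≃ₗ[L] (V₁ × V₂), ∀ a ∈ K, ∀ v, φ (ρ a v) = (ρ₁ a (φ v).1, ρ₂ a (φ v).2)) :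
    Good ρ (N₁ ⊓ N₂) p (M₁ * M₂) := by
  intro K hK hp S
  obtain ⟨φ, hφ⟩ := hsplit K hK hp
  let Ψ : (V₁ ≃ₗ[L] V₁) × (V₂ ≃ₗ[L] V₂) →* (V ≃ₗ[L] V) :=
    { toFun := fun a => φ.trans ((a.1.prodCongr a.2).trans φ.symm)
      map_one' := LinearEquiv.ext fun v => φ.symm_apply_apply v
      map_mul' := fun a b => LinearEquiv.ext fun v => by
        simp [LinearEquiv.mul_apply] }
  have hΨ : Function.Injective Ψ := fun a b hab => by
    have h : ∀ w : V₁ × V₂, (a.1 w.1, a.2 w.2) = (b.1 w.1, b.2 w.2) := fun w => by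
      have := congrArg φ (LinearEquiv.congr_fun hab (φ.symm w))
      simpa [Ψ] using this
    exact Prod.ext (LinearEquiv.ext fun x => congrArg Prod.fst (h (x, 0)))
      (LinearEquiv.ext fun x => congrArg Prod.snd (h (0, x)))
  set Kq := K.map (ρ₁.prod ρ₂) with hKq
  have hmap : Kq.map Ψ = K.map ρ := by
    ext a
    constructor
    · rintro ⟨-, ⟨x, hx, rfl⟩, rfl⟩
      exact ⟨x, hx, LinearEquiv.ext fun v => φ.injective (by simp [Ψ, hφ x hx v])⟩
    · rintro ⟨x, hx, rfl⟩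
      exact ⟨_, ⟨x, hx, rfl⟩, LinearEquiv.ext fun v => φ.injective (by simp [Ψ, hφ x hx v])⟩
  haveI : Finite Kq := Set.Finite.to_subtype ((Set.toFinite (K : Set G)).image _)
  have hdvd : Nat.card Kq = Nat.card (K.map ρ) := by
    rw [← hmap]; exact Nat.card_congr (Kq.equivMapOfInjective Ψ hΨ).toEquiv
  let π₁ : Kq →* (V₁ ≃ₗ[L] V₁) := (MonoidHom.fst _ _).comp Kq.subtype
  let π₂ : Kq →* (V₂ ≃ₗ[L] V₂) := (MonoidHom.snd _ _).comp Kq.subtype
  have hstep : kv (K.map ρ).subtype ≤ kv π₁.range.subtype * kv (π₂.comp π₁.ker.subtype) := by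
    refine le_of_eq_of_le ?_ (kv_le_mul (Ψ.comp Kq.subtype) π₁ π₂ φ fun a v => ?_)
    · refine (kv_congr _ _ ((Kq.equivMapOfInjective Ψ hΨ).trans (MulEquiv.subgroupCongr hmap))
        (AddEquiv.refl V) fun a v => ?_).symm
      rfl
    · simp [Ψ, π₁, π₂]
  have hr₁ : π₁.range = K.map ρ₁ := by
    rw [MonoidHom.range_comp, Subgroup.range_subtype, hKq, Subgroup.map_map]; rfl
  have hr₂ : (π₂.comp π₁.ker.subtype).range = (K ⊓ ρ₁.ker).map ρ₂ := by
    ext a
    constructor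
    · rintro ⟨⟨⟨-, x, hx, rfl⟩, hz⟩, rfl⟩
      exact ⟨x, ⟨hx, hz⟩, rfl⟩
    · rintro ⟨x, ⟨hx, hz⟩, rfl⟩
      exact ⟨⟨⟨_, x, hx, rfl⟩, hz⟩, rfl⟩
  have hinj₂ : Function.Injective (π₂.comp π₁.ker.subtype) := fun a b hab => by
    refine Subtype.ext (Subtype.ext (Prod.ext ?_ hab))
    exact (a.2 : π₁ a = 1).trans (b.2 : π₁ b = 1).symm
  have e₂ : kv (π₂.comp π₁.ker.subtype) = kv ((K ⊓ ρ₁.ker).map ρ₂).subtype :=
    kv_congr _ _ ((MonoidHom.ofInjective hinj₂).trans (MulEquiv.subgroupCongr hr₂))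
      (AddEquiv.refl V₂) fun a v => rfl
  rw [kv_subgroup_congr hr₁, e₂] at hstep
  have hp₁ : ¬ p ∣ Nat.card (K.map ρ₁) := fun h => hp (by
    rw [← hdvd, ← hr₁] at *
    exact h.trans (Subgroup.card_range_dvd π₁))
  have hp₂ : ¬ p ∣ Nat.card ((K ⊓ ρ₁.ker).map ρ₂) := fun h => hp (by
    rw [← hdvd]
    rw [← hr₂] at h
    exact h.trans ((Subgroup.card_range_dvd _).trans (Subgroup.card_subgroup_dvd_card _)))
  have hk : k (S.map (QuotientGroup.mk' (N₁ ⊓ N₂))) ≤
      k ((S ⊓ N₁).map (QuotientGroup.mk' N₂)) * k (S.map (QuotientGroup.mk' N₁)) := by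
    have := k_map_le_mul S (QuotientGroup.mk' (N₁ ⊓ N₂)) (QuotientGroup.mk' N₁)
      (QuotientGroup.mk' N₂) fun x _ => by simp
    rwa [QuotientGroup.ker_mk'] at this
  have b₁ := h₁ K (hK.trans inf_le_left) hp₁ S
  have b₂ := h₂ (K ⊓ ρ₁.ker) ((inf_le_left.trans hK).trans inf_le_right) hp₂ (S ⊓ N₁)
  calc kv (K.map ρ).subtype * k (S.map (QuotientGroup.mk' (N₁ ⊓ N₂)))
      ≤ kv (K.map ρ₁).subtype * kv ((K ⊓ ρ₁.ker).map ρ₂).subtype *
        (k ((S ⊓ N₁).map (QuotientGroup.mk' N₂)) * k (S.map (QuotientGroup.mk' N₁))) :=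
        Nat.mul_le_mul hstep hk
    _ = (kv (K.map ρ₁).subtype * k (S.map (QuotientGroup.mk' N₁))) *
        (kv ((K ⊓ ρ₁.ker).map ρ₂).subtype * k ((S ⊓ N₁).map (QuotientGroup.mk' N₂))) := by ring
    _ ≤ M₁ * M₂ := Nat.mul_le_mul b₁ b₂

/-- Restriction of a representation to an invariant subspace. -/
noncomputable def subRep (ρ : G →* (V ≃ₗ[L] V)) (W : Submodule L V)
    (hW : ∀ g, ∀ w ∈ W, ρ g w ∈ W) : G →* (W ≃ₗ[L] W) :=
  (LinearMap.GeneralLinearGroup.generalLinearEquiv L W).toMonoidHom.comp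
    (MonoidHom.toHomUnits
      { toFun := fun g => (ρ g).toLinearMap.restrict (hW g)
        map_one' := LinearMap.ext fun w => Subtype.ext (by simp [LinearMap.restrict_apply])
        map_mul' := fun a b => LinearMap.ext fun w => Subtype.ext (by
          simp [LinearMap.restrict_apply, LinearEquiv.mul_apply]) })

theorem subRep_apply (ρ : G →* (V ≃ₗ[L] V)) (W : Submodule L V)
    (hW : ∀ g, ∀ w ∈ W, ρ g w ∈ W) (g : G) (w : W) : (subRep ρ W hW g w : V) = ρ g w := rfl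

/-- The representation on the quotient by an invariant subspace. -/
noncomputable def quotRep (ρ : G →* (V ≃ₗ[L] V)) (W : Submodule L V)
    (hW : ∀ g, ∀ w ∈ W, ρ g w ∈ W) : G →* ((V ⧸ W) ≃ₗ[L] (V ⧸ W)) :=
  (LinearMap.GeneralLinearGroup.generalLinearEquiv L (V ⧸ W)).toMonoidHom.comp
    (MonoidHom.toHomUnits
      { toFun := fun g => W.mapQ W (ρ g).toLinearMap (fun w hw => hW g w hw)
        map_one' := Submodule.linearMap_qext _ (LinearMap.ext fun v => by simp)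
        map_mul' := fun a b => Submodule.linearMap_qext _ (LinearMap.ext fun v => by
          simp [LinearEquiv.mul_apply]) })

theorem quotRep_apply (ρ : G →* (V ≃ₗ[L] V)) (W : Submodule L V)
    (hW : ∀ g, ∀ w ∈ W, ρ g w ∈ W) (g : G) (v : V) :
    quotRep ρ W hW g (Submodule.Quotient.mk v) = Submodule.Quotient.mk (ρ g v) := rfl

/-- Maschke: splitting of an invariant subspace for a subgroup with image of order prime to
the characteristic. -/
theorem exists_split [Finite G] (p : ℕ) [Fact p.Prime] [CharP L p] (ρ : G →* (V ≃ₗ[L] V))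
    (W : Submodule L V) (hW : ∀ g, ∀ w ∈ W, ρ g w ∈ W) (K : Subgroup G)
    (hp : ¬ p ∣ Nat.card (K.map ρ)) :
    ∃ φ : V ≃ₗ[L] (W × (V ⧸ W)), ∀ a ∈ K, ∀ v,
      φ (ρ a v) = (subRep ρ W hW a (φ v).1, quotRep ρ W hW a (φ v).2) := by
  haveI : Finite (K.map ρ) := Set.Finite.to_subtype ((Set.toFinite (K : Set G)).image _)
  let σ : Representation L (K.map ρ) V :=
    LinearEquiv.automorphismGroup.toLinearMapMonoidHom.comp (K.map ρ).subtype
  have hU : Cfsg.Agent.Lib.SelfDual.Inv σ W := by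
    rintro ⟨-, x, hx, rfl⟩ u hu
    exact hW x u hu
  obtain ⟨q, q1, q2, q3⟩ := Cfsg.Agent.Lib.SelfDual.exists_proj σ
    (by rw [ne_eq, CharP.cast_eq_zero_iff L p]; exact hp) hU
  let qW : V →ₗ[L] W := q.codRestrict W q1
  have hbij : Function.Bijective (qW.prod W.mkQ) := by
    constructor
    · rw [← LinearMap.ker_eq_bot, Submodule.eq_bot_iff]
      intro v hv
      rw [LinearMap.mem_ker] at hv
      have h1 : qW v = 0 := congrArg Prod.fst hv
      have h2 : W.mkQ v = 0 := congrArg Prod.snd hv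
      rw [← q2 v ((Submodule.Quotient.mk_eq_zero W).1 h2)]
      exact congrArg Subtype.val h1
    · rintro ⟨w, u⟩
      obtain ⟨u, rfl⟩ := Submodule.Quotient.mk_surjective W u
      refine ⟨u - q u + w, Prod.ext (Subtype.ext ?_) ?_⟩
      · show q (u - q u + w) = w
        rw [map_add, map_sub, q2 _ (q1 u), q2 _ w.2, sub_self, zero_add]
      · show Submodule.Quotient.mk (u - q u + (w : V)) = Submodule.Quotient.mk u
        rw [Submodule.Quotient.eq]
        have : u - q u + (w : V) - u = w - q u := by abel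
        rw [this]
        exact W.sub_mem w.2 (q1 u)
  refine ⟨LinearEquiv.ofBijective _ hbij, fun a ha v => Prod.ext (Subtype.ext ?_) rfl⟩
  exact q3 ⟨ρ a, a, ha, rfl⟩ v

theorem Good.of_submodule [Finite G] [Finite V] (p : ℕ) [Fact p.Prime] [CharP L p]
    {ρ : G →* (V ≃ₗ[L] V)} {W : Submodule L V} {hW : ∀ g, ∀ w ∈ W, ρ g w ∈ W}
    {N₁ N₂ : Subgroup G} [N₁.Normal] [N₂.Normal] {M₁ M₂ : ℕ}
    (h₁ : Good (subRep ρ W hW) N₁ p M₁) (h₂ : Good (quotRep ρ W hW) N₂ p M₂) :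
    Good ρ (N₁ ⊓ N₂) p (M₁ * M₂) :=
  Good.combine h₁ h₂ fun K _ hp => exists_split p ρ W hW K hp

/-- The combined bound for a direct sum of finitely many constituents. -/
theorem Good.pi.{w} [Finite G] (p : ℕ) {n : ℕ} : ∀ {U : Type w} [AddCommGroup U] [Module L U] [Finite U]
    (ρ : G →* (U ≃ₗ[L] U)) (W : Fin n → Type w) [∀ i, AddCommGroup (W i)] [∀ i, Module L (W i)]
    [∀ i, Finite (W i)] (σ : ∀ i, G →* (W i ≃ₗ[L] W i)) (φ : U ≃ₗ[L] (∀ i, W i))
    (_ : ∀ a v i, φ (ρ a v) i = σ i a (φ v i)) (N : Fin n → Subgroup G) [∀ i, (N i).Normal]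
    (M : ℕ) (_ : ∀ i, Good (σ i) (N i) p M) [(⨅ i, N i).Normal],
    Good ρ (⨅ i, N i) p (M ^ n) := by
  induction n with
  | zero =>
    intro U _ _ _ ρ W _ _ _ σ φ _ N _ M _ _ K _ _ S
    haveI : Subsingleton U := φ.injective.subsingleton
    haveI : Subsingleton (U ≃ₗ[L] U) := ⟨fun a b => LinearEquiv.ext fun _ => Subsingleton.elim _ _⟩
    haveI : Subsingleton (G ⧸ (⨅ i, N i)) := by
      rw [iInf_of_empty]; exact QuotientGroup.subsingleton_quotient_top
    have h1 := kv_le_card_of_subsingleton (K.map ρ).subtype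
    rw [Nat.card_eq_one_iff_unique.2 ⟨inferInstance, ⟨(0 : U)⟩⟩] at h1
    have h2 : k (S.map (QuotientGroup.mk' (⨅ i, N i))) ≤ 1 :=
      k_le_card.trans_eq (Nat.card_eq_one_iff_unique.2 ⟨inferInstance, ⟨1⟩⟩)
    simpa using Nat.mul_le_mul h1 h2
  | succ n ih =>
    intro U _ _ _ ρ W _ _ _ σ φ hφ N _ M hM _
    haveI : (⨅ i : Fin n, N i.succ).Normal := Subgroup.normal_iInf_normal fun _ => inferInstance
    let τ : G →* ((∀ i : Fin n, W i.succ) ≃ₗ[L] (∀ i : Fin n, W i.succ)) :=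
      { toFun := fun g => LinearEquiv.piCongrRight fun i => σ i.succ g
        map_one' := LinearEquiv.ext fun v => funext fun i => by simp
        map_mul' := fun a b => LinearEquiv.ext fun v => funext fun i => by
          simp [LinearEquiv.mul_apply] }
    have htail : Good τ (⨅ i : Fin n, N i.succ) p (M ^ n) :=
      ih τ (fun i => W i.succ) (fun i => σ i.succ) (LinearEquiv.refl L _) (fun _ _ _ => rfl)
        (fun i => N i.succ) M fun i => hM i.succ
    have hN : N 0 ⊓ ⨅ i : Fin n, N i.succ = ⨅ i, N i := by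
      refine le_antisymm (le_iInf fun i => ?_)
        (le_inf (iInf_le _ 0) (le_iInf fun i => iInf_le _ i.succ))
      refine Fin.cases inf_le_left (fun j => inf_le_right.trans (iInf_le _ j)) i
    rw [pow_succ']
    refine ((hM 0).combine htail fun K _ _ => ?_).congr hN
    exact ⟨φ.trans (Fin.consLinearEquiv L W).symm, fun a _ v => Prod.ext (hφ a v 0)
      (funext fun i => hφ a v i.succ)⟩

end

end Cfsg.Agent.Lib.SolvClass
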