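import Cfsg.Agent.Lib.Spectrum.PrimitiveSoluble
import Mathlib.FieldTheory.Fixed
import Mathlib.LinearAlgebra.Dual.Lemmas
import Mathlib.LinearAlgebra.FreeModule.Finite.Matrix
import Mathlib.RingTheory.LittleWedderburn

/-!
# A normal abelian subgroup of a primitive linear group spans a field
-/

set_option autoImplicit false
set_option linter.style.haveILetI false

namespace Cfsg.Agent.Lib.SolvClass

open Module

section

variable {L : Type*} [Field L] [Finite L] {V : Type*} [AddCommGroup V] [Module L V] [Finite V]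

/-- Irreducibility of a group of linear automorphisms. -/
def Irr (G : Subgroup (V ≃ₗ[L] V)) : Prop :=
  Nontrivial V ∧ ∀ W : Submodule L V, (∀ g ∈ G, ∀ w ∈ W, g w ∈ W) → W = ⊥ ∨ W = ⊤

/-- Primitivity of a group of linear automorphisms. -/
def Prim (G : Subgroup (V ≃ₗ[L] V)) : Prop :=
  ∀ (t m : ℕ) (D : Fin t → Submodule L V), 2 ≤ t → 0 < m →
    (∀ i, finrank L (D i) = m) → iSupIndep D → iSup D = ⊤ →
    ¬ ∀ g ∈ G, ∃ σ : Equiv.Perm (Fin t),
      ∀ i, (D i).map (g : V →ₗ[L] V) = D (σ i)

/-- The data of the field spanned by a normal abelian subgroup `A`: `s` is its degree over `L` and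
`u` the dimension of the space over it. -/
theorem exists_field (G : Subgroup (V ≃ₗ[L] V)) (hirr : Irr G) (hprim : Prim G)
    (A : Subgroup G) (hA : A.Normal) (hAc : ∀ a ∈ A, ∀ b ∈ A, a * b = b * a) :
    ∃ s u : ℕ, 0 < s ∧ 0 < u ∧ finrank L V = s * u ∧
      (Subgroup.centralizer (A : Set G)).index ≤ s ∧ Nat.card A < Nat.card L ^ s ∧
      (∀ a ∈ A, ∀ v : V, v ≠ 0 → (a : V ≃ₗ[L] V) v = v → a = 1) ∧
      (∀ (W : Type) [Group W] [Finite W], Nat.card (W →* A) ≤ Nat.card W) ∧
      ∀ E : Subgroup G, A ≤ E → E ≤ Subgroup.centralizer (A : Set G) →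
        (∀ x ∈ E, ∀ y ∈ E, y * x * y⁻¹ * x⁻¹ ∈ A) →
        (∀ x ∈ E, (∀ y ∈ E, x * y = y * x) → x ∈ A) → A.relIndex E ≤ u ^ 2 := by
  classical
  haveI : Nontrivial V := hirr.1
  haveI : Module.Finite L V := Module.Finite.of_finite
  haveI : Finite (V ≃ₗ[L] V) := Finite.of_injective (fun f => (f : V → V)) DFunLike.coe_injective
  haveI : Finite (Module.End L V) :=
    Finite.of_injective (fun f => (f : V → V)) DFunLike.coe_injective
  -- adjoin the scalars
  let ι : G →* Module.End L V := LinearEquiv.automorphismGroup.toLinearMapMonoidHom.comp G.subtype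
  let sc : Lˣ →* Module.End L V :=
    (algebraMap L (Module.End L V)).toMonoidHom.comp (Units.coeHom L)
  let e : G × Lˣ →* Module.End L V :=
    MonoidHom.noncommCoprod ι sc fun g c => (Algebra.commutes (c : L) (ι g)).symm
  have hι : ∀ (g : G) (v : V), ι g v = (g : V ≃ₗ[L] V) v := fun _ _ => rfl
  have he1 : ∀ g : G, e (g, 1) = ι g := fun g => by simp [e, sc]
  have he2 : ∀ c : Lˣ, e (1, c) = algebraMap L _ (c : L) := fun c => by simp [e, sc]
  have hirr' : ∀ W : Submodule L V, (∀ g, ∀ w ∈ W, e g w ∈ W) → W = ⊥ ∨ W = ⊤ := fun W h =>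
    hirr.2 W fun g hg w hw => by
      have := h (⟨g, hg⟩, 1) w hw
      rwa [he1] at this
  have hprim' : ∀ (t m : ℕ) (D : Fin t → Submodule L V), 2 ≤ t → 0 < m →
      (∀ i, finrank L (D i) = m) → iSupIndep D → iSup D = ⊤ →
      ¬ ∀ g, ∃ σ : Equiv.Perm (Fin t), ∀ i, (D i).map (e g) = D (σ i) := by
    intro t m D h1 h2 h3 h4 h5 h6
    refine hprim t m D h1 h2 h3 h4 h5 fun g hg => ?_
    obtain ⟨σ, hσ⟩ := h6 (⟨g, hg⟩, 1)
    exact ⟨σ, fun i => by rw [← hσ i, he1]; rfl⟩
  let A' : Subgroup (G × Lˣ) := A.prod ⊤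
  haveI := hA
  have hA'c : ∀ a ∈ A', ∀ b ∈ A', a * b = b * a := fun a ha b hb =>
    Prod.ext (hAc _ ha.1 _ hb.1) (mul_comm _ _)
  -- the algebra spanned by `A`
  let D : Subalgebra L (Module.End L V) := Algebra.adjoin L (ι '' (A : Set G))
  have hDspan : ∀ x ∈ D, x ∈ Spectrum.PrimitiveSoluble.span e A' := by
    intro x hx
    induction hx using Algebra.adjoin_induction with
    | mem x hx =>
      obtain ⟨a, ha, rfl⟩ := hx
      exact Subring.subset_closure ⟨(a, 1), ⟨ha, trivial⟩, he1 a⟩
    | algebraMap c =>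
      by_cases hc : c = 0
      · rw [hc, map_zero]; exact zero_mem _
      · exact Subring.subset_closure ⟨(1, Units.mk0 c hc), ⟨one_mem _, trivial⟩, he2 _⟩
    | add x y _ _ hx hy => exact add_mem hx hy
    | mul x y _ _ hx hy => exact mul_mem hx hy
  have hinjD : ∀ x ∈ D, ∀ v : V, v ≠ 0 → x v = 0 → x = 0 := fun x hx v hv h0 =>
    Spectrum.PrimitiveSoluble.eq_zero_of_apply_eq_zero e hirr' hprim'
      (inferInstance : A'.Normal) hA'c (hDspan x hx) hv h0
  letI : CommRing D := Algebra.adjoinCommRingOfComm L (by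
    rintro _ ⟨a, ha, rfl⟩ _ ⟨b, hb, rfl⟩
    rw [← map_mul, ← map_mul, hAc a ha b hb])
  haveI : Nontrivial D := ⟨⟨0, 1, fun h => by
    obtain ⟨v, hv⟩ := exists_ne (0 : V)
    exact hv (by simpa using (LinearMap.congr_fun (congrArg Subtype.val h) v).symm)⟩⟩
  haveI : NoZeroDivisors D := ⟨fun {a b} hab => by
    by_cases hb : b = 0
    · exact Or.inr hb
    obtain ⟨v, hv⟩ : ∃ v, (b : Module.End L V) v ≠ 0 := by
      by_contra hall
      push Not at hall
      exact hb (Subtype.ext (LinearMap.ext hall))
    exact Or.inl (Subtype.ext (hinjD a a.2 _ hv (LinearMap.congr_fun (congrArg Subtype.val hab) v :)))⟩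
  haveI : IsDomain D := NoZeroDivisors.to_isDomain D
  haveI := Fintype.ofFinite D
  letI : Field D := Fintype.fieldOfDomain D
  haveI : IsScalarTower L D V := ⟨fun c d v => by
    show ((c • d : D) : Module.End L V) v = c • (d : Module.End L V) v
    simp⟩
  haveI : Module.Finite D V := Module.Finite.of_finite
  haveI : Module.Finite L D := Module.Finite.of_finite
  have hAD : ∀ a : A, ι a ∈ D := fun a => Algebra.subset_adjoin ⟨a, a.2, rfl⟩
  let j : A →* D :=
    { toFun := fun a => ⟨ι a, hAD a⟩
      map_one' := Subtype.ext (map_one ι)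
      map_mul' := fun a b => Subtype.ext (map_mul ι (a : G) b) }
  have hιinj : Function.Injective ι := fun a b h =>
    Subtype.ext (LinearEquiv.toLinearMap_injective h)
  have hj : Function.Injective j := fun a b h => Subtype.ext (hιinj (congrArg Subtype.val h))
  -- the elements centralising `A` commute with `D`
  have hcomm : ∀ x : G, x ∈ Subgroup.centralizer (A : Set G) → ∀ d : D,
      Commute (ι x) (d : Module.End L V) := by
    intro x hx d
    obtain ⟨d, hd⟩ := d
    induction hd using Algebra.adjoin_induction with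
    | mem y hy =>
      obtain ⟨a, ha, rfl⟩ := hy
      show ι x * ι a = ι a * ι x
      rw [← map_mul, ← map_mul, Subgroup.mem_centralizer_iff.1 hx a ha]
    | algebraMap c => exact Algebra.commute_algebraMap_right _ _
    | add y z _ _ hy hz => exact hy.add_right hz
    | mul y z _ _ hy hz => exact hy.mul_right hz
  refine ⟨finrank L D, finrank D V, finrank_pos, finrank_pos,
    (finrank_mul_finrank L D V).symm, ?_, ?_, ?_, ?_, ?_⟩
  · -- conjugation embeds `G / C(A)` into the automorphisms of `D`
    have hconj : ∀ (g : G) (x : Module.End L V), x ∈ D → ι g * x * ι g⁻¹ ∈ D := by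
      intro g x hx
      induction hx using Algebra.adjoin_induction with
      | mem y hy =>
        obtain ⟨a, ha, rfl⟩ := hy
        rw [← map_mul, ← map_mul]
        exact Algebra.subset_adjoin ⟨_, hA.conj_mem a ha g, rfl⟩
      | algebraMap c =>
        rw [← Algebra.commutes, mul_assoc, ← map_mul, mul_inv_cancel, map_one, mul_one]
        exact D.algebraMap_mem c
      | add y z _ _ hy hz => rw [mul_add, add_mul]; exact add_mem hy hz
      | mul y z _ _ hy hz =>
        have h1 : ι g⁻¹ * ι g = 1 := by rw [← map_mul, inv_mul_cancel, map_one]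
        have : ι g * (y * z) * ι g⁻¹ = (ι g * y * ι g⁻¹) * (ι g * z * ι g⁻¹) := by
          simp only [mul_assoc]
          rw [← mul_assoc (ι g⁻¹) (ι g), h1, one_mul]
        rw [this]; exact mul_mem hy hz
    let cf : G → D →ₐ[L] D := fun g =>
      { toFun := fun x => ⟨ι g * x * ι g⁻¹, hconj g x x.2⟩
        map_one' := Subtype.ext (by
          show ι g * 1 * ι g⁻¹ = 1
          rw [mul_one, ← map_mul, mul_inv_cancel, map_one])
        map_mul' := fun x y => Subtype.ext (by
          show ι g * (x * y : Module.End L V) * ι g⁻¹ = _ * _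
          simp only [mul_assoc]
          rw [← mul_assoc (ι g⁻¹) (ι g), ← map_mul, inv_mul_cancel, map_one, one_mul])
        map_zero' := Subtype.ext (by show ι g * 0 * ι g⁻¹ = 0; simp)
        map_add' := fun x y => Subtype.ext (by
          show ι g * (x + y : Module.End L V) * ι g⁻¹ = _ + _
          rw [mul_add, add_mul])
        commutes' := fun c => Subtype.ext (by
          show ι g * algebraMap L _ c * ι g⁻¹ = algebraMap L _ c
          rw [← Algebra.commutes, mul_assoc, ← map_mul, mul_inv_cancel, map_one, mul_one]) }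
    have hcf1 : cf 1 = AlgHom.id L D := AlgHom.ext fun x => Subtype.ext (by simp [cf])
    have hcfm : ∀ g h, cf (g * h) = (cf g).comp (cf h) := fun g h => AlgHom.ext fun x =>
      Subtype.ext (by simp [cf, mul_assoc])
    let Φ : G →* (D ≃ₐ[L] D) :=
      { toFun := fun g => AlgEquiv.ofAlgHom (cf g) (cf g⁻¹)
          (by rw [← hcfm, mul_inv_cancel, hcf1]) (by rw [← hcfm, inv_mul_cancel, hcf1])
        map_one' := AlgEquiv.ext fun x => DFunLike.congr_fun hcf1 x
        map_mul' := fun g h => AlgEquiv.ext fun x => DFunLike.congr_fun (hcfm g h) x }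
    have hker : Φ.ker ≤ Subgroup.centralizer (A : Set G) := by
      intro g hg
      rw [Subgroup.mem_centralizer_iff]
      intro a ha
      have h1 : ι g * ι a * ι g⁻¹ = ι a :=
        congrArg Subtype.val (DFunLike.congr_fun (MonoidHom.mem_ker.1 hg) (j ⟨a, ha⟩) :)
      rw [← map_mul, ← map_mul] at h1
      exact (mul_inv_eq_iff_eq_mul.1 (hιinj h1)).symm
    refine (Nat.le_of_dvd ?_ (Subgroup.index_dvd_of_le hker)).trans ?_
    · exact Nat.pos_of_ne_zero Subgroup.index_ne_zero_of_finite
    · rw [Subgroup.index_ker]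
      refine (Subgroup.card_le_card_group _).trans ?_
      rw [Nat.card_eq_fintype_card]
      exact AlgEquiv.card_le
  · rw [← Module.natCard_eq_pow_finrank (K := L) (V := D)]
    refine lt_of_le_of_ne (Nat.card_le_card_of_injective j hj) fun h => ?_
    obtain ⟨a, ha⟩ := ((Nat.bijective_iff_injective_and_card j).2 ⟨hj, h⟩).2 0
    obtain ⟨v, hv⟩ := exists_ne (0 : V)
    exact hv (((a : G) : V ≃ₗ[L] V).injective
      ((LinearMap.congr_fun (congrArg Subtype.val ha) v).trans (map_zero _).symm))
  · intro a ha v hv hfix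
    have : (j ⟨a, ha⟩ : Module.End L V) - 1 = 0 :=
      hinjD _ (sub_mem (hAD ⟨a, ha⟩) (one_mem _)) v hv (by
        rw [LinearMap.sub_apply, Module.End.one_apply]
        exact sub_eq_zero.2 hfix)
    exact hιinj ((sub_eq_zero.1 this).trans (map_one ι).symm)
  · intro W _ _
    haveI := Fintype.ofFinite W
    have h := ((linearIndependent_monoidHom W D).comp (fun f : W →* A => j.comp f)
      (fun f g hfg => MonoidHom.ext fun w => hj (DFunLike.congr_fun hfg w))).cardinal_le_rank
    rw [rank_fun'] at h
    haveI : Finite (W →* A) := Finite.of_injective (fun f => (f : W → A)) DFunLike.coe_injective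
    haveI := Fintype.ofFinite (W →* A)
    simp only [Cardinal.mk_fintype, Cardinal.lift_natCast, Nat.cast_le] at h
    rwa [Nat.card_eq_fintype_card, Nat.card_eq_fintype_card]
  · intro E hAE hEC hEcomm hnd
    let lin : E → Module.End D V := fun x =>
      { toFun := fun v => ι (x : G) v
        map_add' := fun v w => map_add _ v w
        map_smul' := fun d v => LinearMap.congr_fun (hcomm x (hEC x.2) d) v }
    let R : E ⧸ A.subgroupOf E → E := Quotient.out
    let χ : E → E →* D := fun x => j.comp
      { toFun := fun y => ⟨(y : G) * x * (y : G)⁻¹ * (x : G)⁻¹, hEcomm x x.2 y y.2⟩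
        map_one' := Subtype.ext (by simp)
        map_mul' := fun y z => Subtype.ext (by
          have hz := hEcomm x x.2 z z.2
          have hy := Subgroup.mem_centralizer_iff.1 (hEC y.2) _ hz
          set c := (z : G) * x * (z : G)⁻¹ * (x : G)⁻¹
          set d := (y : G) * x * (y : G)⁻¹ * (x : G)⁻¹
          show (y : G) * z * x * ((y : G) * z)⁻¹ * (x : G)⁻¹ = d * c
          have hd : d ∈ A := hEcomm x x.2 y y.2
          rw [hAc d hd c hz]
          simp only [c, d] at hy ⊢
          calc (y : G) * z * x * ((y : G) * z)⁻¹ * (x : G)⁻¹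
              = (y : G) * ((z : G) * x * (z : G)⁻¹ * (x : G)⁻¹) * x * (y : G)⁻¹ * (x : G)⁻¹ := by
                group
            _ = ((z : G) * x * (z : G)⁻¹ * (x : G)⁻¹) * y * x * (y : G)⁻¹ * (x : G)⁻¹ := by
                rw [← hy]
            _ = _ := by group) }
    have hχinj : Function.Injective (fun q => χ (R q)) := by
      intro a b hab
      rw [← Quotient.out_eq' a, ← Quotient.out_eq' b]
      refine QuotientGroup.eq.2 ?_
      rw [Subgroup.mem_subgroupOf]
      refine hnd _ (E.mul_mem (E.inv_mem (R a).2) (R b).2) fun y hy => ?_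
      have h1 : y⁻¹ * (R a : G) * y⁻¹⁻¹ * (R a : G)⁻¹ = y⁻¹ * (R b : G) * y⁻¹⁻¹ * (R b : G)⁻¹ :=
        congrArg Subtype.val (hj (DFunLike.congr_fun hab ⟨y⁻¹, E.inv_mem hy⟩) :)
      rw [inv_inv] at h1
      have h2 : (R a : G) * y * (R a : G)⁻¹ = (R b : G) * y * (R b : G)⁻¹ := by
        simpa only [mul_assoc, mul_right_inj] using h1
      calc (R a : G)⁻¹ * (R b : G) * y
          = (R a : G)⁻¹ * ((R b : G) * y * (R b : G)⁻¹) * R b := by group
        _ = (R a : G)⁻¹ * ((R a : G) * y * (R a : G)⁻¹) * R b := by rw [h2]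
        _ = y * ((R a : G)⁻¹ * R b) := by group
    haveI := Fintype.ofFinite (E ⧸ A.subgroupOf E)
    have hli : LinearIndependent D (fun q => lin (R q)) := by
      rw [Fintype.linearIndependent_iff]
      intro g hg q
      have hv : ∀ w : V, ∑ r, g r • ι (R r : G) w = 0 := fun w => by
        have := LinearMap.congr_fun hg w
        simpa [lin] using this
      have htw : ∀ y : E, ∑ r, (g r * χ (R r) y) • lin (R r) = 0 := by
        intro y
        refine LinearMap.ext fun v => ?_
        simp only [LinearMap.sum_apply, LinearMap.smul_apply, LinearMap.zero_apply]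
        calc ∑ r, (g r * χ (R r) y) • ι (R r : G) v
            = ∑ r, ι (y : G) (g r • ι (R r : G) (ι (y : G)⁻¹ v)) := by
              refine Finset.sum_congr rfl fun r _ => ?_
              have hc : ι (y : G) (g r • ι (R r : G) (ι (y : G)⁻¹ v)) =
                  g r • ι (y : G) (ι (R r : G) (ι (y : G)⁻¹ v)) :=
                LinearMap.congr_fun (hcomm y (hEC y.2) (g r)) _
              rw [hc, mul_smul]
              refine congrArg (g r • ·) ?_
              show ι ((y : G) * (R r) * (y : G)⁻¹ * (R r : G)⁻¹) (ι (R r : G) v) = _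
              rw [← Module.End.mul_apply, ← map_mul, inv_mul_cancel_right, map_mul, map_mul,
                Module.End.mul_apply, Module.End.mul_apply]
          _ = 0 := by rw [← map_sum, hv, map_zero]
      obtain ⟨φ, hφ⟩ : ∃ φ : Module.Dual D (Module.End D V), φ (lin (R q)) ≠ 0 := by
        by_contra hall
        push Not at hall
        have h0 := (Module.forall_dual_apply_eq_zero_iff D _).1 hall
        obtain ⟨v, hv0⟩ := exists_ne (0 : V)
        exact hv0 (((R q : G) : V ≃ₗ[L] V).injective
          ((LinearMap.congr_fun h0 v :).trans (map_zero _).symm))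
      have hχ := (linearIndependent_monoidHom E D).comp _ hχinj
      have h0 := Fintype.linearIndependent_iff.1 hχ (fun r => g r * φ (lin (R r)))
        (funext fun y => by
          have := congrArg φ (htw y)
          rw [map_sum, map_zero] at this
          simp only [Finset.sum_apply, Pi.smul_apply, Function.comp_apply, Pi.zero_apply,
            smul_eq_mul]
          rw [← this]
          exact Finset.sum_congr rfl fun r _ => by rw [map_smul, smul_eq_mul]; ring) q
      exact (mul_eq_zero.1 h0).resolve_right hφ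
    have := hli.fintype_card_le_finrank
    rw [Module.finrank_linearMap, ← Nat.card_eq_fintype_card] at this
    rw [sq]
    exact this

end

end Cfsg.Agent.Lib.SolvClass
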