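import Cfsg.Agent.Lib.SolvClass.FortyNineLinear
import Cfsg.Agent.Lib.SolvClass.ClassLower
import Mathlib.FieldTheory.Finite.Basic

/-!
# `49 p ≤ 60 k(G)` for soluble groups with `p ^ 2` dividing the order
-/

set_option autoImplicit false
set_option linter.style.haveILetI false
set_option linter.unusedSectionVars false

namespace Cfsg.Agent.Lib.SolvClass.FortyNine

open Module Polynomial Cfsg.Agent.Lib.SolvClass

/-- An operator with `T ^ p = T` over `ZMod p` has an eigenvector. -/
theorem exists_eigenvector {p : ℕ} [Fact p.Prime] {W : Type} [AddCommGroup W] [Module (ZMod p) W]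
    [Nontrivial W] (T : Module.End (ZMod p) W) (hT : T ^ p = T) :
    ∃ (a : ZMod p) (w : W), w ≠ 0 ∧ T w = a • w := by
  classical
  have hp : p.Prime := Fact.out
  have key : ∀ (s : Multiset (ZMod p)) (v : W), v ≠ 0 →
      aeval T (s.map fun a => X - C a).prod v = 0 → ∃ (a : ZMod p) (w : W), w ≠ 0 ∧ T w = a • w := by
    intro s
    induction s using Multiset.induction_on with
    | empty =>
      intro v hv h
      simp at h
      exact absurd h hv
    | cons a s ih =>
      intro v hv h
      rw [Multiset.map_cons, Multiset.prod_cons, map_mul, Module.End.mul_apply] at h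
      by_cases h0 : aeval T (s.map fun a => X - C a).prod v = 0
      · exact ih v hv h0
      · refine ⟨a, _, h0, ?_⟩
        rw [map_sub, aeval_X, aeval_C, LinearMap.sub_apply, Module.algebraMap_end_apply,
          sub_eq_zero] at h
        exact h
  obtain ⟨v, hv⟩ := exists_ne (0 : W)
  have hdeg : (X ^ p - X : (ZMod p)[X]).natDegree = p :=
    FiniteField.X_pow_card_sub_X_natDegree_eq (ZMod p) hp.one_lt
  have hmon : (X ^ p - X : (ZMod p)[X]).Monic :=
    monic_X_pow_sub (by rw [degree_X]; exact_mod_cast hp.one_lt)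
  have hroots : (X ^ p - X : (ZMod p)[X]).roots = (Finset.univ : Finset (ZMod p)).val := by
    have h := FiniteField.roots_X_pow_card_sub_X (ZMod p)
    rwa [ZMod.card] at h
  refine key (Finset.univ : Finset (ZMod p)).val v hv ?_
  rw [← hroots, prod_multiset_X_sub_C_of_monic_of_roots_card_eq hmon
    (by rw [hroots, hdeg, Finset.card_val, Finset.card_univ, ZMod.card]), map_sub, map_pow, aeval_X,
    hT, sub_self, LinearMap.zero_apply]

/-- Automorphisms of a cyclic group commute. -/
theorem mulAut_comm (A : Type) [Group A] [IsCyclic A] (a b : MulAut A) : a * b = b * a :=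
  (IsCyclic.mulAutMulEquiv A).injective (by rw [map_mul, map_mul, mul_comm])

/-- The automorphism group of a group of order `p`. -/
theorem mulAut_pow (A : Type) [Group A] [IsCyclic A] [Finite A] {p : ℕ} [Fact p.Prime]
    (hA : Nat.card A = p) (a : MulAut A) : a ^ (p - 1) = 1 := by
  subst hA
  refine (IsCyclic.mulAutMulEquiv A).injective ?_
  rw [map_pow, map_one]
  exact ZMod.units_pow_card_sub_one_eq_one _ _

/-- Elements centralising the normal subgroup are the kernel of conjugation. -/
theorem conjNormal_eq_one {G : Type} [Group G] {A : Subgroup G} [A.Normal] {g : G}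
    (h : (MulAut.conjNormal g : MulAut A) = 1) : g ∈ Subgroup.centralizer (A : Set G) := by
  refine Subgroup.mem_centralizer_iff.2 fun a ha => ?_
  have h1 := congrArg (fun f : MulAut A => ((f ⟨a, ha⟩ : A) : G)) h
  simp only [MulAut.conjNormal_apply, MulAut.one_apply] at h1
  exact (mul_inv_eq_iff_eq_mul.1 h1).symm

/-- A factor pair with product at least `p ^ 2 - 1` has sum at least `49 p / 60`. -/
theorem bound_of_prod {p a b k : ℕ} (hp : 2 ≤ p) (h : p ^ 2 - 1 ≤ b * a) (hk : a + b ≤ k) :
    49 * p ≤ 60 * k := by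
  by_contra hlt
  push Not at hlt
  have h1 : 4 * (p ^ 2 - 1) ≤ k ^ 2 := by
    calc 4 * (p ^ 2 - 1) ≤ 4 * (b * a) := Nat.mul_le_mul_left _ h
      _ ≤ (a + b) ^ 2 := by nlinarith [two_mul_le_add_sq (a : ℤ) b]
      _ ≤ k ^ 2 := Nat.pow_le_pow_left hk 2
  have h5 : (60 * k) ^ 2 < (49 * p) ^ 2 := Nat.pow_lt_pow_left hlt two_ne_zero
  rw [mul_pow, mul_pow] at h5
  have : 4 ≤ p ^ 2 := le_trans (by norm_num) (Nat.pow_le_pow_left hp 2)
  omega

/-- `|G ⧸ A| = k(G ⧸ A)` when commutators lie in `A`. -/
theorem k_quotient_of_comm {G : Type} [Group G] [Finite G] (A : Subgroup G) [A.Normal]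
    (h : ∀ a b : G, a * b * a⁻¹ * b⁻¹ ∈ A) : k (G ⧸ A) = A.index := by
  rw [k_of_comm fun x y => ?_, Subgroup.index_eq_card]
  induction x using QuotientGroup.induction_on with | H a => ?_
  induction y using QuotientGroup.induction_on with | H b => ?_
  have := (QuotientGroup.eq_one_iff (N := A) _).2 (h a b)
  simp only [QuotientGroup.mk_mul, QuotientGroup.mk_inv] at this
  exact mul_inv_eq_iff_eq_mul.1 (mul_inv_eq_one.1 this)

section

variable {G : Type} [Group G] [Finite G] [Group.IsSolvable G] {p : ℕ} [Fact p.Prime]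

/-- In a reduced group nontrivial normal subgroups have order divisible by `p`. -/
theorem dvd_card_normal (hdvd : p ^ 2 ∣ Nat.card G)
    (hred : ∀ N : Subgroup G, N.Normal → N ≠ ⊥ → ¬ p ^ 2 ∣ N.index) (N : Subgroup G)
    (hN : N.Normal) (hN0 : N ≠ ⊥) : p ∣ Nat.card N := by
  by_contra h
  refine hred N hN hN0 ?_
  refine (Nat.Coprime.dvd_mul_left ?_).1 (N.card_mul_index ▸ hdvd)
  exact Nat.Coprime.pow_left 2 ((Fact.out : p.Prime).coprime_iff_not_dvd.2 h)

/-- The minimal normal subgroups of a reduced group have exponent `p`. -/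
theorem exp_min_normal (hdvd : p ^ 2 ∣ Nat.card G)
    (hred : ∀ N : Subgroup G, N.Normal → N ≠ ⊥ → ¬ p ^ 2 ∣ N.index) (V : Subgroup G) [V.Normal]
    (hV0 : V ≠ ⊥) (hmin : ∀ W : Subgroup G, W.Normal → W ≤ V → W = ⊥ ∨ W = V) :
    ∀ x ∈ V, x ^ p = 1 := by
  obtain ⟨-, q, hq, hexp⟩ := Cores.MinNormal.elementary_of_solvable hV0 hmin
  haveI := Fact.mk hq
  obtain ⟨n, hn⟩ := IsPGroup.iff_card.1 (Cores.MinNormal.isPGroup_of_pow_eq_one hexp)
  have h := dvd_card_normal hdvd hred V inferInstance hV0
  rw [hn] at h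
  rw [(Nat.prime_dvd_prime_iff_eq Fact.out hq).1 ((Fact.out : p.Prime).dvd_of_dvd_pow h)]
  exact hexp

/-- The Fitting subgroup of a reduced group is its `p`-core. -/
theorem fitting_eq_pCore (hdvd : p ^ 2 ∣ Nat.card G)
    (hred : ∀ N : Subgroup G, N.Normal → N ≠ ⊥ → ¬ p ^ 2 ∣ N.index) :
    fittingSubgroup G = pCore p G := by
  refine le_antisymm ?_ (Cores.pCore_le_fittingSubgroup p)
  rw [Cores.fittingSubgroup_eq_iSup_pCore]
  refine iSup_le fun q => ?_
  by_cases h : pCore (q : ℕ) G = ⊥
  · rw [h]; exact bot_le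
  haveI : Fact (q : ℕ).Prime := ⟨q.2⟩
  obtain ⟨n, hn⟩ := IsPGroup.iff_card.1 (Cores.pCore_isPGroup (G := G) (q : ℕ))
  have h2 := dvd_card_normal hdvd hred _ inferInstance h
  rw [hn] at h2
  rw [(Nat.prime_dvd_prime_iff_eq Fact.out q.2).1 ((Fact.out : p.Prime).dvd_of_dvd_pow h2)]

/-- A reduced group with a noncyclic minimal normal subgroup. -/
theorem bound_of_noncyclic (hdvd : p ^ 2 ∣ Nat.card G)
    (hred : ∀ N : Subgroup G, N.Normal → N ≠ ⊥ → ¬ p ^ 2 ∣ N.index) (V : Subgroup G) [V.Normal]
    (hV0 : V ≠ ⊥) (hmin : ∀ W : Subgroup G, W.Normal → W ≤ V → W = ⊥ ∨ W = V)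
    (hVp : Nat.card V ≠ p) : 49 * p ≤ 60 * k G := by
  classical
  have hpp : p.Prime := Fact.out
  have hexp := exp_min_normal hdvd hred V hV0 hmin
  haveI := Cores.MinNormal.isMulCommutative_of_solvable hV0 hmin
  obtain ⟨a, ha⟩ := IsPGroup.iff_card.1 (Cores.MinNormal.isPGroup_of_pow_eq_one hexp)
  have ha2 : 2 ≤ a := by
    by_contra hlt
    interval_cases a
    · exact hV0 (Subgroup.card_eq_one.1 (ha.trans (pow_zero p)))
    · exact hVp (ha.trans (pow_one p))
  -- `V` lies in every nontrivial normal subgroup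
  have huniq : ∀ W : Subgroup G, W.Normal → W ≠ ⊥ → V ≤ W := by
    intro W hW hW0
    haveI := hW
    rcases hmin (W ⊓ V) inferInstance inf_le_right with h | h
    · exfalso
      refine hred W hW hW0 (dvd_trans (pow_dvd_pow p ha2) ?_)
      refine dvd_trans (dvd_of_eq ?_) (Subgroup.relIndex_dvd_index_of_normal W V)
      rw [← Subgroup.inf_relIndex_right, h, Subgroup.relIndex_bot_left, ha]
    · exact h ▸ inf_le_left
  obtain ⟨W, _, _, _, _, σ, hWcard, hσker, hirr⟩ :=
    ClassLower.exists_conj_rep V hexp hmin hV0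
  haveI := finite_GL (L := ZMod p) (V := W)
  have hdim : finrank (ZMod p) W = a := by
    have h := Module.natCard_eq_pow_finrank (K := ZMod p) (V := W)
    rw [hWcard, ha, Nat.card_zmod] at h
    exact (Nat.pow_right_injective hpp.two_le h).symm
  by_cases hfr : V ≤ frattini G
  · exfalso
    haveI : Nontrivial G := (Finite.one_lt_card_iff_nontrivial).1
      (lt_of_lt_of_le (by norm_num) ((Nat.pow_le_pow_left hpp.two_le 2).trans
        (Nat.le_of_dvd Nat.card_pos hdvd)))
    have hVtop : V ≠ ⊤ := fun h => by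
      have h2 : frattini G = ⊤ := top_le_iff.1 (h ▸ hfr)
      exact Cores.fittingSubgroup_ne_bot (G := G) (by
        rw [← Subgroup.card_eq_one]
        obtain ⟨M, hM⟩ : ∃ M : Subgroup G, IsCoatom M :=
          (IsCoatomic.eq_top_or_exists_le_coatom (⊥ : Subgroup G)).elim
            (fun e => absurd e bot_ne_top) fun ⟨M, hM, _⟩ => ⟨M, hM⟩
        exact absurd (top_le_iff.1 (h2.ge.trans (iInf₂_le M hM))) hM.1)
    haveI : Nontrivial (G ⧸ V) := QuotientGroup.nontrivial_iff.2 hVtop
    set Fq := fittingSubgroup (G ⧸ V) with hFq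
    set K := Fq.comap (QuotientGroup.mk' V) with hK
    haveI : K.Normal := inferInstance
    have hVK : V ≤ K := fun v hv => by
      show QuotientGroup.mk' V v ∈ Fq
      rw [QuotientGroup.mk'_apply, (QuotientGroup.eq_one_iff v).2 hv]
      exact one_mem _
    have hmapK : K.map (QuotientGroup.mk' V) = Fq :=
      Subgroup.map_comap_eq_self_of_surjective (QuotientGroup.mk'_surjective V) _
    have hKnil : Group.IsNilpotent K := ClassLower.isNilpotent_of_le_frattini K V hfr hVK (by
      rw [hmapK]; exact Cores.fittingSubgroup_isNilpotent)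
    have hKp : IsPGroup p K := (Cores.pCore_isPGroup (G := G) p).to_le
      ((Cores.le_fittingSubgroup hKnil).trans (fitting_eq_pCore hdvd hred).le)
    have hFp : IsPGroup p Fq := hmapK ▸ hKp.map _
    obtain ⟨b, hb⟩ := IsPGroup.iff_card.1 hFp
    have hF : Nat.card Fq = p := by
      have hb1 : b ≠ 0 := fun e => Cores.fittingSubgroup_ne_bot (G := G ⧸ V)
        (Subgroup.card_eq_one.1 (by rw [← hFq, hb, e, pow_zero]))
      have hb2 : b < 2 := by
        by_contra hlt
        refine hred V inferInstance hV0 (dvd_trans ?_ (dvd_trans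
          (Subgroup.card_subgroup_dvd_card Fq) (dvd_of_eq (Subgroup.index_eq_card V).symm)))
        rw [hb]
        exact pow_dvd_pow p (by omega)
      rw [hb, show b = 1 by omega, pow_one]
    haveI : IsCyclic Fq := isCyclic_of_prime_card hF
    let φ : G →* MulAut Fq := MulAut.conjNormal.comp (QuotientGroup.mk' V)
    have hφK : ∀ g, φ g = 1 → g ∈ K := fun g hg =>
      Cores.centralizer_fittingSubgroup_le (conjNormal_eq_one (g := QuotientGroup.mk' V g) hg)
    have hKσ : K ≤ σ.ker := by
      rw [hσker]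
      haveI : (Subgroup.centralizer (K : Set G)).Normal := Subgroup.normal_centralizer
      have hne := exists_ne_one_centralized (P := K) (N := V) hKnil hVK hV0
      rcases hmin (V ⊓ Subgroup.centralizer (K : Set G)) inferInstance inf_le_left with h | h
      · exact absurd h hne
      · intro f hf
        exact Subgroup.mem_centralizer_iff.2 fun v hv =>
          (Subgroup.mem_centralizer_iff.1 (h.ge hv).2 f hf).symm
    have hone : ∀ g, φ g = 1 → σ g = 1 := fun g hg => hKσ (hφK g hg)
    -- the first element has an eigenvalue, so is a scalar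
    have hscal : ∀ g, ∃ c : ZMod p, ∀ w, σ g w = c • w := by
      intro g
      set T : Module.End (ZMod p) W := ((σ g : W ≃ₗ[ZMod p] W) : Module.End (ZMod p) W) with hT
      have hTpow : ∀ n : ℕ, T ^ n =
          ((σ (g ^ n) : W ≃ₗ[ZMod p] W) : Module.End (ZMod p) W) := by
        intro n
        induction n with
        | zero => rw [pow_zero, pow_zero, map_one]; rfl
        | succ n ihn => rw [pow_succ, ihn, pow_succ, map_mul]; rfl
      have hTp : T ^ p = T := by
        have h1 : σ (g ^ (p - 1)) = 1 := hone _ (by rw [map_pow]; exact mulAut_pow Fq hF _)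
        rw [hTpow]
        conv_lhs => rw [show g ^ p = g ^ (p - 1) * g by
          rw [← pow_succ, Nat.sub_add_cancel hpp.one_le]]
        rw [map_mul, h1, one_mul]
      obtain ⟨c, w, hw, hcw⟩ := exists_eigenvector T hTp
      refine ⟨c, fun u => ?_⟩
      let S : Submodule (ZMod p) W := LinearMap.ker (T - c • LinearMap.id)
      have hS : ∀ h ∈ σ.range, ∀ u ∈ S, h u ∈ S := by
        rintro _ ⟨h, rfl⟩ u hu
        simp only [S, LinearMap.mem_ker, LinearMap.sub_apply, LinearMap.smul_apply,
          LinearMap.id_apply, sub_eq_zero] at hu ⊢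
        have hc : σ (g * h) = σ (h * g) := by
          have h1 : σ (g * h * (h * g)⁻¹) = 1 := hone _ (by
            rw [map_mul, map_inv, map_mul, map_mul, mulAut_comm Fq (φ g) (φ h), mul_inv_cancel])
          rwa [map_mul σ, map_inv, mul_inv_eq_one] at h1
        calc T (σ h u) = σ (g * h) u := by rw [map_mul]; rfl
          _ = σ h (T u) := by rw [hc, map_mul]; rfl
          _ = c • σ h u := by rw [hu, map_smul]
      rcases hirr.2 S hS with h | h
      · exfalso
        have : w ∈ S := by simp [S, hcw]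
        rw [h, Submodule.mem_bot] at this
        exact hw this
      · have : u ∈ S := h ▸ Submodule.mem_top
        simpa [S, sub_eq_zero, hT] using this
    obtain ⟨w, hw⟩ := exists_ne (0 : W)
    rcases hirr.2 ((ZMod p) ∙ w) (by
      rintro _ ⟨g, rfl⟩ u hu
      obtain ⟨c, hc⟩ := hscal g
      rw [hc]
      exact Submodule.smul_mem _ c hu) with h | h
    · exact hw (by simpa using h)
    · have h2 := finrank_span_singleton (K := ZMod p) hw
      rw [h, finrank_top] at h2
      omega
  obtain ⟨M, hM, hVM⟩ : ∃ M : Subgroup G, IsCoatom M ∧ ¬ V ≤ M := by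
    by_contra hall
    push Not at hall
    exact hfr (le_iInf₂ fun M hM => hall M hM)
  have hcompl := Cores.MinNormal.isComplement'_of_not_le hM hmin hVM
  set C := Subgroup.centralizer (V : Set G) with hC
  haveI : C.Normal := Subgroup.normal_centralizer
  have hVC : V ≤ C := fun v hv => Subgroup.mem_centralizer_iff.2 fun w hw =>
    congrArg Subtype.val (mul_comm' (⟨w, hw⟩ : V) ⟨v, hv⟩)
  have hN : (M ⊓ C).Normal := by
    refine ⟨fun n hn g => ?_⟩
    obtain ⟨⟨v, m⟩, hvm⟩ := hcompl.2 g
    rw [← hvm]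
    have h1 : (m : G) * n * (m : G)⁻¹ ∈ M ⊓ C :=
      ⟨M.mul_mem (M.mul_mem m.2 hn.1) (M.inv_mem m.2),
        (inferInstance : C.Normal).conj_mem n hn.2 m⟩
    have h2 := Subgroup.mem_centralizer_iff.1 h1.2 v v.2
    have h3 : ((v : G) * m) * n * ((v : G) * m)⁻¹ =
        (v : G) * ((m : G) * n * (m : G)⁻¹) * (v : G)⁻¹ := by group
    rw [h3, h2, mul_inv_cancel_right]
    exact h1
  have hbot : M ⊓ C = ⊥ := by
    by_contra h
    exact hVM ((huniq _ hN h).trans inf_le_left)
  have hCV : C = V := by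
    refine le_antisymm (fun x hx => ?_) hVC
    obtain ⟨⟨v, m⟩, hvm⟩ := hcompl.2 x
    have hmC : (m : G) ∈ C := by
      rw [show (m : G) = (v : G)⁻¹ * x by rw [← hvm]; group]
      exact C.mul_mem (C.inv_mem (hVC v.2)) hx
    have hm1 : (m : G) ∈ M ⊓ C := ⟨m.2, hmC⟩
    rw [hbot, Subgroup.mem_bot] at hm1
    rw [← hvm]
    show (v : G) * m ∈ V
    rw [hm1, mul_one]
    exact v.2
  obtain ⟨c, hc, hc'⟩ := Counting.exists_classes V V fun x hx g hg =>
    congrArg Subtype.val (mul_comm' (⟨g, hg⟩ : V) ⟨x, hx⟩)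
  rw [hCV] at hσker
  have hk : k σ.range = k (G ⧸ V) :=
    (k_congr ((QuotientGroup.quotientMulEquivOfEq hσker.symm).trans
      (QuotientGroup.quotientKerEquivRange σ))).symm
  have hcard : Nat.card σ.range = V.index := by rw [← hσker, Subgroup.index_ker]
  have h := linear_bound σ.range (Group.isSolvable_of_surjective σ.rangeRestrict_surjective) hirr
    (hdim ▸ ha2) (c := c) (by rw [hdim, hcard, ← ha]; exact hc')
  rw [hk] at h
  omega

/-- A reduced group all of whose minimal normal subgroups have order `p`. -/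
theorem bound_of_cyclic (hdvd : p ^ 2 ∣ Nat.card G)
    (hred : ∀ N : Subgroup G, N.Normal → N ≠ ⊥ → ¬ p ^ 2 ∣ N.index) (V : Subgroup G) [V.Normal]
    (hV0 : V ≠ ⊥) (hmin : ∀ W : Subgroup G, W.Normal → W ≤ V → W = ⊥ ∨ W = V)
    (hVp : Nat.card V = p) : 49 * p ≤ 60 * k G := by
  classical
  have hpp : p.Prime := Fact.out
  have hsq : ¬ p ^ 3 ∣ Nat.card G := by
    intro h
    rw [← V.card_mul_index, hVp, pow_succ', Nat.mul_dvd_mul_iff_left hpp.pos] at h
    exact hred V inferInstance hV0 h
  set P := pCore p G with hP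
  haveI : P.Normal := inferInstance
  have hPp : IsPGroup p P := Cores.pCore_isPGroup p
  have hCP : Subgroup.centralizer (P : Set G) ≤ P := by
    have h := Cores.centralizer_fittingSubgroup_le (G := G)
    rwa [fitting_eq_pCore hdvd hred, ← hP] at h
  have hVP : V ≤ P :=
    Cores.le_pCore (Cores.MinNormal.isPGroup_of_pow_eq_one (exp_min_normal hdvd hred V hV0 hmin))
  obtain ⟨b, hb⟩ := IsPGroup.iff_card.1 hPp
  have hb2 : b ≤ 2 := by
    by_contra hlt
    exact hsq (dvd_trans (pow_dvd_pow p (by omega))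
      (hb ▸ Subgroup.card_subgroup_dvd_card P))
  have hb1 : b ≠ 0 := fun e => hV0 (le_bot_iff.1 (hVP.trans
    (Subgroup.card_eq_one.1 (by rw [hb, e, pow_zero])).le))
  have hb' : b = 2 := by
    by_contra hne
    obtain rfl : b = 1 := by omega
    rw [pow_one] at hb
    haveI : IsCyclic P := isCyclic_of_prime_card hb
    have hker : P.index ∣ p - 1 := by
      let ψ : G →* MulAut P := MulAut.conjNormal
      have h1 : ψ.ker ≤ P := fun g hg => hCP (conjNormal_eq_one hg)
      refine (Subgroup.index_dvd_of_le h1).trans ?_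
      rw [Subgroup.index_ker]
      refine (Subgroup.card_subgroup_dvd_card ψ.range).trans (dvd_of_eq ?_)
      rw [Nat.card_congr (IsCyclic.mulAutMulEquiv P).toEquiv, hb, Nat.card_eq_fintype_card,
        ZMod.card_units]
    rw [← P.card_mul_index, hb, sq, Nat.mul_dvd_mul_iff_left hpp.pos] at hdvd
    have := Nat.le_of_dvd (by have := hpp.two_le; omega) (hdvd.trans hker)
    have := hpp.two_le
    omega
  subst hb'
  have hcop : ¬ p ∣ P.index := fun h => hsq (by
    rw [← P.card_mul_index, hb, pow_succ]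
    exact Nat.mul_dvd_mul_left _ h)
  haveI : IsMulCommutative P := IsPGroup.isMulCommutative_of_card_eq_prime_sq hb
  haveI : IsCyclic V := isCyclic_of_prime_card hVp
  set Pq := P.map (QuotientGroup.mk' V) with hPq
  haveI : Pq.Normal := Subgroup.Normal.map inferInstance _ (QuotientGroup.mk'_surjective V)
  have hPqcard : Nat.card Pq = p := by
    rw [hPq, ← Subgroup.relIndex_ker P (QuotientGroup.mk' V), QuotientGroup.ker_mk']
    have h := (V.subgroupOf P).card_mul_index
    rw [Nat.card_congr (Subgroup.subgroupOfEquivOfLe hVP).toEquiv, hVp, hb, sq] at h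
    exact Nat.eq_of_mul_eq_mul_left hpp.pos h
  haveI : IsCyclic Pq := isCyclic_of_prime_card hPqcard
  let φ₁ : G →* MulAut V := MulAut.conjNormal
  let φ₂ : G →* MulAut Pq := MulAut.conjNormal.comp (QuotientGroup.mk' V)
  have hker : ∀ g, φ₁ g = 1 → φ₂ g = 1 → g ∈ P := by
    intro g h1 h2
    have hgV := Subgroup.mem_centralizer_iff.1 (conjNormal_eq_one h1)
    have hgP := Subgroup.mem_centralizer_iff.1 (conjNormal_eq_one (g := QuotientGroup.mk' V g) h2)
    have hgp : g ^ p ∈ P := hCP (Subgroup.mem_centralizer_iff.2 fun x hx => by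
      set δ := g * x * g⁻¹ * x⁻¹ with hδ
      have hδV : δ ∈ V := by
        rw [← QuotientGroup.eq_one_iff, hδ]
        simp only [QuotientGroup.mk_mul, QuotientGroup.mk_inv]
        have h3 : (x : G ⧸ V) * (g : G ⧸ V) = (g : G ⧸ V) * (x : G ⧸ V) :=
          hgP (x : G ⧸ V) ⟨x, hx, rfl⟩
        rw [← h3, mul_inv_cancel_right, mul_inv_cancel]
      have hstep : ∀ i : ℕ, g ^ i * x * (g ^ i)⁻¹ = δ ^ i * x := by
        intro i
        induction i with
        | zero => simp
        | succ i ih =>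
          calc g ^ (i + 1) * x * (g ^ (i + 1))⁻¹ = g * (g ^ i * x * (g ^ i)⁻¹) * g⁻¹ := by
                rw [pow_succ' g]; group
            _ = (g * δ ^ i) * x * g⁻¹ := by rw [ih]; group
            _ = (δ ^ i * g) * x * g⁻¹ := by rw [hgV _ (V.pow_mem hδV i)]
            _ = δ ^ i * (g * x * g⁻¹ * x⁻¹) * x := by group
            _ = δ ^ (i + 1) * x := by rw [← hδ, pow_succ]
      have h4 := hstep p
      rw [exp_min_normal hdvd hred V hV0 hmin δ hδV, one_mul] at h4
      exact (mul_inv_eq_iff_eq_mul.1 h4).symm)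
    have hord : orderOf (g : G ⧸ P) ∣ p := orderOf_dvd_of_pow_eq_one (by
      rw [← QuotientGroup.mk_pow, QuotientGroup.eq_one_iff]; exact hgp)
    rcases (Nat.dvd_prime hpp).1 hord with h | h
    · exact (QuotientGroup.eq_one_iff g).1 (orderOf_eq_one_iff.1 h)
    · exact absurd (by rw [Subgroup.index_eq_card, ← h]; exact orderOf_dvd_natCard _) hcop
  have hcomm : ∀ a b : G, a * b * a⁻¹ * b⁻¹ ∈ P := fun a b => hker _
    (by rw [map_mul, map_mul, map_mul, map_inv, map_inv, mulAut_comm V (φ₁ a) (φ₁ b),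
      mul_inv_cancel_right, mul_inv_cancel])
    (by rw [map_mul, map_mul, map_mul, map_inv, map_inv, mulAut_comm Pq (φ₂ a) (φ₂ b),
      mul_inv_cancel_right, mul_inv_cancel])
  obtain ⟨c, hc, hc'⟩ := Counting.exists_classes P P fun x hx g hg =>
    congrArg Subtype.val (mul_comm' (⟨g, hg⟩ : P) ⟨x, hx⟩)
  rw [k_quotient_of_comm P hcomm] at hc
  rw [hb] at hc'
  exact bound_of_prod hpp.two_le hc' hc

end

/-- The theorem for groups in the lowest universe. -/
theorem forty_nine (p : ℕ) [Fact p.Prime] : ∀ (n : ℕ) (G : Type) [Group G] [Finite G]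
    [Group.IsSolvable G], Nat.card G = n → p ^ 2 ∣ Nat.card G → 49 * p ≤ 60 * k G := by
  classical
  intro n
  induction n using Nat.strong_induction_on with | _ n ih => ?_
  intro G _ _ _ hn hp
  subst hn
  by_cases hex : ∃ (N : Subgroup G) (_ : N.Normal), N ≠ ⊥ ∧ p ^ 2 ∣ N.index
  · obtain ⟨N, _, hN, hNp⟩ := hex
    refine (ih _ ?_ (G ⧸ N) rfl (hNp.trans (dvd_of_eq (Subgroup.index_eq_card N)))).trans
      (Nat.mul_le_mul_left _ (Counting.k_quotient_le N))
    rw [N.card_eq_card_quotient_mul_card_subgroup]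
    exact lt_mul_of_one_lt_right Nat.card_pos ((Subgroup.one_lt_card_iff_ne_bot _).2 hN)
  have hred : ∀ N : Subgroup G, N.Normal → N ≠ ⊥ → ¬ p ^ 2 ∣ N.index :=
    fun N h1 h2 h3 => hex ⟨N, h1, h2, h3⟩
  haveI : Nontrivial G := Finite.one_lt_card_iff_nontrivial.1
    (lt_of_lt_of_le (by norm_num) ((Nat.pow_le_pow_left (Fact.out : p.Prime).two_le 2).trans
      (Nat.le_of_dvd Nat.card_pos hp)))
  obtain ⟨V, hVn, hV0, hmin⟩ := Cores.MinNormal.exists_minimal (G := G)
  haveI := hVn
  by_cases hVp : Nat.card V = p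
  · exact bound_of_cyclic hp hred V hV0 hmin hVp
  · exact bound_of_noncyclic hp hred V hV0 hmin hVp

end Cfsg.Agent.Lib.SolvClass.FortyNine
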