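import Cfsg.Agent.Lib.SolvClass.ClassWeights

/-!
# `49 p ≤ 60 (k(H) + c)` for soluble irreducible linear groups `H`

Here `p ^ n - 1 ≤ c · |H|`, as holds for the orbits of `H` on the module.
-/

set_option autoImplicit false
set_option linter.style.haveILetI false
set_option linter.unusedSectionVars false

namespace Cfsg.Agent.Lib.SolvClass.FortyNine

open Module Cfsg.Agent.Lib.SolvClass ClassSize ClassWeights

/-! ### Arithmetic -/

/-- The weight `w` suffices in degree `n`. -/
def Good (p n w : ℕ) : Prop := ∀ K : ℕ, 60 * K < 49 * p → K ^ 2 * w < 4 * (p ^ n - 1)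

theorem good_of_le {p n w : ℕ} (hp : 11 ≤ p) (hn : 2 ≤ n) (h : 10 * w ≤ 59 * p ^ (n - 2)) :
    Good p n w := by
  intro K hK
  have hpn : 121 ≤ p ^ n := by
    calc 121 = 11 ^ 2 := by norm_num
      _ ≤ p ^ 2 := Nat.pow_le_pow_left hp 2
      _ ≤ p ^ n := Nat.pow_le_pow_right (by omega) hn
  have hsplit : p ^ n = p ^ 2 * p ^ (n - 2) := by rw [← pow_add]; congr 1; omega
  have h1 : 36000 * (K ^ 2 * w) ≤ 141659 * p ^ n := by
    calc 36000 * (K ^ 2 * w) = (60 * K) ^ 2 * (10 * w) := by ring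
      _ ≤ (49 * p) ^ 2 * (59 * p ^ (n - 2)) :=
          Nat.mul_le_mul (Nat.pow_le_pow_left hK.le 2) h
      _ = _ := by rw [hsplit]; ring
  omega

theorem good_eleven {n w : ℕ} (h : 64 * w < 4 * (11 ^ n - 1)) : Good 11 n w := by
  intro K hK
  refine lt_of_le_of_lt (Nat.mul_le_mul_right w ?_) h
  calc K ^ 2 ≤ 8 ^ 2 := Nat.pow_le_pow_left (by omega) 2
    _ = 64 := by norm_num

theorem Good.mono {p n w w' : ℕ} (h : Good p n w) (hw : w' ≤ w) : Good p n w' :=
  fun K hK => lt_of_le_of_lt (Nat.mul_le_mul_left _ hw) (h K hK)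

theorem step_mul {a b s s' : ℕ} (h : a ≤ b) (hs : s ≤ s') : a * s ≤ b * s' := Nat.mul_le_mul h hs

theorem arith_one (i : ℕ) : 10 * 9 ^ (i + 5) ≤ 59 * 11 ^ (i + 4) := by
  induction i with
  | zero => norm_num
  | succ i ih =>
    rw [show i + 1 + 5 = i + 5 + 1 by ring, show i + 1 + 4 = i + 4 + 1 by ring, pow_succ 9,
      pow_succ 11, ← mul_assoc, ← mul_assoc]
    exact step_mul ih (by norm_num)

theorem arith_five (i : ℕ) : 50 * 45 ^ i ≤ 59 * 121 ^ i :=
  Nat.mul_le_mul (by norm_num) (Nat.pow_le_pow_left (by norm_num) i)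

theorem arith_twelve (i : ℕ) : 10 * (9 ^ (i + 2) * 12 ^ (i + 3)) ≤ 59 * 169 ^ (i + 2) := by
  induction i with
  | zero => norm_num
  | succ i ih =>
    have h := step_mul ih (show 108 ≤ 169 by norm_num)
    calc 10 * (9 ^ (i + 1 + 2) * 12 ^ (i + 1 + 3))
        = 10 * (9 ^ (i + 2) * 12 ^ (i + 3)) * 108 := by ring
      _ ≤ _ := h
      _ = _ := by ring

theorem arith_twelve' (i : ℕ) : 16 * (9 ^ (i + 5) * 12 ^ (i + 6)) + 1 < 121 ^ (i + 6) := by
  induction i with
  | zero => norm_num
  | succ i ih =>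
    calc 16 * (9 ^ (i + 1 + 5) * 12 ^ (i + 1 + 6)) + 1
        = 108 * (16 * (9 ^ (i + 5) * 12 ^ (i + 6))) + 1 := by ring
      _ < 108 * (16 * (9 ^ (i + 5) * 12 ^ (i + 6)) + 1) + 1 := by omega
      _ ≤ 121 * (16 * (9 ^ (i + 5) * 12 ^ (i + 6)) + 1) := by omega
      _ ≤ 121 * 121 ^ (i + 6) := Nat.mul_le_mul_left _ ih.le
      _ = _ := by ring

theorem arith_big (i : ℕ) : 10 * (9 ^ (i + 1) * 108 ^ (i + 2)) ≤ 59 * (13 ^ 4 * 2197 ^ i) := by
  induction i with
  | zero => norm_num
  | succ i ih =>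
    have h := step_mul ih (show 972 ≤ 2197 by norm_num)
    calc 10 * (9 ^ (i + 1 + 1) * 108 ^ (i + 1 + 2))
        = 10 * (9 ^ (i + 1) * 108 ^ (i + 2)) * 972 := by ring
      _ ≤ _ := h
      _ = _ := by ring

/-- All families with at least two blocks are good. -/
theorem good_blocks {p t m W : ℕ} (hp : p.Prime) (hp11 : 11 ≤ p) (ht : 2 ≤ t)
    (hW : BlockW p m W) : Good p (t * m) (P t * W ^ t) := by
  rcases hW with ⟨rfl, rfl⟩ | ⟨rfl, rfl⟩ | ⟨rfl, rfl, hp13⟩ | ⟨hm, hW⟩
  · rw [mul_one, one_pow, mul_one]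
    refine good_of_le hp11 ht ?_
    refine le_trans ?_ (Nat.mul_le_mul_left 59 (Nat.pow_le_pow_left hp11 _))
    rcases (show t = 2 ∨ t = 3 ∨ t = 4 ∨ t = 5 ∨ 6 ≤ t by omega) with rfl | rfl | rfl | rfl | h
    · norm_num [P]
    · norm_num [P]
    · norm_num [P]
    · norm_num [P]
    · obtain ⟨i, rfl⟩ : ∃ i, t = i + 6 := ⟨t - 6, by omega⟩
      exact arith_one i
  · rcases (show t = 2 ∨ t = 3 ∨ 4 ≤ t by omega) with rfl | rfl | h
    · refine good_of_le hp11 (by norm_num) ?_
      refine le_trans ?_ (Nat.mul_le_mul_left 59 (Nat.pow_le_pow_left hp11 _))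
      norm_num [P]
    · refine good_of_le hp11 (by norm_num) ?_
      refine le_trans ?_ (Nat.mul_le_mul_left 59 (Nat.pow_le_pow_left hp11 _))
      norm_num [P]
    by_cases h11 : p = 11
    · subst h11
      refine good_eleven ?_
      rcases (show t = 4 ∨ t = 5 ∨ 6 ≤ t by omega) with rfl | rfl | h6
      · norm_num [P]
      · norm_num [P]
      · obtain ⟨i, rfl⟩ : ∃ i, t = i + 6 := ⟨t - 6, by omega⟩
        have h2 := arith_twelve' i
        rw [mul_comm (i + 6) 2, pow_mul 11, show (11 : ℕ) ^ 2 = 121 by norm_num]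
        show 64 * (9 ^ (i + 5) * 12 ^ (i + 6)) < _
        omega
    · have hp13 : 13 ≤ p := by
        have h12 : p ≠ 12 := fun e => by rw [e] at hp; norm_num at hp
        omega
      refine good_of_le hp11 (by omega) ?_
      obtain ⟨i, rfl⟩ : ∃ i, t = i + 3 := ⟨t - 3, by omega⟩
      refine le_trans ?_ (Nat.mul_le_mul_left 59 (Nat.pow_le_pow_left hp13 _))
      rw [show (i + 3) * 2 - 2 = 2 * (i + 2) by omega, pow_mul 13,
        show (13 : ℕ) ^ 2 = 169 by norm_num]
      refine le_trans (Nat.mul_le_mul_left _ (Nat.mul_le_mul_right _ (P_le _ (by omega)))) ?_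
      rw [show i + 3 - 1 = i + 2 by omega]
      exact arith_twelve i
  · refine good_of_le hp11 (by omega) ?_
    obtain ⟨i, rfl⟩ : ∃ i, t = i + 2 := ⟨t - 2, by omega⟩
    refine le_trans ?_ (Nat.mul_le_mul_left 59 (Nat.pow_le_pow_left hp13 _))
    rw [show (i + 2) * 3 - 2 = 4 + 3 * i by omega, pow_add 13, pow_mul 13,
      show (13 : ℕ) ^ 3 = 2197 by norm_num]
    refine le_trans (Nat.mul_le_mul_left _ (Nat.mul_le_mul_right _ (P_le _ (by omega)))) ?_
    rw [show i + 2 - 1 = i + 1 by omega]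
    exact arith_big i
  · refine good_of_le hp11 (le_trans hm (Nat.le_mul_of_pos_left m (by omega))) ?_
    obtain ⟨m, rfl⟩ : ∃ j, m = j + 2 := ⟨m - 2, by omega⟩
    obtain ⟨i, rfl⟩ : ∃ i, t = i + 1 := ⟨t - 1, by omega⟩
    rw [Nat.add_sub_cancel] at hW
    have e : (i + 1) * (m + 2) - 2 = 2 * i + m * (i + 1) := by
      have : (i + 1) * (m + 2) = 2 * i + m * (i + 1) + 2 := by ring
      omega
    rw [e, pow_add p, pow_mul p 2, pow_mul p m]
    calc 10 * (P (i + 1) * W ^ (i + 1)) ≤ 10 * (9 ^ i * (5 * p ^ m) ^ (i + 1)) :=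
          Nat.mul_le_mul_left _ (Nat.mul_le_mul (P_le _ (by omega)) (Nat.pow_le_pow_left hW _))
      _ = 50 * 45 ^ i * (p ^ m) ^ (i + 1) := by
          rw [mul_pow, show (45 : ℕ) = 9 * 5 by norm_num, mul_pow]; ring
      _ ≤ 59 * 121 ^ i * (p ^ m) ^ (i + 1) := Nat.mul_le_mul_right _ (arith_five i)
      _ ≤ 59 * (p ^ 2) ^ i * (p ^ m) ^ (i + 1) := Nat.mul_le_mul_right _ (Nat.mul_le_mul_left _
          (Nat.pow_le_pow_left (le_trans (by norm_num) (Nat.pow_le_pow_left hp11 2)) i))
      _ = _ := by ring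

/-- The conclusion from a good weight. -/
theorem bound_of_good {H : Type} [Group H] [Finite H] {p n w c : ℕ} (hw : Wt H w)
    (hg : Good p n w) (hc : p ^ n - 1 ≤ c * Nat.card H) : 49 * p ≤ 60 * (k H + c) := by
  by_contra hlt
  have h1 := hg (k H + c) (by omega)
  have h2 : 4 * (p ^ n - 1) ≤ (k H + c) ^ 2 * w := by
    calc 4 * (p ^ n - 1) ≤ 4 * (c * (w * k H)) :=
          Nat.mul_le_mul_left _ (hc.trans (Nat.mul_le_mul_left _ hw.card_le))
      _ = 4 * c * k H * w := by ring
      _ ≤ (k H + c) ^ 2 * w := Nat.mul_le_mul_right _ (by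
          nlinarith [two_mul_le_add_sq (c : ℤ) (k H)])
  omega

/-! ### Degree two -/

section

variable {H : Type} [Group H] [Finite H] {A E : Subgroup H}

/-- An element of order at least `r` modulo a central subgroup has a large centraliser. -/
theorem mul_card_le_centralizer (hA : ∀ a ∈ A, ∀ g : H, g * a = a * g) (h : H) (r : ℕ)
    (hr : ∀ i, 0 < i → i < r → h ^ i ∉ A) :
    r * Nat.card A ≤ Nat.card (Subgroup.centralizer ({h} : Set H)) := by
  let f : Fin r × A → Subgroup.centralizer ({h} : Set H) := fun x =>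
    ⟨h ^ (x.1 : ℕ) * (x.2 : H), Subgroup.mem_centralizer_singleton_iff.2 (by
      have e1 := hA x.2 x.2.2 h
      calc h ^ (x.1 : ℕ) * (x.2 : H) * h = h ^ (x.1 : ℕ) * (h * x.2) := by rw [mul_assoc, e1]
        _ = h * (h ^ (x.1 : ℕ) * x.2) := by rw [← mul_assoc, ← pow_succ, pow_succ', mul_assoc])⟩
  have hf : Function.Injective f := by
    rintro ⟨i, a⟩ ⟨j, b⟩ hxy
    have e : h ^ (i : ℕ) * (a : H) = h ^ (j : ℕ) * (b : H) := congrArg Subtype.val hxy
    have key : ∀ {i j : Fin r} {a b : A}, h ^ (i : ℕ) * (a : H) = h ^ (j : ℕ) * (b : H) →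
        (i : ℕ) < j → False := by
      intro i j a b e hij
      refine hr ((j : ℕ) - i) (by omega) (by omega) ?_
      have e2 : h ^ ((j : ℕ) - i) = (a : H) * (b : H)⁻¹ := by
        rw [eq_mul_inv_iff_mul_eq]
        refine mul_left_cancel (a := h ^ (i : ℕ)) ?_
        rw [← mul_assoc, ← pow_add, show (i : ℕ) + ((j : ℕ) - i) = j by omega, e]
      rw [e2]
      exact A.mul_mem a.2 (A.inv_mem b.2)
    rcases lt_trichotomy (i : ℕ) j with h1 | h1 | h1
    · exact (key e h1).elim
    · obtain rfl : i = j := Fin.ext h1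
      exact Prod.ext rfl (Subtype.ext (mul_left_cancel e))
    · exact (key e.symm h1).elim
  refine le_trans (le_of_eq ?_) (Nat.card_le_card_of_injective f hf)
  rw [Nat.card_prod, Nat.card_fin]

variable {p : ℕ}

/-- Classes in `E ∖ A` have at most six elements. -/
theorem index_centralizer_le_six (hS : Small p 2 A E) {e : H} (he : e ∈ E) (heA : e ∉ A) :
    (Subgroup.centralizer ({e} : Set H)).index ≤ 6 := by
  classical
  haveI := Fintype.ofFinite H
  haveI := hS.A_normal
  set C := Subgroup.centralizer ({e} : Set H)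
  let S : Finset H := Finset.univ.filter fun y => y ∈ E ∧ y ∉ A ∧ y ^ 2 = e ^ 2
  haveI := Fintype.ofFinite (H ⧸ C)
  haveI := Fintype.ofFinite (H ⧸ A)
  let φ : H ⧸ C → H := Quotient.lift (fun g : H => g * e * g⁻¹) (by
    intro g g' hgg
    rw [← Quotient.eq_iff_equiv, QuotientGroup.eq] at hgg
    have h := Subgroup.mem_centralizer_singleton_iff.1 hgg
    calc g * e * g⁻¹ = g * (e * (g⁻¹ * g')) * g'⁻¹ := by group
      _ = g * ((g⁻¹ * g') * e) * g'⁻¹ := by rw [h]
      _ = g' * e * g'⁻¹ := by group)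
  have hinj : Function.Injective φ := by
    intro a b hab
    induction a using QuotientGroup.induction_on with | H g => ?_
    induction b using QuotientGroup.induction_on with | H g' => ?_
    rw [QuotientGroup.eq, Subgroup.mem_centralizer_singleton_iff]
    have h1 : g * e * g⁻¹ = g' * e * g'⁻¹ := hab
    calc g⁻¹ * g' * e = g⁻¹ * (g' * e * g'⁻¹) * g' := by group
      _ = g⁻¹ * (g * e * g⁻¹) * g' := by rw [h1]
      _ = _ := by group
  have himg : ∀ a, φ a ∈ S := by
    intro a
    induction a using QuotientGroup.induction_on with | H g => ?_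
    refine Finset.mem_filter.2 ⟨Finset.mem_univ _, hS.E_normal.conj_mem e he g, fun h => heA ?_, ?_⟩
    · have h2 := hS.A_normal.conj_mem _ h g⁻¹
      have e2 : g⁻¹ * (g * e * g⁻¹) * g⁻¹⁻¹ = e := by group
      change g⁻¹ * (g * e * g⁻¹) * g⁻¹⁻¹ ∈ A at h2
      rwa [e2] at h2
    · show (g * e * g⁻¹) ^ 2 = e ^ 2
      rw [conj_pow, hS.central _ (hS.pow_mem e he) g, mul_inv_cancel_right]
  have h1 : C.index ≤ S.card := by
    rw [Subgroup.index_eq_card, Nat.card_eq_fintype_card]
    exact Finset.card_le_card_of_injOn φ (fun a _ => himg a) hinj.injOn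
  refine h1.trans ?_
  let T : Finset (H ⧸ A) :=
    (Finset.univ.filter fun q => q ∈ E.map (QuotientGroup.mk' A)).erase 1
  have hT : T.card = 3 := by
    have h4 : Nat.card (E.map (QuotientGroup.mk' A)) = 4 := by
      rw [← Subgroup.relIndex_ker E (QuotientGroup.mk' A), QuotientGroup.ker_mk', hS.relIndex]
      norm_num
    rw [Finset.card_erase_of_mem (Finset.mem_filter.2 ⟨Finset.mem_univ _, one_mem _⟩),
      ← Fintype.card_subtype, ← Nat.card_eq_fintype_card]
    exact congrArg (· - 1) h4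
  rw [show (6 : ℕ) = 2 * T.card by rw [hT]]
  refine Finset.card_le_mul_card_image_of_maps_to
    (f := fun y : H => (y : H ⧸ A)) (fun y hy => ?_) 2 fun q _ => ?_
  · obtain ⟨-, hyE, hyA, -⟩ := Finset.mem_filter.1 hy
    exact Finset.mem_erase.2 ⟨fun h => hyA ((QuotientGroup.eq_one_iff y).1 h),
      Finset.mem_filter.2 ⟨Finset.mem_univ _, y, hyE, rfl⟩⟩
  · by_contra hlt
    obtain ⟨y₁, y₂, y₃, h1, h2, h3, h12, h13, h23⟩ := Finset.two_lt_card_iff.1 (not_le.1 hlt)
    simp only [S, Finset.mem_filter, Finset.mem_univ, true_and] at h1 h2 h3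
    have hsq : ∀ y : H, (y : H ⧸ A) = q → y ^ 2 = e ^ 2 → y₁⁻¹ * y ∈ A ∧ (y₁⁻¹ * y) ^ 2 = 1 := by
      intro y hy hy2
      have hA' : y₁⁻¹ * y ∈ A := QuotientGroup.eq.1 (h1.2.trans hy.symm)
      refine ⟨hA', ?_⟩
      have hcomm : Commute y₁ (y₁⁻¹ * y) := hS.central _ hA' y₁
      have := hcomm.mul_pow 2
      rw [mul_inv_cancel_left, hy2, ← h1.1.2.2] at this
      exact mul_eq_left.1 this.symm
    obtain ⟨ha, ha2⟩ := hsq y₂ h2.2 h2.1.2.2
    obtain ⟨hb, hb2⟩ := hsq y₃ h3.2 h3.1.2.2
    exact h23 (mul_left_cancel (hS.roots _ ha _ hb ha2 hb2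
      (fun h => h12 (inv_mul_eq_one.1 h)) fun h => h13 (inv_mul_eq_one.1 h)))

/-- The class number in degree two. -/
theorem small_two_classes (hS : Small p 2 A E) :
    4 ∣ A.index ∧ (A.index = 24 → 4 * Nat.card A ≤ k H) ∧
      Nat.card A * (4 * A.index - 6) ≤ k H * A.index := by
  classical
  haveI := Fintype.ofFinite H
  haveI := hS.A_normal
  haveI := hS.E_normal
  set z := Nat.card A with hz
  set N := A.index with hN
  have h4 : A.relIndex E = 4 := by rw [hS.relIndex]; norm_num
  have hN4 : N = 4 * E.index := by rw [hN, ← Subgroup.relIndex_mul_index hS.le, h4]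
  have hcard : Nat.card H = N * z := by rw [mul_comm, hz, hN, A.card_mul_index]
  let f : H → ℕ := fun h => Nat.card (Subgroup.centralizer ({h} : Set H))
  have hEz : Nat.card E = 4 * z := by
    rw [hz, ← h4, mul_comm, Subgroup.relIndex, ← (A.subgroupOf E).card_mul_index,
      Nat.card_congr (Subgroup.subgroupOfEquivOfLe hS.le).toEquiv]
  -- the three parts
  let SA : Finset H := Finset.univ.filter fun h => h ∈ A
  let SE : Finset H := Finset.univ.filter fun h => h ∈ E ∧ h ∉ A
  let SO : Finset H := Finset.univ.filter fun h => h ∉ E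
  have hSA : SA.card = z := by
    rw [hz, Nat.card_eq_fintype_card]; exact (Fintype.card_subtype _).symm
  have hSE' : SA.card + SE.card = 4 * z := by
    rw [← hEz, Nat.card_eq_fintype_card]
    refine Eq.trans ?_ (Fintype.card_subtype _).symm
    rw [← Finset.card_filter_add_card_filter_not (s := Finset.univ.filter fun h => h ∈ E)
      (fun h => h ∈ A), Finset.filter_filter, Finset.filter_filter]
    congr 2
    ext h
    simp only [SA, Finset.mem_filter, Finset.mem_univ, true_and]
    exact ⟨fun h' => ⟨hS.le h', h'⟩, fun h' => h'.2⟩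
  have hSO : SA.card + SE.card + SO.card = N * z := by
    have hE' : (Finset.univ.filter fun h => h ∈ E).card = Nat.card E := by
      rw [Nat.card_eq_fintype_card]; exact (Fintype.card_subtype _).symm
    rw [hSE', ← hcard, Nat.card_eq_fintype_card, ← Finset.card_univ,
      ← Finset.card_filter_add_card_filter_not (s := (Finset.univ : Finset H)) (fun h => h ∈ E),
      hE', hEz]
  have hsum : k H * (N * z) = ∑ h ∈ SA, f h + ∑ h ∈ SE, f h + ∑ h ∈ SO, f h := by
    rw [← hcard, k_mul_card_eq_sum,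
      ← Finset.sum_filter_add_sum_filter_not (Finset.univ : Finset H) (fun h => h ∈ E),
      ← Finset.sum_filter_add_sum_filter_not (Finset.univ.filter fun h => h ∈ E) (fun h => h ∈ A),
      Finset.filter_filter, Finset.filter_filter]
    congr 2
    refine Finset.sum_congr ?_ fun _ _ => rfl
    ext h
    simp only [SA, Finset.mem_filter, Finset.mem_univ, true_and]
    exact ⟨fun h' => h'.2, fun h' => ⟨hS.le h', h'⟩⟩
  -- the elements of `A`
  have hfA : z * (N * z) ≤ ∑ h ∈ SA, f h := by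
    rw [← hSA, ← smul_eq_mul, ← Finset.sum_const, hSA]
    refine Finset.sum_le_sum fun h hh => ?_
    have : Subgroup.centralizer ({h} : Set H) = ⊤ := (Subgroup.eq_top_iff' _).2 fun g =>
      Subgroup.mem_centralizer_singleton_iff.2 (hS.central h (Finset.mem_filter.1 hh).2 g)
    show N * z ≤ Nat.card (Subgroup.centralizer ({h} : Set H))
    rw [this, Subgroup.card_top, hcard]
  -- the elements of `E ∖ A`
  have hfE : ∀ h ∈ SE, N * z ≤ 6 * f h ∧ 2 * z ≤ f h := by
    intro h hh
    obtain ⟨-, hhE, hhA⟩ := Finset.mem_filter.1 hh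
    refine ⟨?_, mul_card_le_centralizer hS.central h 2 fun i h1 h2 => by
      obtain rfl : i = 1 := by omega
      rwa [pow_one]⟩
    rw [← hcard, ← (Subgroup.centralizer ({h} : Set H)).card_mul_index, mul_comm 6]
    exact Nat.mul_le_mul_left _ (index_centralizer_le_six hS hhE hhA)
  -- the other elements
  have hmove : ∀ q : H ⧸ E, ∃ v ∈ E, q ≠ 1 → ∀ h : H, (h : H ⧸ E) = q →
      h * v * h⁻¹ * v⁻¹ ∉ A := by
    intro q
    by_cases hq : q = 1
    · exact ⟨1, one_mem _, fun h => absurd hq h⟩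
    induction q using QuotientGroup.induction_on with | H g => ?_
    have hg : g ∉ E := fun h => hq ((QuotientGroup.eq_one_iff g).2 h)
    obtain ⟨v, hv, hgv⟩ : ∃ v ∈ E, g * v * g⁻¹ * v⁻¹ ∉ A := by
      by_contra hall
      push Not at hall
      exact hg (hS.cen_le g hall)
    refine ⟨v, hv, fun _ h hh hmem => hgv ?_⟩
    have hd : g⁻¹ * h ∈ E := QuotientGroup.eq.1 hh.symm
    have h1 := hS.comm _ hd v hv
    have h2 := hS.central _ h1 g
    have h3 : h * v * h⁻¹ * v⁻¹ =
        (g⁻¹ * h * v * (g⁻¹ * h)⁻¹ * v⁻¹) * (g * v * g⁻¹ * v⁻¹) := by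
      calc h * v * h⁻¹ * v⁻¹
          = g * (g⁻¹ * h * v * (g⁻¹ * h)⁻¹ * v⁻¹) * (v * g⁻¹ * v⁻¹) := by group
        _ = (g⁻¹ * h * v * (g⁻¹ * h)⁻¹ * v⁻¹) * g * (v * g⁻¹ * v⁻¹) := by rw [h2]
        _ = _ := by group
    rw [h3] at hmem
    exact (A.mul_mem_cancel_left h1).1 hmem
  choose v hvE hv using hmove
  have hfO : 3 * z * SO.card ≤ ∑ h ∈ SO, f h := by
    let U : Finset H := SO.filter fun h => h ^ 2 ∈ E
    let U3 : Finset H := SO.filter fun h => ¬ h ^ 2 ∈ E
    let U2 : Finset H := U.filter fun h => h ^ 2 ∈ A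
    let U4 : Finset H := U.filter fun h => ¬ h ^ 2 ∈ A
    have hnotE : ∀ h ∈ SO, h ∉ A := fun h hh hA' => (Finset.mem_filter.1 hh).2 (hS.le hA')
    have h3 : U3.card • (3 * z) ≤ ∑ h ∈ U3, f h := by
      refine Finset.card_nsmul_le_sum _ _ _ fun h hh => ?_
      obtain ⟨hSO', h2⟩ := Finset.mem_filter.1 hh
      refine mul_card_le_centralizer hS.central h 3 fun i h1 h3 => ?_
      interval_cases i
      · rw [pow_one]; exact hnotE h hSO'
      · exact fun hA' => h2 (hS.le hA')
    have h2 : U2.card • (2 * z) ≤ ∑ h ∈ U2, f h := by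
      refine Finset.card_nsmul_le_sum _ _ _ fun h hh => ?_
      refine mul_card_le_centralizer hS.central h 2 fun i h1 h3 => ?_
      obtain rfl : i = 1 := by omega
      rw [pow_one]
      exact hnotE h (Finset.mem_filter.1 (Finset.mem_filter.1 hh).1).1
    have h4' : U4.card • (4 * z) ≤ ∑ h ∈ U4, f h := by
      refine Finset.card_nsmul_le_sum _ _ _ fun h hh => ?_
      obtain ⟨hU, h2'⟩ := Finset.mem_filter.1 hh
      obtain ⟨hSO', hE2⟩ := Finset.mem_filter.1 hU
      refine mul_card_le_centralizer hS.central h 4 fun i h1 h3 => ?_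
      interval_cases i
      · rw [pow_one]; exact hnotE h hSO'
      · exact h2'
      · intro h3'
        have h4'' : h ^ 4 ∈ A := by
          rw [show (4 : ℕ) = 2 * 2 by norm_num, pow_mul]
          exact hS.pow_mem _ hE2
        rw [pow_succ h 3] at h4''
        exact hnotE h hSO' ((A.mul_mem_cancel_left h3').1 h4'')
    have h24 : U2.card ≤ U4.card := by
      refine Finset.card_le_card_of_injOn (fun h : H => h * v (h : H ⧸ E)) (fun h hh => ?_) ?_
      · obtain ⟨hU, hA2⟩ := Finset.mem_filter.1 hh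
        obtain ⟨hSO', hE2⟩ := Finset.mem_filter.1 hU
        have hhE : h ∉ E := (Finset.mem_filter.1 hSO').2
        have hne : (h : H ⧸ E) ≠ 1 := fun e => hhE ((QuotientGroup.eq_one_iff h).1 e)
        have hvv := hvE (h : H ⧸ E)
        have hd := hv _ hne h rfl
        set w := v (h : H ⧸ E)
        have e2 : (h * w) ^ 2 = (h * w * h⁻¹ * w⁻¹) * h ^ 2 * w ^ 2 := by
          calc (h * w) ^ 2 = (h * w * h⁻¹ * w⁻¹) * (w * h ^ 2) * w := by
                rw [sq, sq]; group
            _ = (h * w * h⁻¹ * w⁻¹) * (h ^ 2 * w) * w := by rw [hS.central _ hA2 w]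
            _ = _ := by rw [sq w]; group
        refine Finset.mem_filter.2 ⟨Finset.mem_filter.2 ⟨Finset.mem_filter.2
          ⟨Finset.mem_univ _, fun hm => hhE ((E.mul_mem_cancel_right hvv).1 hm)⟩, ?_⟩, fun hm => ?_⟩
        · change (h * w) ^ 2 ∈ E
          rw [e2]
          exact E.mul_mem (E.mul_mem (E.mul_mem (hS.E_normal.conj_mem w hvv h) (E.inv_mem hvv))
            hE2) (E.pow_mem hvv 2)
        · change (h * w) ^ 2 ∈ A at hm
          rw [e2, mul_assoc] at hm
          exact hd ((A.mul_mem_cancel_right (A.mul_mem hA2 (hS.pow_mem w hvv))).1 hm)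
      · intro x _ y _ hxy
        have e : x * v (x : H ⧸ E) = y * v (y : H ⧸ E) := hxy
        have h1 : ((x * v (x : H ⧸ E) : H) : H ⧸ E) = (y * v (y : H ⧸ E) : H) :=
          congrArg _ e
        rw [QuotientGroup.mk_mul, QuotientGroup.mk_mul, (QuotientGroup.eq_one_iff (v _)).2 (hvE _),
          (QuotientGroup.eq_one_iff (v _)).2 (hvE _), mul_one, mul_one] at h1
        rw [h1] at e
        exact mul_right_cancel e
    simp only [smul_eq_mul] at h2 h3 h4'
    rw [← Finset.sum_filter_add_sum_filter_not SO (fun h => h ^ 2 ∈ E),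
      ← Finset.card_filter_add_card_filter_not (s := SO) (fun h => h ^ 2 ∈ E)]
    change 3 * z * (U.card + U3.card) ≤ ∑ h ∈ U, f h + ∑ h ∈ U3, f h
    rw [← Finset.sum_filter_add_sum_filter_not U (fun h => h ^ 2 ∈ A),
      ← Finset.card_filter_add_card_filter_not (s := U) (fun h => h ^ 2 ∈ A)]
    change 3 * z * (U2.card + U4.card + U3.card) ≤
      ∑ h ∈ U2, f h + ∑ h ∈ U4, f h + ∑ h ∈ U3, f h
    have := Nat.mul_le_mul_left z h24
    linarith
  have hSE : SE.card = 3 * z := by omega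
  have hSO2 : SO.card + 4 * z = N * z := by omega
  have hzpos : 0 < z := Nat.card_pos
  refine ⟨⟨E.index, hN4⟩, fun h24 => ?_, ?_⟩
  · have h6 : SE.card • (4 * z) ≤ ∑ h ∈ SE, f h :=
      Finset.card_nsmul_le_sum _ _ _ fun h hh => by
        have := (hfE h hh).1
        rw [h24] at this
        omega
    rw [smul_eq_mul, hSE] at h6
    rw [h24] at hsum hfA hSO2
    rw [show SO.card = 20 * z by omega] at hfO
    refine Nat.le_of_mul_le_mul_right (c := 24 * z) ?_ (by positivity)
    linarith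
  · have h6 : SE.card • (2 * z) ≤ ∑ h ∈ SE, f h :=
      Finset.card_nsmul_le_sum _ _ _ fun h hh => (hfE h hh).2
    rw [smul_eq_mul, hSE] at h6
    have h4N : 4 ≤ N := by
      have := Subgroup.index_ne_zero_of_finite (H := E); omega
    obtain ⟨M, hM⟩ : ∃ M, N = M + 4 := ⟨N - 4, by omega⟩
    rw [hM] at hsum hfA hSO2 ⊢
    rw [show SO.card = M * z by
      have : (M + 4) * z = M * z + 4 * z := by ring
      omega] at hfO
    rw [show 4 * (M + 4) - 6 = 4 * M + 10 by omega]
    refine Nat.le_of_mul_le_mul_right (c := z) ?_ hzpos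
    linarith

/-- The bound in degree two. -/
theorem bound_small_two {c : ℕ} (hp : p.Prime) (hp11 : 11 ≤ p) (hS : Small p 2 A E)
    (hc : p ^ 2 - 1 ≤ c * Nat.card H) : 49 * p ≤ 60 * (k H + c) := by
  obtain ⟨h4, h24, hgen⟩ := small_two_classes hS
  have hidx : A.index ≤ 24 := by
    rcases hS.cases with ⟨-, h⟩ | ⟨h, -⟩
    · exact h
    · omega
  obtain ⟨j, hj⟩ := hS.card_dvd
  have hz2 : 2 ∣ Nat.card A := hS.dvd
  rw [← A.card_mul_index] at hc
  set z := Nat.card A with hz
  have hzpos : 0 < z := Nat.card_pos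
  have hfac : p ^ 2 - 1 = (p + 1) * (p - 1) := by
    have := Nat.sq_sub_sq p 1
    simpa using this
  by_cases h : A.index = 24
  · have hk := h24 h
    rw [h, hfac, hj] at hc
    have hc' : j * (p + 1) ≤ 24 * c := by
      refine Nat.le_of_mul_le_mul_left ?_ hzpos
      linarith
    by_contra hlt
    push Not at hlt
    have hlt' : 60 * (c + 4 * z) < 49 * p := by omega
    by_cases hp29 : p ≤ 28
    · have hj28 : j ≤ 14 := by
        obtain ⟨z', hz'⟩ := hz2
        have : p - 1 = z' * (2 * j) := by rw [hj, hz']; ring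
        have hz'0 : 0 < z' := by omega
        have := Nat.le_mul_of_pos_left (2 * j) hz'0
        omega
      interval_cases j <;> first
        | omega
        | (interval_cases p <;> first | omega | (exfalso; revert hp; norm_num))
    · obtain ⟨q, rfl⟩ : ∃ q, p = q + 1 := ⟨p - 1, by omega⟩
      rw [Nat.add_sub_cancel] at hj
      subst hj
      have h1 : 60 * (j * (z * j + 1 + 1)) + 5760 * z < 24 * (49 * (z * j + 1)) := by omega
      have hj0 : 0 < j := Nat.pos_of_ne_zero fun e => by rw [e, mul_zero] at hp11; omega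
      have h2 := Nat.mul_lt_mul_of_pos_right h1 hj0
      have hq : (28 : ℤ) ≤ (z : ℤ) * j := by exact_mod_cast (show 28 ≤ z * j by omega)
      have h2' : (60 * ((j : ℤ) * (z * j + 1 + 1)) + 5760 * z) * j <
          24 * (49 * (z * j + 1)) * j := by exact_mod_cast h2
      rcases Nat.lt_or_ge j 10 with hj10 | hj10
      · interval_cases j <;> push_cast at h2' hq <;> omega
      · have h10 : (10 : ℤ) ≤ j := by exact_mod_cast hj10
        nlinarith [mul_nonneg (show (0:ℤ) ≤ (z * j + 1) by omega)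
          (mul_nonneg (show (0:ℤ) ≤ 5 * j - 48 by omega) (show (0:ℤ) ≤ (j:ℤ) - 10 by omega)),
          mul_le_mul h10 h10 (by norm_num) (by omega)]
  · have hN : A.index ≤ 20 := by
      obtain ⟨i, hi⟩ := h4; omega
    by_contra hlt
    push Not at hlt
    set N := A.index with hNdef
    have h1 : 4 * (4 * N - 6) * (p ^ 2 - 1) * z ≤ (k H + c) ^ 2 * N ^ 2 * z := by
      calc 4 * (4 * N - 6) * (p ^ 2 - 1) * z = 4 * (z * (4 * N - 6)) * (p ^ 2 - 1) := by ring
        _ ≤ 4 * (k H * N) * (c * (z * N)) :=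
            Nat.mul_le_mul (Nat.mul_le_mul_left _ hgen) hc
        _ = 4 * k H * c * N ^ 2 * z := by ring
        _ ≤ _ := Nat.mul_le_mul_right _ (Nat.mul_le_mul_right _
            (by nlinarith [two_mul_le_add_sq (c : ℤ) (k H)]))
    have h2 := Nat.le_of_mul_le_mul_right h1 hzpos
    have hN0 : 0 < N := Nat.pos_of_ne_zero Subgroup.index_ne_zero_of_finite
    have h3 : 74 * N ^ 2 ≤ 400 * (4 * N - 6) := by
      obtain ⟨i, hi⟩ := h4
      rw [hi] at hN hN0 ⊢
      have : 1 ≤ i := by omega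
      have : i ≤ 5 := by omega
      interval_cases i <;> norm_num
    have h4' : 296 * (p ^ 2 - 1) ≤ 400 * (k H + c) ^ 2 := by
      refine Nat.le_of_mul_le_mul_right (c := N ^ 2) ?_ (by positivity)
      calc 296 * (p ^ 2 - 1) * N ^ 2 = 4 * (74 * N ^ 2) * (p ^ 2 - 1) := by ring
        _ ≤ 4 * (400 * (4 * N - 6)) * (p ^ 2 - 1) :=
            Nat.mul_le_mul_right _ (Nat.mul_le_mul_left _ h3)
        _ = 400 * (4 * (4 * N - 6) * (p ^ 2 - 1)) := by ring
        _ ≤ 400 * ((k H + c) ^ 2 * N ^ 2) := Nat.mul_le_mul_left _ h2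
        _ = _ := by ring
    have h5 : (60 * (k H + c)) ^ 2 < (49 * p) ^ 2 := Nat.pow_lt_pow_left hlt two_ne_zero
    rw [mul_pow, mul_pow] at h5
    have h6 : 121 ≤ p ^ 2 := le_trans (by norm_num) (Nat.pow_le_pow_left hp11 2)
    omega

/-- The bound in degree three for `p = 13`. -/
theorem bound_small_three {c : ℕ} (hS : Small 13 3 A E)
    (hc : 13 ^ 3 - 1 ≤ c * Nat.card H) : 49 * 13 ≤ 60 * (k H + c) := by
  haveI := hS.A_normal
  obtain ⟨c', hk', hc'⟩ := Counting.exists_classes A ⊤ (fun a ha g _ => hS.central a ha g)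
  rw [Subgroup.index_top, mul_one] at hc'
  have hidx : A.index ≤ 216 := by
    rcases hS.cases with ⟨h, -⟩ | ⟨-, h⟩
    · omega
    · exact h
  have hkq : A.index ≤ 42 ∨ 5 ≤ k (H ⧸ A) := by
    by_contra hlt
    push Not at hlt
    have := card_le_of_k_le_four (X := H ⧸ A) (by omega)
    rw [Subgroup.index_eq_card] at hlt
    omega
  have hk1 : 0 < k (H ⧸ A) := k_pos
  rw [← A.card_mul_index] at hc
  have hzpos : 0 < Nat.card A := Nat.card_pos
  have hz12 : Nat.card A ≤ 12 := Nat.le_of_dvd (by norm_num) hS.card_dvd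
  have h3 := hS.dvd
  have hd := hS.card_dvd
  generalize Nat.card A = z at hc hc' hzpos hz12 h3 hd
  generalize A.index = N at hc hidx hkq
  rw [mul_left_comm] at hc
  norm_num at hc
  interval_cases z
  all_goals try omega
  all_goals
    rcases hkq with h | h
    · have : c * N ≤ c * 42 := Nat.mul_le_mul_left c h
      linarith
    · have : c * N ≤ c * 216 := Nat.mul_le_mul_left c hidx
      omega

end

/-! ### The linear theorem -/

/-- `49 p ≤ 60 (k(H) + c)` for a soluble irreducible group of degree at least two. -/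
theorem linear_bound {p : ℕ} [Fact p.Prime] {V : Type} [AddCommGroup V] [Module (ZMod p) V]
    [Finite V] (G : Subgroup (V ≃ₗ[ZMod p] V)) (hsol : Group.IsSolvable G) (hirr : Irr G)
    (hn : 2 ≤ finrank (ZMod p) V) {c : ℕ}
    (hc : p ^ finrank (ZMod p) V - 1 ≤ c * Nat.card G) : 49 * p ≤ 60 * (k G + c) := by
  haveI := finite_GL (L := ZMod p) (V := V)
  have hpp : p.Prime := Fact.out
  rcases Nat.lt_or_ge p 11 with hsmall | hp
  · have hp2 := hpp.two_le
    have hc2 : p ^ 2 - 1 ≤ c * Nat.card G :=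
      le_trans (Nat.sub_le_sub_right (Nat.pow_le_pow_right hpp.pos hn) 1) hc
    have hk : 0 < k G := k_pos
    have hc0 : 0 < c := by
      rcases Nat.eq_zero_or_pos c with h | h
      · rw [h, Nat.zero_mul] at hc2
        have : 4 ≤ p ^ 2 := le_trans (by norm_num) (Nat.pow_le_pow_left hp2 2)
        omega
      · exact h
    rcases Nat.lt_or_ge 4 (k G) with h5 | h4
    · interval_cases p <;> first | omega | (exfalso; revert hpp; norm_num)
    rcases Nat.lt_or_ge 3 (k G) with h4' | h3
    · have h42 : c * Nat.card G ≤ c * 42 :=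
        Nat.mul_le_mul_left c (card_le_of_k_le_four h4)
      interval_cases p <;> first | omega | (exfalso; revert hpp; norm_num)
    · have h6 : c * Nat.card G ≤ c * 6 := Nat.mul_le_mul_left c (card_le_of_k_le_three h3)
      interval_cases p <;> first | omega | (exfalso; revert hpp; norm_num)
  by_cases hprim : Prim G
  · rcases prim_weight hp G hsol hirr hprim hn with ⟨W, hW, hw⟩ | ⟨A, E, hS⟩
    · refine bound_of_good hw (good_of_le hp hn ?_) hc
      omega
    rcases hS.cases with ⟨h2, -⟩ | ⟨h3, hidx⟩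
    · rw [h2] at hc hS
      exact bound_small_two hpp hp hS hc
    · rw [h3] at hc hS
      have h31 : 3 ∣ p - 1 := hS.dvd.trans hS.card_dvd
      by_cases h13 : p = 13
      · subst h13
        exact bound_small_three hS hc
      have hp19 : 19 ≤ p := by
        by_contra hlt
        interval_cases p <;> first | omega | (exfalso; revert hpp; norm_num)
      have hw : Wt G (1 ^ 2 * max 1 (216 / 2)) :=
        wt_of_central ⊤ A le_top (fun a ha g _ => hS.central a ha g)
          (fun a ha b _ => (hS.central a ha b).symm) (by simp)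
          (by rwa [Subgroup.relIndex_top_right])
      refine bound_of_good hw (good_of_le hp (by norm_num) ?_) hc
      norm_num
      omega
  · obtain ⟨w, t, m, W, -, htm, hW, hwle, hw, ht⟩ := exists_weight hp _ G hsol hirr rfl
    exact bound_of_good hw ((htm ▸ good_blocks hpp hp (ht hprim) hW).mono hwle) hc

end Cfsg.Agent.Lib.SolvClass.FortyNine
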