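import Cfsg.Agent.Lib.SolvClass.Basic
import Cfsg.Agent.Lib.Cores.Basic
import Cfsg.Agent.Lib.Cores.MinNormal
import Cfsg.Agent.Lib.Spectrum.HuppertStructure

/-!
# The layer above a maximal abelian normal subgroup
-/

set_option autoImplicit false
set_option linter.style.haveILetI false

namespace Cfsg.Agent.Lib.SolvClass

open scoped commutatorElement

section

variable {G : Type*} [Group G]

/-- The elements centralising `X` modulo `A`. -/
def cen (A X : Subgroup G) [A.Normal] : Subgroup G :=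
  (Subgroup.centralizer (X.map (QuotientGroup.mk' A) : Set (G ⧸ A))).comap (QuotientGroup.mk' A)

instance cen_normal (A X : Subgroup G) [A.Normal] [X.Normal] : (cen A X).Normal := by
  haveI : (X.map (QuotientGroup.mk' A)).Normal :=
    Subgroup.Normal.map inferInstance _ (QuotientGroup.mk'_surjective A)
  unfold cen
  infer_instance

theorem mem_cen {A X : Subgroup G} [A.Normal] {g : G} :
    g ∈ cen A X ↔ ∀ x ∈ X, g * x * g⁻¹ * x⁻¹ ∈ A := by
  rw [cen, Subgroup.mem_comap, Subgroup.mem_centralizer_iff]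
  constructor
  · intro h x hx
    rw [← QuotientGroup.eq_one_iff]
    have := h _ ⟨x, hx, rfl⟩
    simp only [QuotientGroup.mk'_apply] at this
    simp only [QuotientGroup.mk_mul, QuotientGroup.mk_inv, ← this]
    group
  · rintro h _ ⟨x, hx, rfl⟩
    have := (QuotientGroup.eq_one_iff _).2 (h x hx)
    simp only [QuotientGroup.mk_mul, QuotientGroup.mk_inv] at this
    simp only [QuotientGroup.mk'_apply]
    exact (mul_inv_eq_iff_eq_mul.1 (mul_inv_eq_one.1 this)).symm

/-- `X` has no element outside `A` that centralises all of `X`. -/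
def Nondeg (A X : Subgroup G) : Prop := ∀ x ∈ X, (∀ y ∈ X, x * y = y * x) → x ∈ A

/-- A maximal abelian normal subgroup with a layer above it. -/
structure Frame (G : Type*) [Group G] where
  A : Subgroup G
  E : Subgroup G
  A_normal : A.Normal
  E_normal : E.Normal
  A_comm : ∀ a ∈ A, ∀ b ∈ A, a * b = b * a
  A_max : ∀ B : Subgroup G, B.Normal → (∀ a ∈ B, ∀ b ∈ B, a * b = b * a) → A ≤ B → B ≤ A
  A_ne : Nontrivial G → A ≠ ⊥
  A_le : A ≤ E
  E_le : E ≤ Subgroup.centralizer (A : Set G)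
  E_comm : ∀ x ∈ E, ∀ y ∈ E, x * y * x⁻¹ * y⁻¹ ∈ A
  E_nondeg : Nondeg A E
  cent_le : Subgroup.centralizer (A : Set G) ⊓ Subgroup.centralizer (E : Set G) ≤ A

theorem exists_frame [Finite G] (hsol : Group.IsSolvable G) : Nonempty (Frame G) := by
  classical
  obtain ⟨A, ⟨hA, hAc⟩, hAmax⟩ := Set.Finite.exists_maximal
    (s := {A : Subgroup G | A.Normal ∧ ∀ a ∈ A, ∀ b ∈ A, a * b = b * a}) (Set.toFinite _)
    ⟨⊥, inferInstance, fun a ha b hb => by
      rw [Subgroup.mem_bot] at ha hb; rw [ha, hb]⟩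
  haveI := hA
  have hne : Nontrivial G → A ≠ ⊥ := by
    intro _ hbot
    obtain ⟨D, hD, hAD, -, hDc⟩ := Spectrum.Huppert.exists_commutative_step hsol
      (A := (⊥ : Subgroup G)) (C := ⊤) inferInstance inferInstance bot_lt_top
    refine hAD.ne (le_antisymm bot_le ?_)
    refine hbot ▸ hAmax ⟨hD, fun a ha b hb => ?_⟩ (hbot ▸ bot_le)
    exact mul_inv_eq_iff_eq_mul.1 (mul_inv_eq_one.1 (Subgroup.mem_bot.1 (hDc a ha b hb)))
  set C := Subgroup.centralizer (A : Set G) with hCdef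
  haveI hC : C.Normal := Subgroup.normal_centralizer
  have hAC : A ≤ C := fun a ha => Subgroup.mem_centralizer_iff.2 fun b hb => hAc b hb a ha
  obtain ⟨B, ⟨hB, hAB, hBC, hBcomm⟩, hBmax⟩ := Set.Finite.exists_maximal
    (s := {B : Subgroup G | B.Normal ∧ A ≤ B ∧ B ≤ C ∧
      ∀ x ∈ B, ∀ y ∈ B, x * y * x⁻¹ * y⁻¹ ∈ A}) (Set.toFinite _)
    ⟨A, hA, le_rfl, hAC, fun x hx y hy =>
      A.mul_mem (A.mul_mem (A.mul_mem hx hy) (A.inv_mem hx)) (A.inv_mem hy)⟩
  haveI := hB
  haveI : (Subgroup.centralizer (B : Set G)).Normal := Subgroup.normal_centralizer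
  have hcentre : Nondeg A B := by
    intro x hx hxy
    set Z := B ⊓ Subgroup.centralizer (B : Set G)
    have hxZ : x ∈ Z := ⟨hx, Subgroup.mem_centralizer_iff.2 fun y hy => (hxy y hy).symm⟩
    have hAZ : A ≤ Z := fun a ha => ⟨hAB ha, Subgroup.mem_centralizer_iff.2 fun y hy =>
      ((Subgroup.mem_centralizer_iff.1 (hBC hy)) a ha).symm⟩
    exact hAmax ⟨inferInstance,
      fun a (ha : a ∈ Z) b (hb : b ∈ Z) =>
        (Subgroup.mem_centralizer_iff.1 ha.2 b hb.1).symm⟩ hAZ hxZ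
  refine ⟨⟨A, B, hA, hB, hAc, fun B' h1 h2 h3 => hAmax ⟨h1, h2⟩ h3, hne, hAB, hBC, hBcomm,
    hcentre, ?_⟩⟩
  by_contra hnot
  set D := C ⊓ Subgroup.centralizer (B : Set G) with hDdef
  have hAD : A ≤ D := fun a ha => ⟨hAC ha, Subgroup.mem_centralizer_iff.2 fun y hy =>
    ((Subgroup.mem_centralizer_iff.1 (hBC hy)) a ha).symm⟩
  obtain ⟨D₁, hD₁, hAD₁, hD₁D, hD₁comm⟩ :=
    Spectrum.Huppert.exists_commutative_step hsol hA (inferInstance : D.Normal)
      (lt_of_le_of_ne hAD fun h => hnot h.ge)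
  haveI := hD₁
  have hcomm : ∀ x ∈ B ⊔ D₁, ∀ y ∈ B ⊔ D₁, x * y * x⁻¹ * y⁻¹ ∈ A := by
    intro x hx y hy
    obtain ⟨b, hb, a, ha, rfl⟩ := Subgroup.mem_sup_of_normal_right.1 hx
    obtain ⟨b', hb', a', ha', rfl⟩ := Subgroup.mem_sup_of_normal_right.1 hy
    rw [← QuotientGroup.eq_one_iff]
    have c1 := (QuotientGroup.eq_one_iff (N := A) _).2 (hBcomm b hb b' hb')
    have c2 := (QuotientGroup.eq_one_iff (N := A) _).2 (hD₁comm a ha a' ha')
    have c3 : b * a' = a' * b := Subgroup.mem_centralizer_iff.1 (hD₁D ha').2 b hb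
    have c4 : b' * a = a * b' := Subgroup.mem_centralizer_iff.1 (hD₁D ha).2 b' hb'
    have e1 : Commute (b : G ⧸ A) b' := by
      simp only [QuotientGroup.mk_mul, QuotientGroup.mk_inv] at c1
      exact mul_inv_eq_iff_eq_mul.1 (mul_inv_eq_one.1 c1)
    have e2 : Commute (a : G ⧸ A) a' := by
      simp only [QuotientGroup.mk_mul, QuotientGroup.mk_inv] at c2
      exact mul_inv_eq_iff_eq_mul.1 (mul_inv_eq_one.1 c2)
    have e3 : Commute (b : G ⧸ A) a' := congrArg (QuotientGroup.mk' A) c3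
    have e4 : Commute (a : G ⧸ A) b' := (congrArg (QuotientGroup.mk' A) c4).symm
    have h5 : Commute ((b : G ⧸ A) * a) (b' * a') :=
      (e1.mul_right e3).mul_left (e4.mul_right e2)
    simp only [QuotientGroup.mk_mul, QuotientGroup.mk_inv]
    rw [h5.eq]
    group
  have hle : D₁ ≤ B := le_sup_right.trans (hBmax
    ⟨inferInstance, hAB.trans le_sup_left, sup_le hBC (hD₁D.trans inf_le_left), hcomm⟩
    le_sup_left)
  refine hAD₁.not_ge fun x hx => hcentre x (hle hx) fun y hy => ?_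
  exact (Subgroup.mem_centralizer_iff.1 (hD₁D hx).2 y hy).symm

/-- The layer lies in the Fitting subgroup. -/
theorem Frame.E_le_fitting {G : Type*} [Group G] (F : Frame G) : F.E ≤ fittingSubgroup G := by
  haveI := F.A_normal
  haveI := F.E_normal
  refine Cores.le_fittingSubgroup ?_
  let f : F.E →* G ⧸ F.A := (QuotientGroup.mk' F.A).comp F.E.subtype
  haveI : IsMulCommutative f.range := ⟨⟨fun a b => by
    obtain ⟨⟨-, x, rfl⟩, ⟨-, y, rfl⟩⟩ := a, b
    refine Subtype.ext ?_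
    have := (QuotientGroup.eq_one_iff (N := F.A) _).2 (F.E_comm x x.2 y y.2)
    simp only [QuotientGroup.mk_mul, QuotientGroup.mk_inv] at this
    exact mul_inv_eq_iff_eq_mul.1 (mul_inv_eq_one.1 this)⟩⟩
  haveI : Group.IsNilpotent f.range := by
    letI : CommGroup f.range :=
      { (inferInstance : Group f.range) with mul_comm := fun a b => mul_comm' a b }
    exact CommGroup.isNilpotent
  refine Subgroup.isNilpotent_of_ker_le_center f.rangeRestrict ?_
  intro x hx
  rw [MonoidHom.ker_rangeRestrict, MonoidHom.mem_ker] at hx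
  have hxA : (x : G) ∈ F.A := (QuotientGroup.eq_one_iff _).1 hx
  exact Subgroup.mem_center_iff.2 fun y => Subtype.ext
    (Subgroup.mem_centralizer_iff.1 (F.E_le y.2) _ hxA).symm

/-- A normal nilpotent subgroup centralises some nontrivial element of each nontrivial normal
subgroup it contains. -/
theorem exists_ne_one_centralized {P N : Subgroup G} (hP : Group.IsNilpotent P) (hNP : N ≤ P)
    [N.Normal] (hN : N ≠ ⊥) : N ⊓ Subgroup.centralizer (P : Set G) ≠ ⊥ := by
  classical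
  have key : ∀ (n : ℕ) (x : P), x ∈ Subgroup.upperCentralSeries P n → (x : G) ∈ N → x ≠ 1 →
      ∃ y : G, y ∈ N ⊓ Subgroup.centralizer (P : Set G) ∧ y ≠ 1 := by
    intro n
    induction n with
    | zero =>
      intro x hx _ hx1
      rw [Subgroup.upperCentralSeries_zero, Subgroup.mem_bot] at hx
      exact absurd hx hx1
    | succ n ih =>
      intro x hx hxN hx1
      by_cases hc : ∀ y : P, ⁅x, y⁆ = 1
      · refine ⟨x, ⟨hxN, Subgroup.mem_centralizer_iff.2 fun y hy => ?_⟩,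
          fun h => hx1 (Subtype.ext h)⟩
        exact (congrArg Subtype.val (commutatorElement_eq_one_iff_mul_comm.1 (hc ⟨y, hy⟩))).symm
      · push Not at hc
        obtain ⟨y, hy⟩ := hc
        refine ih _ (Subgroup.mem_upperCentralSeries_succ_iff.1 hx y) ?_ hy
        rw [commutatorElement_def]
        show (x : G) * y * (x : G)⁻¹ * (y : G)⁻¹ ∈ N
        have h : (x : G) * ((y : G) * (x : G)⁻¹ * (y : G)⁻¹) ∈ N :=
          N.mul_mem hxN (Subgroup.Normal.conj_mem inferInstance _ (N.inv_mem hxN) _)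
        simpa [mul_assoc] using h
  obtain ⟨n, hn⟩ := hP.nilpotent'
  obtain ⟨⟨x, hxN⟩, hx1⟩ := (Subgroup.ne_bot_iff_exists_ne_one).1 hN
  obtain ⟨y, hy, hy1⟩ := key n ⟨x, hNP hxN⟩ (hn ▸ Subgroup.mem_top _) hxN
    (fun h => hx1 (Subtype.ext (congrArg Subtype.val h :)))
  intro h
  rw [h, Subgroup.mem_bot] at hy
  exact hy1 hy

end

section

variable {G : Type} [Group G] [Finite G] (F : Frame G)

/-- The hypothesis that homomorphisms into `A` are no more than the elements of the source. -/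
def HomBound (F : Frame G) : Prop :=
  ∀ (W : Type) [Group W] [Finite W], Nat.card (W →* F.A) ≤ Nat.card W

variable {F}

theorem Frame.A_le_cent (x : G) (hx : x ∈ F.A) : x ∈ Subgroup.centralizer (F.A : Set G) :=
  Subgroup.mem_centralizer_iff.2 fun y hy => F.A_comm y hy x hx

/-- The commutator pairing bounds one index by the other. -/
theorem relIndex_le_of_pairing (hom : HomBound F) {X Y X₀ Y₀ : Subgroup G}
    (hY : Y ≤ Subgroup.centralizer (F.A : Set G)) (hX : X ≤ Subgroup.centralizer (F.A : Set G))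
    (hY₀n : (Y₀.subgroupOf Y).Normal)
    (hXY : ∀ x ∈ X, ∀ y ∈ Y, x * y * x⁻¹ * y⁻¹ ∈ F.A)
    (h0 : ∀ x ∈ X, ∀ y ∈ Y₀, y ∈ Y → x * y = y * x)
    (hnd : ∀ x ∈ X, (∀ y ∈ Y, x * y = y * x) → x ∈ X₀) (hpos : Y₀ ≤ Y) :
    X₀.relIndex X ≤ Y₀.relIndex Y := by
  let χ : X → (Y ⧸ Y₀.subgroupOf Y) →* F.A := fun x =>
    QuotientGroup.lift (Y₀.subgroupOf Y)
      { toFun := fun y => ⟨(x : G) * y * (x : G)⁻¹ * (y : G)⁻¹, hXY x x.2 y y.2⟩
        map_one' := Subtype.ext (by simp)
        map_mul' := fun y z => Subtype.ext (by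
          have hz := hXY x x.2 z z.2
          have hy := Subgroup.mem_centralizer_iff.1 (hY y.2) _ hz
          show (x : G) * (y * z) * (x : G)⁻¹ * ((y : G) * z)⁻¹ =
            ((x : G) * y * (x : G)⁻¹ * (y : G)⁻¹) * ((x : G) * z * (x : G)⁻¹ * (z : G)⁻¹)
          calc (x : G) * (y * z) * (x : G)⁻¹ * ((y : G) * z)⁻¹
              = ((x : G) * y * (x : G)⁻¹ * (y : G)⁻¹) * ((y : G) *
                  ((x : G) * z * (x : G)⁻¹ * (z : G)⁻¹)) * (y : G)⁻¹ := by group
            _ = _ := by rw [← hy]; group) }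
      (fun y hy => Subtype.ext (by
        show (x : G) * y * (x : G)⁻¹ * (y : G)⁻¹ = 1
        rw [h0 x x.2 y hy y.2]; group))
  haveI : Finite ((Y ⧸ Y₀.subgroupOf Y) →* F.A) :=
    Finite.of_injective (fun f => (f : Y ⧸ Y₀.subgroupOf Y → F.A)) DFunLike.coe_injective
  refine le_trans ?_ (hom (Y ⧸ Y₀.subgroupOf Y))
  refine Nat.card_le_card_of_injective (fun q : X ⧸ X₀.subgroupOf X => χ (Quotient.out q)) ?_
  intro a b hab
  rw [← Quotient.out_eq' a, ← Quotient.out_eq' b]
  refine QuotientGroup.eq.2 ?_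
  rw [Subgroup.mem_subgroupOf]
  set u := (Quotient.out a : X)
  set v := (Quotient.out b : X)
  refine hnd _ (X.mul_mem (X.inv_mem u.2) v.2) fun y hy => ?_
  have h1 : (u : G) * y * (u : G)⁻¹ * y⁻¹ = (v : G) * y * (v : G)⁻¹ * y⁻¹ :=
    congrArg Subtype.val (DFunLike.congr_fun hab (QuotientGroup.mk (⟨y, hy⟩ : Y)) :)
  show (u : G)⁻¹ * v * y = y * ((u : G)⁻¹ * v)
  calc (u : G)⁻¹ * v * y = (u : G)⁻¹ * ((v : G) * y * (v : G)⁻¹) * v := by group
    _ = (u : G)⁻¹ * ((u : G) * y * (u : G)⁻¹) * v := by rw [mul_right_cancel h1]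
    _ = y * ((u : G)⁻¹ * v) := by group

theorem subgroupOf_normal_of_comm {X M : Subgroup G} (hM : F.A ≤ M)
    (hX : ∀ x ∈ X, ∀ y ∈ X, x * y * x⁻¹ * y⁻¹ ∈ F.A) : (M.subgroupOf X).Normal := by
  constructor
  intro m hm g
  rw [Subgroup.mem_subgroupOf] at hm ⊢
  show (g : G) * m * (g : G)⁻¹ ∈ M
  have h : (g : G) * m * (g : G)⁻¹ * (m : G)⁻¹ * m ∈ M :=
    M.mul_mem (hM (hX g g.2 m m.2)) hm
  rwa [inv_mul_cancel_right] at h

theorem inf_cen_eq (hom : HomBound F) [F.A.Normal] :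
    Subgroup.centralizer (F.A : Set G) ⊓ cen F.A F.E = F.E := by
  set X := Subgroup.centralizer (F.A : Set G) ⊓ cen F.A F.E with hX
  have hEX : F.E ≤ X := fun x hx => ⟨F.E_le hx, mem_cen.2 fun y hy => F.E_comm x hx y hy⟩
  have h1 := relIndex_le_of_pairing hom (X := X) (Y := F.E) (X₀ := F.A) (Y₀ := F.A) F.E_le
    inf_le_left (subgroupOf_normal_of_comm le_rfl F.E_comm)
    (fun x hx y hy => mem_cen.1 hx.2 y hy)
    (fun x hx y hy _ => (Subgroup.mem_centralizer_iff.1 hx.1 y hy).symm)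
    (fun x hx hxy => F.cent_le ⟨hx.1, Subgroup.mem_centralizer_iff.2 fun y hy => (hxy y hy).symm⟩)
    F.A_le
  have h2 := Subgroup.relIndex_mul_relIndex F.A F.E X F.A_le hEX
  refine le_antisymm ?_ hEX
  rw [← Subgroup.relIndex_eq_one]
  have hp : 0 < F.A.relIndex F.E := Nat.pos_of_ne_zero Subgroup.index_ne_zero_of_finite
  have hp' : 0 < F.E.relIndex X := Nat.pos_of_ne_zero Subgroup.index_ne_zero_of_finite
  rw [← h2] at h1
  nlinarith

/-- The index of `A` in a non-degenerate subgroup of the layer is a square. -/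
theorem exists_sq_relIndex (hom : HomBound F) {X : Subgroup G} (hAX : F.A ≤ X) (hXE : X ≤ F.E)
    (hnd : Nondeg F.A X) : ∃ t, F.A.relIndex X = t ^ 2 := by
  obtain ⟨M, ⟨hAM, hMX, hMc⟩, hMmax⟩ := Set.Finite.exists_maximal
    (s := {M : Subgroup G | F.A ≤ M ∧ M ≤ X ∧ ∀ a ∈ M, ∀ b ∈ M, a * b = b * a}) (Set.toFinite _)
    ⟨F.A, le_rfl, hAX, F.A_comm⟩
  have hXc : ∀ x ∈ X, ∀ y ∈ X, x * y * x⁻¹ * y⁻¹ ∈ F.A := fun x hx y hy =>
    F.E_comm x (hXE hx) y (hXE hy)
  have hXC : X ≤ Subgroup.centralizer (F.A : Set G) := hXE.trans F.E_le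
  have hmax : ∀ x ∈ X, (∀ y ∈ M, x * y = y * x) → x ∈ M := by
    intro x hx hxy
    have hcl : ∀ a ∈ M ⊔ Subgroup.closure {x}, ∀ b ∈ M ⊔ Subgroup.closure {x}, a * b = b * a := by
      intro a ha b hb
      rw [← Subgroup.closure_eq M, ← Subgroup.closure_union] at ha hb
      have hcomm : ∀ a ∈ ((M : Set G) ∪ {x}), ∀ b ∈ ((M : Set G) ∪ {x}), a * b = b * a := by
        rintro a (ha | ha) b (hb | hb)
        · exact hMc a ha b hb
        · rw [Set.mem_singleton_iff.1 hb]; exact (hxy a ha).symm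
        · rw [Set.mem_singleton_iff.1 ha]; exact hxy b hb
        · rw [Set.mem_singleton_iff.1 ha, Set.mem_singleton_iff.1 hb]
      letI := Subgroup.closureCommGroupOfComm hcomm
      exact congrArg Subtype.val (mul_comm (⟨a, ha⟩ : Subgroup.closure ((M : Set G) ∪ {x})) ⟨b, hb⟩)
    exact hMmax ⟨hAM.trans le_sup_left,
      sup_le hMX ((Subgroup.closure_le X).2 (Set.singleton_subset_iff.2 hx)), hcl⟩
      le_sup_left (Subgroup.mem_sup_right (Subgroup.subset_closure rfl))
  have h1 := relIndex_le_of_pairing hom (X := X) (Y := M) (X₀ := M) (Y₀ := F.A) (hMX.trans hXC) hXC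
    (subgroupOf_normal_of_comm le_rfl fun a ha b hb => hXc a (hMX ha) b (hMX hb))
    (fun x hx y hy => hXc x hx y (hMX hy))
    (fun x hx y hy _ => (Subgroup.mem_centralizer_iff.1 (hXC hx) y hy).symm) hmax hAM
  have h2 := relIndex_le_of_pairing hom (X := M) (Y := X) (X₀ := F.A) (Y₀ := M) hXC (hMX.trans hXC)
    (subgroupOf_normal_of_comm hAM hXc) (fun x hx y hy => hXc x (hMX hx) y hy)
    (fun x hx y hy _ => hMc x hx y hy)
    (fun x hx hxy => hnd x (hMX hx) hxy) hMX
  refine ⟨F.A.relIndex M, ?_⟩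
  rw [← Subgroup.relIndex_mul_relIndex F.A M X hAM hMX, le_antisymm h1 h2, sq]

/-- A minimal normal piece of the layer. -/
structure Piece (F : Frame G) (B : Subgroup G) (q e : ℕ) : Prop where
  prime : q.Prime
  epos : 0 < e
  le : B ≤ F.E
  lt : F.A < B
  minimal : ∀ K : Subgroup G, K.Normal → F.A ≤ K → K ≤ B → K = F.A ∨ K = B
  pow_mem : ∀ x ∈ B, x ^ q ∈ F.A
  dvd : q ∣ Nat.card F.A
  relIndex : F.A.relIndex B = q ^ (2 * e)

theorem exists_piece [Group.IsSolvable G] (hom : HomBound F) {X : Subgroup G} [X.Normal]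
    (hX : F.A < X) (hXE : X ≤ F.E) :
    ∃ (B : Subgroup G) (q e : ℕ), B.Normal ∧ Nondeg F.A B ∧ B ≤ X ∧ Piece F B q e := by
  classical
  haveI := F.A_normal
  obtain ⟨B, ⟨hBn, hAB, hBX⟩, hBmin⟩ := Set.Finite.exists_minimal
    (s := {B : Subgroup G | B.Normal ∧ F.A < B ∧ B ≤ X}) (Set.toFinite _)
    ⟨X, inferInstance, hX, le_rfl⟩
  haveI := hBn
  have hmin : ∀ K : Subgroup G, K.Normal → F.A ≤ K → K ≤ B → K = F.A ∨ K = B := by
    intro K hK h1 h2
    rcases h1.eq_or_lt with h | h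
    · exact Or.inl h.symm
    · exact Or.inr (le_antisymm h2 (hBmin ⟨hK, h, h2.trans hBX⟩ h2))
  have hBE : B ≤ F.E := hBX.trans hXE
  have hBc : ∀ x ∈ B, ∀ y ∈ B, x * y * x⁻¹ * y⁻¹ ∈ F.A := fun x hx y hy =>
    F.E_comm x (hBE hx) y (hBE hy)
  haveI : (Subgroup.centralizer (B : Set G)).Normal := Subgroup.normal_centralizer
  have hnd : Nondeg F.A B := by
    intro x hx hxy
    have hAZ : F.A ≤ B ⊓ Subgroup.centralizer (B : Set G) := fun a ha =>
      ⟨hAB.le ha, Subgroup.mem_centralizer_iff.2 fun y hy =>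
        ((Subgroup.mem_centralizer_iff.1 (F.E_le (hBE hy))) a ha).symm⟩
    rcases hmin _ inferInstance hAZ inf_le_left with h | h
    · exact h ▸ ⟨hx, Subgroup.mem_centralizer_iff.2 fun y hy => (hxy y hy).symm⟩
    · exfalso
      refine hAB.not_ge (F.A_max B hBn (fun a ha b hb => ?_) hAB.le)
      exact (Subgroup.mem_centralizer_iff.1 (h.ge ha).2 b hb).symm
  -- the image in `G / A` is an elementary abelian minimal normal subgroup
  set Bq := B.map (QuotientGroup.mk' F.A) with hBq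
  haveI : Bq.Normal := Subgroup.Normal.map inferInstance _ (QuotientGroup.mk'_surjective _)
  have hBq0 : Bq ≠ ⊥ := by
    rw [ne_eq, Subgroup.map_eq_bot_iff, QuotientGroup.ker_mk']
    exact hAB.not_ge
  obtain ⟨-, q, hq, hexp⟩ := Cores.MinNormal.elementary_of_solvable hBq0 fun K hK hKB => by
    rcases hmin (K.comap (QuotientGroup.mk' F.A)) inferInstance
      (fun a ha => by simp [(QuotientGroup.eq_one_iff a).2 ha, K.one_mem])
      (fun x hx => by
        have h := hKB hx
        rw [hBq] at h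
        obtain ⟨b, hb, hbx⟩ := h
        have : b⁻¹ * x ∈ F.A := QuotientGroup.eq.1 hbx
        simpa using B.mul_mem hb (hAB.le this)) with h | h
    · left
      rw [← Subgroup.map_comap_eq_self_of_surjective (QuotientGroup.mk'_surjective F.A) K, h,
        QuotientGroup.map_mk'_self]
    · right
      rw [← Subgroup.map_comap_eq_self_of_surjective (QuotientGroup.mk'_surjective F.A) K, h]
  have hpow : ∀ x ∈ B, x ^ q ∈ F.A := fun x hx => by
    have := hexp _ ⟨x, hx, rfl⟩
    rwa [← map_pow, QuotientGroup.mk'_apply, QuotientGroup.eq_one_iff] at this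
  haveI := Fact.mk hq
  have hpg : IsPGroup q (B ⧸ F.A.subgroupOf B) := by
    intro z
    induction z using QuotientGroup.induction_on with
    | _ x => exact ⟨1, by
        rw [pow_one, ← QuotientGroup.mk_pow, QuotientGroup.eq_one_iff, Subgroup.mem_subgroupOf]
        exact hpow x x.2⟩
  obtain ⟨m, hm⟩ := IsPGroup.iff_card.1 hpg
  have hm' : F.A.relIndex B = q ^ m := hm
  obtain ⟨t, ht⟩ := exists_sq_relIndex hom hAB.le hBE hnd
  obtain ⟨e, -, rfl⟩ := (Nat.dvd_prime_pow hq).1 (⟨t, by rw [← sq, ← ht, hm']⟩ : t ∣ q ^ m)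
  refine ⟨B, q, e, hBn, hnd, hBX, hq, ?_, hBE, hAB, hmin, hpow, ?_, ?_⟩
  · refine Nat.pos_of_ne_zero fun h => ?_
    rw [h, pow_zero, one_pow, Subgroup.relIndex_eq_one] at ht
    exact hAB.not_ge ht
  · obtain ⟨x, hxB, hxA⟩ := SetLike.exists_of_lt hAB
    obtain ⟨y, hy, hxy⟩ : ∃ y ∈ B, x * y ≠ y * x := by
      by_contra hall
      push Not at hall
      exact hxA (hnd x hxB hall)
    set c := x * y * x⁻¹ * y⁻¹ with hc
    have hcA : c ∈ F.A := hBc x hxB y hy
    have hcy : Commute c y :=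
      (Subgroup.mem_centralizer_iff.1 (F.E_le (hBE hy)) _ hcA)
    have hcq : c ^ q = 1 := by
      have h1 : ∀ n : ℕ, x * y ^ n * x⁻¹ = c ^ n * y ^ n := by
        intro n
        induction n with
        | zero => simp
        | succ n ih =>
          calc x * y ^ (n + 1) * x⁻¹ = (x * y ^ n * x⁻¹) * (x * y * x⁻¹) := by
                rw [pow_succ]; group
            _ = c ^ n * y ^ n * (c * y) := by rw [ih, show x * y * x⁻¹ = c * y by rw [hc]; group]
            _ = c ^ n * (y ^ n * c) * y := by group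
            _ = c ^ (n + 1) * y ^ (n + 1) := by
                rw [(hcy.symm.pow_left n).eq, pow_succ, pow_succ]; group
      have h2 := h1 q
      rw [← Subgroup.mem_centralizer_iff.1 (F.E_le (hBE hxB)) _ (hpow y hy),
        mul_inv_cancel_right] at h2
      exact mul_eq_right.1 h2.symm
    have hco : orderOf (⟨c, hcA⟩ : F.A) = q := orderOf_eq_prime (Subtype.ext hcq) fun h =>
      hxy (mul_inv_eq_iff_eq_mul.1 (mul_inv_eq_one.1 (congrArg Subtype.val h :)))
    exact hco ▸ orderOf_dvd_natCard _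
  · rw [ht, ← pow_mul, mul_comm]

/-- Recursion over the layer. -/
theorem layer_bound [Group.IsSolvable G] (hom : HomBound F) [F.A.Normal] (X : Subgroup G)
    [X.Normal] (hAX : F.A ≤ X) (hXE : X ≤ F.E) (hnd : Nondeg F.A X) :
    ∃ t, F.A.relIndex X = t ^ 2 ∧
      fittingSubgroup G ⊓ Subgroup.centralizer (F.A : Set G) ≤ cen F.A X ∧
      ((∀ (B : Subgroup G) [B.Normal] (q e : ℕ), Piece F B q e → ∀ S : Subgroup G,
          k (S.map (QuotientGroup.mk' (cen F.A B))) * 3 ≤ 3 ^ q ^ e) →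
        ∀ S : Subgroup G, k (S.map (QuotientGroup.mk' (cen F.A X))) * 3 ≤ 3 ^ t) := by
  classical
  induction hn : Nat.card X using Nat.strong_induction_on generalizing X with
  | _ n ih =>
  subst hn
  haveI : (Subgroup.centralizer (F.A : Set G)).Normal := Subgroup.normal_centralizer
  rcases hAX.eq_or_lt with h | hlt
  · subst h
    refine ⟨1, by rw [Subgroup.relIndex_self, one_pow], ?_, fun _ S => ?_⟩
    · rintro g ⟨-, hg⟩
      refine mem_cen.2 fun a ha => ?_
      rw [← Subgroup.mem_centralizer_iff.1 hg a ha, mul_inv_cancel_right, mul_inv_cancel]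
      exact F.A.one_mem
    · have hle : ∀ g : G, g ∈ cen F.A F.A := fun g => mem_cen.2 fun a ha =>
        F.A.mul_mem ((inferInstance : F.A.Normal).conj_mem a ha g) (F.A.inv_mem ha)
      haveI : Subsingleton (G ⧸ cen F.A F.A) := by
        rw [(Subgroup.eq_top_iff' _).2 hle]; exact QuotientGroup.subsingleton_quotient_top
      have : k (S.map (QuotientGroup.mk' (cen F.A F.A))) ≤ 1 :=
        k_le_card.trans_eq (Nat.card_eq_one_iff_unique.2 ⟨inferInstance, ⟨1⟩⟩)
      omega
  obtain ⟨B, q, e, hBn, hBnd, hBX, hP⟩ := exists_piece hom hlt hXE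
  haveI := hBn
  haveI : (Subgroup.centralizer (B : Set G)).Normal := Subgroup.normal_centralizer
  set Y := X ⊓ Subgroup.centralizer (B : Set G) with hYdef
  have hAY : F.A ≤ Y := fun a ha => ⟨hAX ha, Subgroup.mem_centralizer_iff.2 fun b hb =>
    (Subgroup.mem_centralizer_iff.1 (F.E_le (hP.le hb)) a ha).symm⟩
  have hXc : ∀ x ∈ X, ∀ y ∈ X, x * y * x⁻¹ * y⁻¹ ∈ F.A := fun x hx y hy =>
    F.E_comm x (hXE hx) y (hXE hy)
  have hBY : B ⊓ Y = F.A := le_antisymm
    (fun x hx => hBnd x hx.1 fun y hy => (Subgroup.mem_centralizer_iff.1 hx.2.2 y hy).symm)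
    (le_inf hP.lt.le hAY)
  -- `X = B Y` by counting
  have h1 := relIndex_le_of_pairing hom (X := X) (Y := B) (X₀ := Y) (Y₀ := F.A)
    (hP.le.trans F.E_le) (hXE.trans F.E_le)
    (subgroupOf_normal_of_comm le_rfl fun a ha b hb => hXc a (hBX ha) b (hBX hb))
    (fun x hx y hy => hXc x hx y (hBX hy))
    (fun x hx y hy _ => (Subgroup.mem_centralizer_iff.1 (F.E_le (hXE hx)) y hy).symm)
    (fun x hx hxy => ⟨hx, Subgroup.mem_centralizer_iff.2 fun y hy => (hxy y hy).symm⟩) hP.lt.le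
  have hBYle : B ⊔ Y ≤ X := sup_le hBX inf_le_left
  have h2 : Y.relIndex (B ⊔ Y) = F.A.relIndex B := by
    rw [Subgroup.relIndex_sup_right, ← Subgroup.inf_relIndex_right, inf_comm, hBY]
  have h3 := Subgroup.relIndex_mul_relIndex Y (B ⊔ Y) X le_sup_right hBYle
  have hsup : B ⊔ Y = X := by
    refine le_antisymm hBYle (Subgroup.relIndex_eq_one.1 ?_)
    have hp : 0 < F.A.relIndex B := Nat.pos_of_ne_zero Subgroup.index_ne_zero_of_finite
    have hp' : 0 < (B ⊔ Y).relIndex X := Nat.pos_of_ne_zero Subgroup.index_ne_zero_of_finite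
    rw [← h3, h2] at h1
    nlinarith
  have hYnd : Nondeg F.A Y := by
    intro y hy hyY
    refine hnd y hy.1 fun x hx => ?_
    rw [← hsup] at hx
    obtain ⟨b, hb, z, hz, rfl⟩ := Subgroup.mem_sup_of_normal_right.1 hx
    have hyb : Commute y b := (Subgroup.mem_centralizer_iff.1 hy.2 b hb).symm
    exact (hyb.mul_right (hyY z hz :)).eq
  have hYlt : Nat.card Y < Nat.card X := by
    refine lt_of_le_of_ne (Subgroup.card_le_of_le inf_le_left) fun h => ?_
    have hYX : Y = X := Subgroup.eq_of_le_of_card_ge inf_le_left h.ge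
    exact hP.lt.not_ge (hBY ▸ le_inf le_rfl (hYX ▸ hBX))
  obtain ⟨t, ht, hfit, hb⟩ := ih _ hYlt Y hAY (inf_le_left.trans hXE) hYnd rfl
  have hrel : F.A.relIndex X = (q ^ e * t) ^ 2 := by
    rw [← Subgroup.relIndex_mul_relIndex F.A Y X hAY inf_le_left, ht]
    have : Y.relIndex X = F.A.relIndex B := by rw [← h2, hsup]
    rw [this, hP.relIndex]
    ring
  have hcen : cen F.A X = cen F.A B ⊓ cen F.A Y := by
    ext g
    simp only [Subgroup.mem_inf, mem_cen]
    refine ⟨fun h => ⟨fun x hx => h x (hBX hx), fun x hx => h x hx.1⟩, fun h x hx => ?_⟩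
    rw [← hsup] at hx
    obtain ⟨b, hb', z, hz, rfl⟩ := Subgroup.mem_sup_of_normal_right.1 hx
    have h1 := h.1 b hb'
    have h2 := h.2 z hz
    have : g * (b * z) * g⁻¹ * (b * z)⁻¹ =
        (g * b * g⁻¹ * b⁻¹) * (b * (g * z * g⁻¹ * z⁻¹) * b⁻¹) := by group
    rw [this]
    exact F.A.mul_mem h1 ((inferInstance : F.A.Normal).conj_mem _ h2 b)
  refine ⟨q ^ e * t, hrel, ?_, fun hpc S => ?_⟩
  · rw [hcen]
    refine le_inf ?_ hfit
    -- the nilpotent group centralises the minimal piece modulo `A`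
    haveI := F.E_normal
    set M := fittingSubgroup G ⊓ Subgroup.centralizer (F.A : Set G) with hMdef
    have hE : F.E ≤ M := le_inf (Frame.E_le_fitting F) F.E_le
    have hMnil : Group.IsNilpotent M :=
      Cores.isNilpotent_of_le inf_le_left Cores.fittingSubgroup_isNilpotent
    set Bq := B.map (QuotientGroup.mk' F.A)
    haveI : Bq.Normal := Subgroup.Normal.map inferInstance _ (QuotientGroup.mk'_surjective _)
    have hne := exists_ne_one_centralized (P := M.map (QuotientGroup.mk' F.A)) (N := Bq)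
      (Cores.isNilpotent_map _ hMnil) (Subgroup.map_mono (hP.le.trans hE))
      (by rw [ne_eq, Subgroup.map_eq_bot_iff, QuotientGroup.ker_mk']; exact hP.lt.not_ge)
    haveI : (M.map (QuotientGroup.mk' F.A)).Normal :=
      Subgroup.Normal.map inferInstance _ (QuotientGroup.mk'_surjective _)
    haveI : (Subgroup.centralizer (M.map (QuotientGroup.mk' F.A) : Set (G ⧸ F.A))).Normal :=
      Subgroup.normal_centralizer
    set Z := B ⊓ (Subgroup.centralizer (M.map (QuotientGroup.mk' F.A) : Set (G ⧸ F.A))).comap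
      (QuotientGroup.mk' F.A) with hZ
    have hAZ : F.A ≤ Z := fun a ha => ⟨hP.lt.le ha, by
      show (a : G ⧸ F.A) ∈ Subgroup.centralizer (M.map (QuotientGroup.mk' F.A) : Set (G ⧸ F.A))
      rw [(QuotientGroup.eq_one_iff a).2 ha]
      exact one_mem _⟩
    rcases hP.minimal Z inferInstance hAZ inf_le_left with h | h
    · exfalso
      refine hne ((Subgroup.eq_bot_iff_forall _).2 ?_)
      rintro _ ⟨⟨b, hb', rfl⟩, hcb⟩
      have hbZ : b ∈ Z := ⟨hb', hcb⟩
      rw [h] at hbZ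
      exact (QuotientGroup.eq_one_iff b).2 hbZ
    · intro g hg
      refine mem_cen.2 fun b hb' => ?_
      have h3 : b ∈ Z := by rw [h]; exact hb'
      have h4 := Subgroup.mem_centralizer_iff.1 h3.2 _ ⟨g, hg, rfl⟩
      rw [← QuotientGroup.eq_one_iff]
      simp only [QuotientGroup.mk'_apply] at h4
      simp only [QuotientGroup.mk_mul, QuotientGroup.mk_inv, h4]
      group
  · have hk : k (S.map (QuotientGroup.mk' (cen F.A X))) ≤
        k ((S ⊓ cen F.A B).map (QuotientGroup.mk' (cen F.A Y))) *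
          k (S.map (QuotientGroup.mk' (cen F.A B))) := by
      have := k_map_le_mul S (QuotientGroup.mk' (cen F.A X)) (QuotientGroup.mk' (cen F.A B))
        (QuotientGroup.mk' (cen F.A Y)) fun x _ => by
          simp only [QuotientGroup.mk'_apply, QuotientGroup.eq_one_iff, hcen, Subgroup.mem_inf]
      rwa [QuotientGroup.ker_mk'] at this
    have h5 := Nat.mul_le_mul (hpc B q e hP S) (hb hpc (S ⊓ cen F.A B))
    have ht1 : 1 ≤ t := Nat.one_le_iff_ne_zero.2 fun h => Subgroup.index_ne_zero_of_finite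
      (show (F.A.subgroupOf Y).index = 0 by
        show F.A.relIndex Y = 0
        rw [ht, h]; rfl)
    have hq2 : 2 ≤ q ^ e := le_trans hP.prime.two_le (Nat.le_self_pow hP.epos.ne' q)
    have h6 : q ^ e + t ≤ q ^ e * t + 1 := by nlinarith
    rw [← pow_add] at h5
    have h7 := h5.trans (Nat.pow_le_pow_right (by norm_num) h6)
    rw [pow_succ] at h7
    nlinarith

end

end Cfsg.Agent.Lib.SolvClass
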