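import Cfsg.Agent.Lib.SolvClass.Field
import Cfsg.Agent.Lib.SolvClass.Composite
import Cfsg.Agent.Lib.Cores.Basic
import Mathlib.Algebra.DirectSum.Module
import Mathlib.FieldTheory.Finiteness

/-!
# Irreducible linear groups: cores, blocks of imprimitivity
-/

set_option autoImplicit false
set_option linter.style.haveILetI false

namespace Cfsg.Agent.Lib.SolvClass

open Module

section

variable {L : Type*} [Field L] [Finite L] {V : Type*} [AddCommGroup V] [Module L V] [Finite V]

theorem finite_GL : Finite (V ≃ₗ[L] V) :=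
  Finite.of_injective (fun f => (f : V → V)) DFunLike.coe_injective

/-- A representation with irreducible image. -/
theorem irr_range {G : Type*} [Group G] (ρ : G →* (V ≃ₗ[L] V)) [Nontrivial V]
    (h : ∀ W : Submodule L V, (∀ g, ∀ w ∈ W, ρ g w ∈ W) → W = ⊥ ∨ W = ⊤) : Irr ρ.range :=
  ⟨inferInstance, fun W hW => h W fun g w hw => hW (ρ g) ⟨g, rfl⟩ w hw⟩

/-- An irreducible group has no nontrivial normal `p`-subgroup in characteristic `p`. -/
theorem eq_bot_of_isPGroup (p : ℕ) [Fact p.Prime] [CharP L p] {G : Subgroup (V ≃ₗ[L] V)}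
    (hirr : Irr G) (P : Subgroup G) [hPn : P.Normal] (hP : IsPGroup p P) : P = ⊥ := by
  haveI := hirr.1
  haveI := finite_GL (L := L) (V := V)
  let W : Submodule L V :=
    { carrier := {v | ∀ g : P, ((g : G) : V ≃ₗ[L] V) v = v}
      add_mem' := fun ha hb g => by rw [map_add, ha g, hb g]
      zero_mem' := fun g => map_zero _
      smul_mem' := fun c a ha g => by rw [map_smul, ha g] }
  have hW : ∀ g ∈ G, ∀ w ∈ W, g w ∈ W := by
    intro g hg w hw x
    have hx : (⟨g, hg⟩ : G)⁻¹ * x * (⟨g, hg⟩ : G)⁻¹⁻¹ ∈ P := hPn.conj_mem _ x.2 _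
    have h2 := congrArg g (hw ⟨_, hx⟩)
    simpa [LinearEquiv.mul_apply] using h2
  rcases hirr.2 W hW with h | h
  · exfalso
    have hp : p ∣ Nat.card V := by
      haveI : Module.Finite L V := Module.Finite.of_finite
      haveI := Fintype.ofFinite L
      obtain ⟨n, -, hn⟩ := FiniteField.card L p
      rw [Module.natCard_eq_pow_finrank (K := L), Nat.card_eq_fintype_card, hn, ← pow_mul]
      exact dvd_pow_self p (Nat.mul_ne_zero n.ne_zero finrank_pos.ne')
    letI : MulAction P V :=
      MulAction.compHom V (G.subtype.comp P.subtype)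
    obtain ⟨v, hv, hv0⟩ := hP.exists_fixed_point_of_prime_dvd_card_of_fixed_point V hp
      (a := (0 : V)) (fun g => map_zero ((g : G) : V ≃ₗ[L] V))
    have hvW : v ∈ W := fun g => hv g
    rw [h, Submodule.mem_bot] at hvW
    exact hv0 hvW.symm
  · rw [Subgroup.eq_bot_iff_forall]
    intro g hg
    refine Subtype.ext (LinearEquiv.ext fun v => ?_)
    exact (h.ge (Submodule.mem_top (x := v)) : v ∈ W) ⟨g, hg⟩

/-- The Fitting subgroup of an irreducible group has order prime to the characteristic. -/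
theorem not_dvd_card_fitting (p : ℕ) [Fact p.Prime] [CharP L p] {G : Subgroup (V ≃ₗ[L] V)}
    (hirr : Irr G) : ¬ p ∣ Nat.card (fittingSubgroup G) := by
  haveI := finite_GL (L := L) (V := V)
  intro hdvd
  obtain ⟨P⟩ := (inferInstance : Nonempty (Sylow p (fittingSubgroup G)))
  haveI hnil : Group.IsNilpotent (fittingSubgroup G) := Cores.fittingSubgroup_isNilpotent
  haveI : (fittingSubgroup G).Normal := inferInstance
  have hPn : (P : Subgroup (fittingSubgroup G)).Normal :=
    ((Group.isNilpotent_of_finite_tfae (G := fittingSubgroup G)).out 0 3 rfl rfl).mp hnil p inferInstance P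
  haveI := Sylow.characteristic_of_normal P hPn
  haveI := Cores.normal_map_subtype (fittingSubgroup G) (P : Subgroup (fittingSubgroup G))
  have h := eq_bot_of_isPGroup p hirr ((P : Subgroup (fittingSubgroup G)).map
    (fittingSubgroup G).subtype) (P.isPGroup'.map _)
  rw [Subgroup.map_eq_bot_iff_of_injective _ (Subgroup.subtype_injective _)] at h
  exact P.ne_bot_of_dvd_card hdvd h

/-- The blocks of imprimitivity, with irreducible stabilisers. -/
theorem exists_blocks {G : Subgroup (V ≃ₗ[L] V)} (hirr : Irr G) (hprim : ¬ Prim G) :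
    ∃ (t m : ℕ) (D : Fin t → Submodule L V) (π : G →* Equiv.Perm (Fin t))
      (φ : V ≃ₗ[L] (∀ i, D i)),
      2 ≤ t ∧ 0 < m ∧ t * m = finrank L V ∧ (∀ i, finrank L (D i) = m) ∧
      (∀ (g : G) i, ∀ v ∈ D i, (g : V ≃ₗ[L] V) v ∈ D (π g i)) ∧
      (∀ f, φ.symm f = ∑ i, (f i : V)) ∧
      (∀ g : G, π g = 1 → ∀ v i, (φ ((g : V ≃ₗ[L] V) v) i : V) = (g : V ≃ₗ[L] V) (φ v i : V)) ∧
      ∀ i, ∀ W : Submodule L V, W ≤ D i →
        (∀ g : G, π g i = i → ∀ w ∈ W, (g : V ≃ₗ[L] V) w ∈ W) → W = ⊥ ∨ W = D i := by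
  classical
  haveI := hirr.1
  haveI : Module.Finite L V := Module.Finite.of_finite
  rw [Prim] at hprim
  push Not at hprim
  obtain ⟨t, m, D, ht, hm, hrk, hind, htop, hperm⟩ := hprim
  have hperm' : ∀ g : G, ∃ σ : Equiv.Perm (Fin t),
      ∀ i, (D i).map ((g : V ≃ₗ[L] V) : V →ₗ[L] V) = D (σ i) := fun g => hperm g g.2
  choose π hπ using hperm'
  have hne : ∀ i, D i ≠ ⊥ := fun i h => by
    have := hrk i; rw [h, finrank_bot] at this; omega
  have hinjD : Function.Injective D := hind.injective hne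
  let πh : G →* Equiv.Perm (Fin t) :=
    { toFun := π
      map_one' := Equiv.ext fun i => hinjD (by
        rw [← hπ]
        show Submodule.map (LinearMap.id : V →ₗ[L] V) (D i) = D i
        exact Submodule.map_id _)
      map_mul' := fun a b => Equiv.ext fun i => hinjD (by
        rw [Equiv.Perm.mul_apply, ← hπ (a * b), ← hπ a (π b i), ← hπ b, ← Submodule.map_comp]
        rfl) }
  have hmem : ∀ (g : G) i, ∀ v ∈ D i, (g : V ≃ₗ[L] V) v ∈ D (πh g i) := fun g i v hv => by
    show _ ∈ D (π g i)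
    rw [← hπ g i]
    exact Submodule.mem_map_of_mem hv
  have hint : DirectSum.IsInternal D :=
    (DirectSum.isInternal_submodule_iff_iSupIndep_and_iSup_eq_top _).2 ⟨hind, htop⟩
  let ψ : (∀ i, D i) ≃ₗ[L] V :=
    (DirectSum.linearEquivFunOnFintype L (Fin t) fun i => D i).symm.trans
      (LinearEquiv.ofBijective (DirectSum.coeLinearMap D) hint)
  have hψ : ∀ f : ∀ i, D i, ψ f = ∑ i, (f i : V) := by
    intro f
    conv_lhs => rw [← Finset.univ_sum_single f]
    rw [map_sum]
    refine Finset.sum_congr rfl fun i _ => ?_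
    simp only [ψ, LinearEquiv.trans_apply, DirectSum.linearEquivFunOnFintype_symm_single,
      LinearEquiv.ofBijective_apply]
    exact DirectSum.coeLinearMap_of D i (f i)
  have hdim : t * m = finrank L V := by
    rw [← ψ.finrank_eq, Module.finrank_pi_fintype]
    simp [hrk]
  refine ⟨t, m, D, πh, ψ.symm, ht, hm, hdim, hrk, hmem, hψ, fun g hg v i => ?_, fun i W hW hWinv => ?_⟩
  · set f := ψ.symm v with hf
    have hv : v = ψ f := (ψ.apply_symm_apply v).symm
    let f' : ∀ j, D j := fun j => ⟨(g : V ≃ₗ[L] V) (f j : V), by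
      simpa [hg] using hmem g j _ (f j).2⟩
    have : ψ f' = (g : V ≃ₗ[L] V) v := by
      rw [hψ, hv, hψ, map_sum]
    rw [← this, ψ.symm_apply_apply]
  · set U : Submodule L V := ⨆ g : G, W.map ((g : V ≃ₗ[L] V) : V →ₗ[L] V) with hU
    have hUinv : ∀ h ∈ G, ∀ u ∈ U, h u ∈ U := by
      intro h hh u hu
      have hle : U.map ((h : V ≃ₗ[L] V) : V →ₗ[L] V) ≤ U := by
        rw [hU, Submodule.map_iSup]
        refine iSup_le fun g => ?_
        rw [← Submodule.map_comp]
        exact le_iSup (fun g : G => W.map ((g : V ≃ₗ[L] V) : V →ₗ[L] V)) (⟨h, hh⟩ * g)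
      exact hle (Submodule.mem_map_of_mem hu)
    rcases hirr.2 U hUinv with h | h
    · left
      refine eq_bot_iff.2 fun w hw => ?_
      rw [← h]
      exact Submodule.mem_iSup_of_mem (1 : G) ⟨w, hw, rfl⟩
    · right
      set R : Submodule L V := ⨆ (j) (_ : j ≠ i), D j
      have hle : U ≤ W ⊔ R := iSup_le fun g => by
        by_cases hg : πh g i = i
        · rintro _ ⟨w, hw, rfl⟩
          exact Submodule.mem_sup_left (hWinv g hg w hw)
        · rintro _ ⟨w, hw, rfl⟩
          exact Submodule.mem_sup_right (Submodule.mem_iSup_of_mem (πh g i)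
            (Submodule.mem_iSup_of_mem hg (hmem g i w (hW hw))))
      rw [h, top_le_iff] at hle
      refine le_antisymm hW ?_
      calc D i = (W ⊔ R) ⊓ D i := by rw [hle, top_inf_eq]
        _ = W ⊔ R ⊓ D i := sup_inf_assoc_of_le R hW
        _ ≤ W := by rw [inf_comm, (hind i).eq_bot, sup_bot_eq]

end

end Cfsg.Agent.Lib.SolvClass
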