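import Cfsg.Agent.Lib.SolvClass.Small
import Mathlib.Algebra.Module.ZMod

/-!
# Soluble linear groups: the combined class number bound

For a finite soluble irreducible group `G` of degree `r` over a finite field, every nilpotent
`K ≤ F(G)` and every `S ≤ G` satisfy `k(V ⋊ K) k(S F(G)/F(G)) ≤ 3^(r-1) |V|`.
-/

set_option autoImplicit false
set_option linter.style.haveILetI false

namespace Cfsg.Agent.Lib.SolvClass

open Module

/-- The bound to be proved in degree `r`. -/
def MainBound (r : ℕ) : Prop :=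
  ∀ (L : Type) [Field L] [Finite L] (V : Type) [AddCommGroup V] [Module L V] [Finite V] (p : ℕ)
    [Fact p.Prime] [CharP L p] (G : Subgroup (V ≃ₗ[L] V)), Group.IsSolvable G → Irr G →
    finrank L V = r → Good G.subtype (fittingSubgroup G) p (3 ^ (r - 1) * Nat.card V)

theorem le_three_pow_sub_one (s : ℕ) (hs : 0 < s) : s ≤ 3 ^ (s - 1) := by
  obtain ⟨n, rfl⟩ : ∃ n, s = n + 1 := ⟨s - 1, by omega⟩
  rw [Nat.add_sub_cancel]
  exact Nat.lt_pow_self (by norm_num)

theorem mul_three_pow_le {s u : ℕ} (hs : 0 < s) (hu : 0 < u) : s * 3 ^ u ≤ 3 ^ (s * u) := by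
  refine (Nat.mul_le_mul_right _ (le_three_pow_sub_one s hs)).trans ?_
  rw [← pow_add]
  refine Nat.pow_le_pow_right (by norm_num) ?_
  obtain ⟨a, rfl⟩ : ∃ a, s = a + 1 := ⟨s - 1, by omega⟩
  rw [Nat.add_sub_cancel, add_mul, one_mul]
  have : a ≤ a * u := Nat.le_mul_of_pos_right _ hu
  omega

theorem three_mul_pow_bound {q : ℕ} (hqp : q.Prime) :
    ∀ e, 0 < e → ¬ (q = 2 ∧ e ≤ 3) → ¬ (q = 3 ∧ e = 1) →
      (3 * q) ^ (2 * e) ≤ 3 ^ q ^ e ∧ 2 * e < q ^ e := by
  have hq := hqp.two_le
  have h5 : ∀ m, 5 ≤ m → 9 * m ^ 2 ≤ 3 ^ m := by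
    intro m hm
    induction m, hm using Nat.le_induction with
    | base => norm_num
    | succ m hm ih =>
      rw [pow_succ 3 m]
      nlinarith
  intro e
  induction e with
  | zero => intro h; omega
  | succ e ih =>
    intro _ h2 h3
    by_cases hbase : q = 2 ∧ e = 3
    · obtain ⟨rfl, rfl⟩ := hbase; norm_num
    by_cases hbase3 : q = 3 ∧ e = 1
    · obtain ⟨rfl, rfl⟩ := hbase3; norm_num
    by_cases he : e = 0
    · subst he
      have hq5 : q = 4 ∨ 5 ≤ q := by omega
      rcases hq5 with rfl | hq5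
      · exact absurd hqp (by norm_num)
      · constructor
        · rw [Nat.zero_add, pow_one, mul_pow]
          exact h5 q hq5
        · rw [Nat.zero_add, pow_one]; omega
    obtain ⟨i1, i2⟩ := ih (by omega) (by omega) (by omega)
    have hsq : (3 * q) ^ 2 ≤ 3 ^ (q ^ e * (q - 1)) := by
      rcases Nat.lt_or_ge q 5 with hq5 | hq5
      · have h8 : 4 ≤ q ^ e * (q - 1) := by
          have : 3 ≤ q ^ e := by omega
          rcases Nat.lt_or_ge q 3 with h | h
          · obtain rfl : q = 2 := by omega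
            omega
          · exact le_trans (by norm_num : 4 ≤ 3 * 2) (Nat.mul_le_mul this (by omega))
        calc (3 * q) ^ 2 ≤ (3 * 4) ^ 2 := Nat.pow_le_pow_left (by omega) 2
          _ ≤ 3 ^ 6 := by norm_num
          _ ≤ 3 ^ (q ^ e * (q - 1)) := Nat.pow_le_pow_right (by norm_num) (by
              rcases Nat.lt_or_ge q 3 with h | h
              · obtain rfl : q = 2 := by omega
                have : 2 ^ 3 ≤ 2 ^ e := Nat.pow_le_pow_right (by norm_num) (by omega)
                omega
              · have : 3 ≤ q ^ e := by omega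
                exact le_trans (by norm_num) (Nat.mul_le_mul this (show 2 ≤ q - 1 by omega)))
      · calc (3 * q) ^ 2 = 9 * q ^ 2 := by ring
          _ ≤ 3 ^ q := h5 q hq5
          _ ≤ 3 ^ (q ^ e * (q - 1)) := Nat.pow_le_pow_right (by norm_num) (by
              have : q ≤ q ^ e := Nat.le_self_pow he q
              exact this.trans (Nat.le_mul_of_pos_right _ (by omega)))
    constructor
    · calc (3 * q) ^ (2 * (e + 1)) = (3 * q) ^ (2 * e) * (3 * q) ^ 2 := by
            rw [← pow_add]; ring_nf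
        _ ≤ 3 ^ q ^ e * 3 ^ (q ^ e * (q - 1)) := Nat.mul_le_mul i1 hsq
        _ = 3 ^ q ^ (e + 1) := by
            rw [← pow_add, pow_succ]
            congr 1
            obtain ⟨a, rfl⟩ : ∃ a, q = a + 1 := ⟨q - 1, by omega⟩
            rw [Nat.add_sub_cancel]; ring
    · rw [pow_succ]
      calc 2 * (e + 1) < q ^ e * 2 := by omega
        _ ≤ q ^ e * q := Nat.mul_le_mul_left _ hq

section split

variable {L : Type} [Field L] {V : Type} [AddCommGroup V] [Module L V] [Finite V]

/-- Splitting the two factors along a normal subgroup. -/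
theorem split_bound (G : Subgroup (V ≃ₗ[L] V)) [Finite G] (F C : Subgroup G) [F.Normal] [C.Normal]
    (K : Subgroup G) (hK : K ≤ F) (S : Subgroup G) {b₁ b₂ : ℕ}
    (h₁ : kv ((K ⊓ C).map G.subtype).subtype ≤ b₁)
    (h₂ : ∀ S' : Subgroup G, S' ≤ C → k (S'.map (QuotientGroup.mk' F)) ≤ b₂) :
    kv (K.map G.subtype).subtype * k (S.map (QuotientGroup.mk' F)) ≤ C.index * (b₁ * b₂) := by
  let ρ : K →* (V ≃ₗ[L] V) := G.subtype.comp K.subtype
  let q : K →* G ⧸ C := (QuotientGroup.mk' C).comp K.subtype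
  have hρ : kv (K.map G.subtype).subtype = kv ρ :=
    (kv_congr ρ _ (K.equivMapOfInjective G.subtype G.subtype_injective) (AddEquiv.refl V)
      fun _ _ => rfl).symm
  have hker : kv (ρ.comp q.ker.subtype) = kv ((K ⊓ C).map G.subtype).subtype := by
    have hr : (ρ.comp q.ker.subtype).range = (K ⊓ C).map G.subtype := by
      ext x
      constructor
      · rintro ⟨⟨⟨y, hy⟩, hq⟩, rfl⟩
        exact ⟨y, ⟨hy, (QuotientGroup.eq_one_iff y).1 hq⟩, rfl⟩
      · rintro ⟨y, ⟨hy, hyC⟩, rfl⟩
        exact ⟨⟨⟨y, hy⟩, (QuotientGroup.eq_one_iff y).2 hyC⟩, rfl⟩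
    have hinj : Function.Injective (ρ.comp q.ker.subtype) :=
      (G.subtype_injective.comp K.subtype_injective).comp q.ker.subtype_injective
    exact kv_congr _ _ ((MonoidHom.ofInjective hinj).trans (MulEquiv.subgroupCongr hr))
      (AddEquiv.refl V) fun _ _ => rfl
  have hK1 : kv (K.map G.subtype).subtype ≤ C.relIndex (F ⊔ C) * b₁ := by
    rw [hρ]
    refine (kv_le_card_range_mul ρ q).trans (Nat.mul_le_mul ?_ (hker ▸ h₁))
    have hr : q.range = K.map (QuotientGroup.mk' C) := by
      rw [MonoidHom.range_comp, Subgroup.range_subtype]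
    rw [hr, Subgroup.relIndex_sup_right]
    calc Nat.card (K.map (QuotientGroup.mk' C)) ≤ Nat.card (F.map (QuotientGroup.mk' C)) :=
          Subgroup.card_le_of_le (Subgroup.map_mono hK)
      _ = C.relIndex F := by rw [← Subgroup.relIndex_ker, QuotientGroup.ker_mk']
  set S' := ((S ⊓ (F ⊔ C)) ⊔ F) ⊓ C with hS'
  have hS1 : k (S.map (QuotientGroup.mk' F)) ≤ b₂ * (F ⊔ C).index := by
    have := k_map_le_mul S (QuotientGroup.mk' F) (QuotientGroup.mk' (F ⊔ C))
      (QuotientGroup.mk' F) fun x _ => by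
        simp only [QuotientGroup.mk'_apply, QuotientGroup.eq_one_iff]
        exact ⟨fun h => ⟨Subgroup.mem_sup_left h, h⟩, fun h => h.2⟩
    rw [QuotientGroup.ker_mk'] at this
    refine this.trans (Nat.mul_le_mul (le_of_eq_of_le ?_ (h₂ S' inf_le_right))
      (k_le_card.trans (Subgroup.card_le_card_group _)))
    have heq : (S ⊓ (F ⊔ C)).map (QuotientGroup.mk' F) = S'.map (QuotientGroup.mk' F) := by
      refine le_antisymm ?_ ?_
      · rintro _ ⟨x, hx, rfl⟩
        obtain ⟨f, hf, c, hc, rfl⟩ := Subgroup.mem_sup_of_normal_right.1 hx.2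
        refine ⟨c, ⟨?_, hc⟩, ?_⟩
        · have : c = f⁻¹ * (f * c) := by group
          rw [this]
          exact Subgroup.mul_mem _ (Subgroup.mem_sup_right (F.inv_mem hf)) (Subgroup.mem_sup_left hx)
        · simp [(QuotientGroup.eq_one_iff f).2 hf]
      · refine (Subgroup.map_mono inf_le_left).trans ?_
        rw [Subgroup.map_sup, QuotientGroup.map_mk'_self, sup_bot_eq]
    rw [heq]
  calc kv (K.map G.subtype).subtype * k (S.map (QuotientGroup.mk' F))
      ≤ C.relIndex (F ⊔ C) * b₁ * (b₂ * (F ⊔ C).index) := Nat.mul_le_mul hK1 hS1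
    _ = C.relIndex (F ⊔ C) * (F ⊔ C).index * (b₁ * b₂) := by ring
    _ = C.index * (b₁ * b₂) := by rw [Subgroup.relIndex_mul_index le_sup_right]

end split

/-- The class number bound for an irreducible soluble action on an elementary abelian `q`-group of
order `q ^ (2 e)`. -/
theorem action_bound {G : Type} [Group G] [Finite G] [Group.IsSolvable G] {r q e : ℕ}
    [Fact q.Prime] (ih : ∀ m < r, MainBound m) (he : 0 < e) (hqr : q ^ e ≤ r)
    {W : Type} [AddCommGroup W] [Module (ZMod q) W] [Finite W] (hcard : Nat.card W = q ^ (2 * e))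
    (act : G → W →+ W) (h1 : ∀ x, act 1 x = x)
    (hmul : ∀ a b x, act (a * b) x = act a (act b x)) (N : Subgroup G) [N.Normal]
    (hN : ∀ g, g ∈ N ↔ ∀ x, act g x = x)
    (hirr : ∀ U : AddSubgroup W, (∀ g, ∀ u ∈ U, act g u ∈ U) → U = ⊥ ∨ U = ⊤)
    (S : Subgroup G) : k (S.map (QuotientGroup.mk' N)) * 3 ≤ 3 ^ q ^ e := by
  classical
  have hq : q.Prime := Fact.out
  let lin : G →* Module.End (ZMod q) W :=
    { toFun := fun g => (act g).toZModLinearMap q
      map_one' := LinearMap.ext h1
      map_mul' := fun a b => LinearMap.ext (hmul a b) }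
  let ρ : G →* (W ≃ₗ[ZMod q] W) :=
    (LinearMap.GeneralLinearGroup.generalLinearEquiv (ZMod q) W).toMonoidHom.comp lin.toHomUnits
  have hρ : ∀ g x, ρ g x = act g x := fun _ _ => rfl
  have hker : ρ.ker = N := by
    ext g
    rw [MonoidHom.mem_ker, hN]
    exact ⟨fun h x => by rw [← hρ, h]; rfl, fun h => LinearEquiv.ext fun x => (hρ g x).trans (h x)⟩
  haveI : Nontrivial W := by
    rw [← Finite.one_lt_card_iff_nontrivial, hcard]
    exact Nat.one_lt_pow (by omega) hq.one_lt
  have hirr' : Irr ρ.range := irr_range ρ fun U hU => by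
    rcases hirr U.toAddSubgroup (fun g u hu => hρ g u ▸ hU g u hu) with h | h
    · exact Or.inl (Submodule.toAddSubgroup_injective (h.trans Submodule.bot_toAddSubgroup.symm))
    · exact Or.inr (Submodule.toAddSubgroup_injective (h.trans Submodule.top_toAddSubgroup.symm))
  haveI := finite_GL (L := ZMod q) (V := W)
  haveI : Module.Finite (ZMod q) W := Module.Finite.of_finite
  have hdim : finrank (ZMod q) W = 2 * e := by
    have := Module.natCard_eq_pow_finrank (K := ZMod q) (V := W)
    rw [hcard, Nat.card_zmod] at this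
    exact (Nat.pow_right_injective hq.two_le this).symm
  have hY : Group.IsSolvable ρ.range := Group.isSolvable_of_surjective ρ.rangeRestrict_surjective
  have e1 : k (S.map (QuotientGroup.mk' N)) = k (S.map ρ.rangeRestrict) :=
    k_map_congr S _ _ fun x _ => by
      rw [← MonoidHom.mem_ker, ← MonoidHom.mem_ker, QuotientGroup.ker_mk',
        MonoidHom.ker_rangeRestrict, hker]
  rw [e1]
  set T := S.map ρ.rangeRestrict with hT
  by_cases hsmall : e = 1 ∧ (q = 2 ∨ q = 3)
  · obtain ⟨rfl, hq⟩ := hsmall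
    have h := k_dim_two (hdim.trans (mul_one 2)) (T.map ρ.range.subtype)
    rw [k_map_injective T ρ.range.subtype ρ.range.subtype_injective, Nat.card_zmod] at h
    rcases hq with rfl | rfl <;> norm_num at h ⊢ <;> omega
  by_cases htwo : q = 2 ∧ (e = 2 ∨ e = 3)
  · obtain ⟨rfl, he⟩ := htwo
    obtain ⟨-, -, h4, h6⟩ := k_two_bound (Nat.card_zmod 2) ρ.range hY hirr' T
    rcases he with rfl | rfl
    · have := h4 hdim; norm_num; omega
    · have := h6 hdim; norm_num; omega
  obtain ⟨hbound, hlt⟩ := three_mul_pow_bound hq e he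
    (fun h => by omega) (fun h => hsmall ⟨h.2, Or.inr h.1⟩)
  -- induction
  have hgood := ih (2 * e) (hlt.trans_le hqr) (ZMod q) W q ρ.range hY hirr' hdim
  have hp : ¬ q ∣ Nat.card ((T ⊓ fittingSubgroup ρ.range).map ρ.range.subtype) := fun h => by
    refine not_dvd_card_fitting q hirr' (h.trans ?_)
    rw [← Nat.card_congr (Subgroup.equivMapOfInjective _ _ ρ.range.subtype_injective).toEquiv]
    exact Subgroup.card_dvd_of_le inf_le_right
  have h3 := hgood (T ⊓ fittingSubgroup ρ.range) inf_le_right hp T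
  rw [hcard] at h3
  have h4 : k T ≤ k ↥(T ⊓ fittingSubgroup ρ.range) *
      k (T.map (QuotientGroup.mk' (fittingSubgroup ρ.range))) := by
    have := k_map_le_mul T (MonoidHom.id _) (QuotientGroup.mk' (fittingSubgroup ρ.range))
      (MonoidHom.id _) fun x _ => ⟨fun hx => ⟨by rw [show x = 1 from hx, map_one], hx⟩, fun hx => hx.2⟩
    rwa [QuotientGroup.ker_mk', Subgroup.map_id, Subgroup.map_id] at this
  have h5 : k ↥(T ⊓ fittingSubgroup ρ.range) ≤
      kv ((T ⊓ fittingSubgroup ρ.range).map ρ.range.subtype).subtype := by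
    refine le_of_eq_of_le ?_ (k_le_kv _)
    exact (k_map_injective _ _ ρ.range.subtype_injective).symm
  have h6 := h4.trans ((Nat.mul_le_mul_right _ h5).trans h3)
  calc k T * 3 ≤ 3 ^ (2 * e - 1) * q ^ (2 * e) * 3 := Nat.mul_le_mul_right _ h6
    _ = (3 * q) ^ (2 * e) := by
        rw [mul_pow, mul_right_comm, ← pow_succ, Nat.sub_add_cancel (by omega)]
    _ ≤ 3 ^ q ^ e := hbound

/-- The class number bound for one piece of the layer. -/
theorem piece_bound {G : Type} [Group G] [Finite G] [Group.IsSolvable G] {F : Frame G}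
    [F.A.Normal] {r : ℕ} (ih : ∀ m < r, MainBound m) (B : Subgroup G) [B.Normal] (q e : ℕ)
    (hP : Piece F B q e) (hqr : q ^ e ≤ r) (S : Subgroup G) :
    k (S.map (QuotientGroup.mk' (cen F.A B))) * 3 ≤ 3 ^ q ^ e := by
  classical
  haveI := Fact.mk hP.prime
  set Bq := B.map (QuotientGroup.mk' F.A) with hBq
  haveI : Bq.Normal := Subgroup.Normal.map inferInstance _ (QuotientGroup.mk'_surjective _)
  letI : CommGroup Bq :=
    { (inferInstance : Group Bq) with
      mul_comm := by
        rintro ⟨-, x, hx, rfl⟩ ⟨-, y, hy, rfl⟩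
        refine Subtype.ext ?_
        have := (QuotientGroup.eq_one_iff (N := F.A) _).2 (F.E_comm x (hP.le hx) y (hP.le hy))
        simp only [QuotientGroup.mk_mul, QuotientGroup.mk_inv] at this
        exact mul_inv_eq_iff_eq_mul.1 (mul_inv_eq_one.1 this) }
  have hexp : ∀ x : Additive Bq, q • x = 0 := fun x => by
    obtain ⟨y, hy, hyx⟩ := (Additive.toMul x).2
    refine Additive.toMul.injective (Subtype.ext ?_)
    show ((Additive.toMul x : Bq) : G ⧸ F.A) ^ q = 1
    rw [← hyx, ← map_pow, QuotientGroup.mk'_apply, QuotientGroup.eq_one_iff]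
    exact hP.pow_mem y hy
  have hcard : Nat.card (Additive Bq) = q ^ (2 * e) := by
    have h := Subgroup.relIndex_ker B (QuotientGroup.mk' F.A)
    rw [QuotientGroup.ker_mk'] at h
    rw [← hP.relIndex, h]
    exact Nat.card_congr Additive.toMul
  let act : G → Additive Bq →+ Additive Bq := fun g =>
    MonoidHom.toAdditive (MulAut.conjNormal (g : G ⧸ F.A) : MulAut Bq).toMonoidHom
  letI := AddCommGroup.zmodModule (n := q) hexp
  refine action_bound ih hP.epos hqr hcard act (fun x => ?_) (fun a b x => ?_) (cen F.A B)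
    (fun g => ?_) (fun U hU => ?_) S
  · refine Additive.toMul.injective ?_
    show MulAut.conjNormal ((1 : G) : G ⧸ F.A) (Additive.toMul x) = Additive.toMul x
    rw [QuotientGroup.mk_one, map_one]
    rfl
  · refine Additive.toMul.injective ?_
    show MulAut.conjNormal ((a * b : G) : G ⧸ F.A) (Additive.toMul x) =
      MulAut.conjNormal (a : G ⧸ F.A) (MulAut.conjNormal (b : G ⧸ F.A) (Additive.toMul x))
    rw [QuotientGroup.mk_mul, map_mul]
    rfl
  · rw [mem_cen]
    constructor
    · intro h x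
      obtain ⟨b, hb, hbx⟩ := (Additive.toMul x).2
      refine Additive.toMul.injective (Subtype.ext ?_)
      show (g : G ⧸ F.A) * ((Additive.toMul x : Bq) : G ⧸ F.A) * (g : G ⧸ F.A)⁻¹ = _
      rw [← hbx]
      have h2 := (QuotientGroup.eq_one_iff (N := F.A) _).2 (h b hb)
      simp only [QuotientGroup.mk_mul, QuotientGroup.mk_inv] at h2
      exact mul_inv_eq_one.1 h2
    · intro h b hb
      have h1 : (g : G ⧸ F.A) * (b : G ⧸ F.A) * (g : G ⧸ F.A)⁻¹ = (b : G ⧸ F.A) :=
        congrArg (fun z => ((Additive.toMul z : Bq) : G ⧸ F.A))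
          (h (Additive.ofMul ⟨_, b, hb, rfl⟩))
      rw [← QuotientGroup.eq_one_iff]
      simp only [QuotientGroup.mk_mul, QuotientGroup.mk_inv, h1]
      exact mul_inv_cancel _
  · -- an invariant subgroup gives a normal subgroup above `A`
    let K : Subgroup G :=
      { carrier := {x | ∃ hx : (x : G ⧸ F.A) ∈ Bq, Additive.ofMul (⟨_, hx⟩ : Bq) ∈ U}
        mul_mem' := by
          rintro a b ⟨ha, ha'⟩ ⟨hb, hb'⟩
          exact ⟨mul_mem ha hb, U.add_mem ha' hb'⟩
        one_mem' := ⟨one_mem _, U.zero_mem⟩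
        inv_mem' := by
          rintro a ⟨ha, ha'⟩
          exact ⟨inv_mem ha, U.neg_mem ha'⟩ }
    have hKn : K.Normal := ⟨by
      rintro x ⟨hx, hx'⟩ g
      exact ⟨(inferInstance : Bq.Normal).conj_mem _ hx (g : G ⧸ F.A), hU g _ hx'⟩⟩
    have hAK : F.A ≤ K := fun a ha => by
      have h1 : (a : G ⧸ F.A) = 1 := (QuotientGroup.eq_one_iff a).2 ha
      refine ⟨h1 ▸ one_mem _, ?_⟩
      convert U.zero_mem using 1
      exact Additive.toMul.injective (Subtype.ext h1)
    have hKB : K ≤ B := by
      rintro x ⟨hx, -⟩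
      obtain ⟨b, hb, hbx⟩ := hx
      have : b⁻¹ * x ∈ F.A := QuotientGroup.eq.1 hbx
      simpa using B.mul_mem hb (hP.lt.le this)
    rcases hP.minimal K hKn hAK hKB with h | h
    · left
      refine (AddSubgroup.eq_bot_iff_forall U).2 fun u hu => ?_
      obtain ⟨b, hb, hbx⟩ := (Additive.toMul u).2
      have hbK : b ∈ K := ⟨⟨b, hb, rfl⟩, by
        convert hu using 1
        exact Additive.toMul.injective (Subtype.ext hbx)⟩
      rw [h] at hbK
      exact Additive.toMul.injective
        (Subtype.ext (hbx.symm.trans ((QuotientGroup.eq_one_iff b).2 hbK)))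
    · right
      refine (AddSubgroup.eq_top_iff' U).2 fun u => ?_
      obtain ⟨b, hb, hbx⟩ := (Additive.toMul u).2
      rw [← h] at hb
      obtain ⟨hb', hb''⟩ := hb
      convert hb'' using 1
      exact Additive.toMul.injective (Subtype.ext hbx.symm)

/-- The primitive case. -/
theorem main_primitive {L : Type} [Field L] [Finite L] {V : Type} [AddCommGroup V] [Module L V]
    [Finite V] (p : ℕ) [Fact p.Prime] [CharP L p] (G : Subgroup (V ≃ₗ[L] V))
    (hsol : Group.IsSolvable G) (hirr : Irr G) (hprim : Prim G)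
    (ih : ∀ m < finrank L V, MainBound m) :
    Good G.subtype (fittingSubgroup G) p (3 ^ (finrank L V - 1) * Nat.card V) := by
  classical
  haveI := finite_GL (L := L) (V := V)
  haveI := hirr.1
  haveI := hsol
  obtain ⟨F⟩ := exists_frame (G := G) hsol
  haveI := F.A_normal
  haveI := F.E_normal
  obtain ⟨s, u, hs, hu, hdim, hidx, -, hsemi, hhom, hsq⟩ :=
    exists_field G hirr hprim F.A F.A_normal F.A_comm
  set C := Subgroup.centralizer (F.A : Set G)
  haveI : C.Normal := Subgroup.normal_centralizer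
  haveI : (fittingSubgroup G).Normal := inferInstance
  obtain ⟨t, ht, hfit, hlayer⟩ := layer_bound hhom F.E F.A_le le_rfl F.E_nondeg
  have htu : t ≤ u := by
    refine (Nat.pow_le_pow_iff_left two_ne_zero).1 ?_
    rw [← ht]
    exact hsq F.E F.A_le F.E_le (fun x hx y hy => F.E_comm y hy x hx) F.E_nondeg
  have hFC : fittingSubgroup G ⊓ C ≤ F.E := by
    rw [← inf_cen_eq (F := F) hhom]
    exact le_inf inf_le_right hfit
  have hEF : F.E ≤ fittingSubgroup G := Frame.E_le_fitting F
  have hpiece : ∀ (B : Subgroup G) [B.Normal] (q e : ℕ), Piece F B q e → ∀ S : Subgroup G,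
      k (S.map (QuotientGroup.mk' (cen F.A B))) * 3 ≤ 3 ^ q ^ e := by
    intro B _ q e hP S
    refine piece_bound ih B q e hP ?_ S
    have hqu : q ^ e ≤ u := by
      refine (Nat.pow_le_pow_iff_left two_ne_zero).1 ?_
      rw [← pow_mul, mul_comm, ← hP.relIndex]
      exact (Subgroup.relIndex_le_of_le_right hP.le Subgroup.index_ne_zero_of_finite).trans
        (hsq F.E F.A_le F.E_le (fun x hx y hy => F.E_comm y hy x hx) F.E_nondeg)
    rw [hdim]
    exact hqu.trans (Nat.le_mul_of_pos_left _ hs)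
  intro K hK hp S
  have h₁ : kv ((K ⊓ C).map G.subtype).subtype ≤ Nat.card V := by
    obtain ⟨v, hv⟩ := exists_ne (0 : V)
    refine kv_le_card_of_stabilizer p _ (Subgroup.subtype_injective _)
      (fun h => hp (h.trans (Subgroup.card_dvd_of_le (Subgroup.map_mono inf_le_left)))) v ?_
    rintro ⟨-, a, ha, rfl⟩ ⟨-, b, hb, rfl⟩ hav hbv
    refine Subtype.ext ?_
    show G.subtype a * G.subtype b = G.subtype b * G.subtype a
    rw [← map_mul, ← map_mul]
    have haE : a ∈ F.E := hFC ⟨hK ha.1, ha.2⟩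
    have hbE : b ∈ F.E := hFC ⟨hK hb.1, hb.2⟩
    have hfix : ((a * b * a⁻¹ * b⁻¹ : G) : V ≃ₗ[L] V) v = v := by
      have ha' : ((a : G) : V ≃ₗ[L] V).symm v = v := by
        rw [LinearEquiv.symm_apply_eq]; exact hav.symm
      have hb' : ((b : G) : V ≃ₗ[L] V).symm v = v := by
        rw [LinearEquiv.symm_apply_eq]; exact hbv.symm
      show (a : V ≃ₗ[L] V) ((b : V ≃ₗ[L] V) ((a : V ≃ₗ[L] V).symm ((b : V ≃ₗ[L] V).symm v))) = v
      rw [hb', ha']
      exact (congrArg _ hbv).trans hav
    have h1 := hsemi _ (F.E_comm a haE b hbE) v hv hfix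
    exact congrArg G.subtype (mul_inv_eq_iff_eq_mul.1 (mul_inv_eq_one.1 h1))
  have h₂ : ∀ S' : Subgroup G, S' ≤ C →
      k (S'.map (QuotientGroup.mk' (fittingSubgroup G))) * 3 ≤ 3 ^ u := by
    intro S' hS'
    rw [k_map_congr S' (QuotientGroup.mk' (fittingSubgroup G)) (QuotientGroup.mk' (cen F.A F.E))
      fun x hx => by
        simp only [QuotientGroup.mk'_apply, QuotientGroup.eq_one_iff]
        exact ⟨fun h => hfit ⟨h, hS' hx⟩, fun h => hEF ((inf_cen_eq (F := F) hhom).le ⟨hS' hx, h⟩)⟩]
    exact (hlayer hpiece S').trans (Nat.pow_le_pow_right (by norm_num) htu)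
  have hu3 : 3 ^ u = 3 ^ (u - 1) * 3 := by rw [← pow_succ, Nat.sub_add_cancel hu]
  refine (split_bound G (fittingSubgroup G) C K hK S h₁ (b₂ := 3 ^ (u - 1)) fun S' hS' => ?_).trans ?_
  · have := h₂ S' hS'
    rw [hu3] at this
    omega
  · have h3 : s * 3 ^ (u - 1) ≤ 3 ^ (finrank L V - 1) := by
      refine Nat.le_of_mul_le_mul_right ?_ (show 0 < 3 by norm_num)
      rw [mul_assoc, ← hu3, ← pow_succ, Nat.sub_add_cancel finrank_pos, hdim]
      exact mul_three_pow_le hs hu
    calc C.index * (Nat.card V * 3 ^ (u - 1)) ≤ s * (Nat.card V * 3 ^ (u - 1)) :=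
          Nat.mul_le_mul_right _ hidx
      _ = s * 3 ^ (u - 1) * Nat.card V := by ring
      _ ≤ _ := Nat.mul_le_mul_right _ h3

/-- The imprimitive case. -/
theorem main_imprimitive {L : Type} [Field L] [Finite L] {V : Type} [AddCommGroup V] [Module L V]
    [Finite V] (p : ℕ) [Fact p.Prime] [CharP L p] (G : Subgroup (V ≃ₗ[L] V))
    (hsol : Group.IsSolvable G) (hirr : Irr G) (hprim : ¬ Prim G)
    (ih : ∀ m < finrank L V, MainBound m) :
    Good G.subtype (fittingSubgroup G) p (3 ^ (finrank L V - 1) * Nat.card V) := by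
  classical
  haveI := finite_GL (L := L) (V := V)
  haveI := hirr.1
  haveI := hsol
  obtain ⟨t, m, D, π, φ, ht, hm, hdim, hrk, hmem, hsum, hφ, hmin⟩ := exists_blocks hirr hprim
  haveI : Nonempty (Fin t) := ⟨⟨0, by omega⟩⟩
  let T : Fin t → Subgroup G := fun i =>
    (MulAction.stabilizer (Equiv.Perm (Fin t)) i).comap π
  have hinv : ∀ (i : Fin t) (g : T i), ∀ w ∈ D i, ((g : G) : V ≃ₗ[L] V) w ∈ D i := fun i g w hw => by
    have h1 : π g i = i := g.2
    simpa [h1] using hmem (g : G) i w hw
  let σ := fun i : Fin t => subRep (G.subtype.comp (T i).subtype) (D i) (hinv i)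
  have hH : ∀ i, Good (σ i).range.subtype (fittingSubgroup (σ i).range) p
      (3 ^ (m - 1) * Nat.card (D i)) := by
    intro i
    haveI : Nontrivial (D i) := by
      rw [← Module.finrank_pos_iff (R := L), hrk]; omega
    refine ih m (by nlinarith) L (D i) p (σ i).range
      (Group.isSolvable_of_surjective (σ i).rangeRestrict_surjective) (irr_range (σ i) ?_) (hrk i)
    intro W hW
    rcases hmin i (W.map (D i).subtype) (Submodule.map_subtype_le _ _) (fun g hg w hw => by
        obtain ⟨x, hx, rfl⟩ := hw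
        exact ⟨_, hW ⟨g, hg⟩ x hx, rfl⟩) with h | h
    · exact Or.inl (Submodule.map_injective_of_injective (D i).injective_subtype
        (h.trans (Submodule.map_bot _).symm))
    · exact Or.inr (Submodule.map_injective_of_injective (D i).injective_subtype
        (h.trans (Submodule.map_subtype_top _).symm))
  set B := π.ker with hB
  have hBi : ∀ i, B ≤ T i := fun i g hg => by
    show π g i = i
    rw [MonoidHom.mem_ker.1 hg]; rfl
  let ψ : ∀ i, B →* (σ i).range := fun i => (σ i).rangeRestrict.comp (Subgroup.inclusion (hBi i))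
  let N : Fin t → Subgroup B := fun i => (fittingSubgroup (σ i).range).comap (ψ i)
  haveI : (⨅ i, N i).Normal := Subgroup.normal_iInf_normal fun _ => inferInstance
  have hgood : Good (G.subtype.comp B.subtype) (⨅ i, N i) p ((3 ^ (m - 1) * Nat.card L ^ m) ^ t) :=
    Good.pi p (G.subtype.comp B.subtype) (fun i => D i)
      (fun i => (σ i).range.subtype.comp (ψ i)) φ
      (fun a v i => Subtype.ext (hφ (a : G) a.2 v i)) N _ fun i => by
        refine ((hH i).comp (ψ i)).mono (le_of_eq ?_)
        rw [Module.natCard_eq_pow_finrank (K := L) (V := D i), hrk]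
  haveI : Finite B := inferInstance
  -- the kernel of the action on the blocks meets `F(G)` in the product of the Fitting subgroups
  have hNeq : (fittingSubgroup G).subgroupOf B = ⨅ i, N i := by
    refine le_antisymm (le_iInf fun i x hx => ?_) ?_
    · have h1 : ((fittingSubgroup G ⊓ B).subgroupOf (T i)).map (σ i).rangeRestrict ≤
          fittingSubgroup (σ i).range := by
        haveI : ((fittingSubgroup G ⊓ B).subgroupOf (T i)).Normal :=
          (inferInstance : (fittingSubgroup G ⊓ B).Normal).subgroupOf _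
        haveI := Subgroup.Normal.map (H := (fittingSubgroup G ⊓ B).subgroupOf (T i)) inferInstance
          _ (σ i).rangeRestrict_surjective
        refine Cores.le_fittingSubgroup (Cores.isNilpotent_map _ ?_)
        haveI : Group.IsNilpotent ↥(fittingSubgroup G ⊓ B) :=
          Cores.isNilpotent_of_le inf_le_left Cores.fittingSubgroup_isNilpotent
        exact Group.nilpotent_of_mulEquiv (Subgroup.subgroupOfEquivOfLe
          ((inf_le_right : fittingSubgroup G ⊓ B ≤ B).trans (hBi i))).symm
      exact h1 ⟨Subgroup.inclusion (hBi i) x, ⟨hx, x.2⟩, rfl⟩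
    · have hnil : Group.IsNilpotent ↥(⨅ i, N i) := by
        let f : ↥(⨅ i, N i) →* ∀ i, fittingSubgroup (σ i).range :=
          MonoidHom.pi fun i => ((ψ i).comp (⨅ j, N j).subtype).codRestrict _ fun x =>
            (Subgroup.mem_iInf.1 x.2 i : _)
        haveI : ∀ i, Finite (D i ≃ₗ[L] D i) := fun i => finite_GL
        haveI : ∀ i, Group.IsNilpotent (fittingSubgroup (σ i).range) := fun i =>
          Cores.fittingSubgroup_isNilpotent
        suffices hf : Function.Injective f from
          Group.nilpotent_of_mulEquiv (MonoidHom.ofInjective hf).symm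
        refine (injective_iff_map_eq_one f).2 fun x hx => ?_
        refine Subtype.ext (Subtype.ext (Subtype.ext (LinearEquiv.ext fun v =>
          φ.injective (funext fun i => Subtype.ext ?_))))
        refine (hφ ((x : B) : G) (x : B).2 v i).trans ?_
        exact (congrArg (fun z : fittingSubgroup (σ i).range =>
          ((((z : (σ i).range) : D i ≃ₗ[L] D i)) (φ v i) : V)) (congrFun hx i) :)
      have h1 := Cores.le_fittingSubgroup (N := ⨅ i, N i) hnil
      intro x hx
      rw [Subgroup.mem_subgroupOf]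
      have h2 := Subgroup.mem_map_of_mem B.subtype (h1 hx)
      rw [Cores.map_subtype_fittingSubgroup B] at h2
      exact h2.2
  intro K hK hp S
  set Fi := fittingSubgroup G
  obtain ⟨b₁, b₂, hprod, hK1, hS1⟩ : ∃ b₁ b₂, b₁ * b₂ ≤ (3 ^ (m - 1) * Nat.card L ^ m) ^ t ∧
      kv ((K ⊓ B).map G.subtype).subtype ≤ b₁ ∧
      ∀ S' : Subgroup G, S' ≤ B → k (S'.map (QuotientGroup.mk' Fi)) ≤ b₂ := by
    refine ⟨_, (3 ^ (m - 1) * Nat.card L ^ m) ^ t / kv ((K ⊓ B).map G.subtype).subtype,
      Nat.mul_div_le _ _, le_rfl, fun S' hS' => ?_⟩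
    have hmap : ((K ⊓ B).subgroupOf B).map (G.subtype.comp B.subtype) = (K ⊓ B).map G.subtype := by
      rw [← Subgroup.map_map, Subgroup.subgroupOf_map_subtype, inf_assoc, inf_idem]
    have h := hgood ((K ⊓ B).subgroupOf B)
      (hNeq ▸ fun x hx => (hK (Subgroup.mem_subgroupOf.1 hx).1 : (x : G) ∈ Fi))
      (by rw [hmap]; exact fun h => hp (h.trans (Subgroup.card_dvd_of_le (Subgroup.map_mono inf_le_left))))
      (S'.subgroupOf B)
    rw [kv_subgroup_congr hmap] at h
    have hS : k ((S'.subgroupOf B).map (QuotientGroup.mk' (⨅ i, N i))) =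
        k (S'.map (QuotientGroup.mk' Fi)) := by
      conv_rhs => rw [← inf_eq_left.2 hS', ← Subgroup.subgroupOf_map_subtype, Subgroup.map_map]
      refine k_map_congr _ _ _ fun x _ => ?_
      simp only [MonoidHom.comp_apply, QuotientGroup.mk'_apply, QuotientGroup.eq_one_iff,
        Subgroup.coe_subtype]
      rw [← hNeq]
      rfl
    rw [hS] at h
    have hpos : 0 < kv ((K ⊓ B).map G.subtype).subtype := k_pos
    rw [Nat.le_div_iff_mul_le hpos, mul_comm]
    exact h
  refine (split_bound G Fi B K hK S hK1 hS1).trans ?_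
  have hX : B.index * 3 ≤ 3 ^ t := by
    rw [hB, Subgroup.index_ker]
    have := Perm.card_mul_three_le π.range
      (Group.isSolvable_of_surjective π.rangeRestrict_surjective)
    rwa [Nat.card_eq_fintype_card (α := Fin t), Fintype.card_fin] at this
  have hV : Nat.card V = (Nat.card L ^ m) ^ t := by
    haveI : Module.Finite L V := Module.Finite.of_finite
    rw [Module.natCard_eq_pow_finrank (K := L), ← hdim, mul_comm, pow_mul]
  refine Nat.le_of_mul_le_mul_right ?_ (show 0 < 3 by norm_num)
  have h3 : 3 ^ t * (3 ^ (m - 1)) ^ t = 3 ^ finrank L V := by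
    rw [← pow_mul, ← pow_add, ← hdim]
    congr 1
    obtain ⟨a, rfl⟩ : ∃ a, m = a + 1 := ⟨m - 1, by omega⟩
    rw [Nat.add_sub_cancel]; ring
  calc B.index * (b₁ * b₂) * 3 = B.index * 3 * (b₁ * b₂) := by ring
    _ ≤ 3 ^ t * (3 ^ (m - 1) * Nat.card L ^ m) ^ t := Nat.mul_le_mul hX hprod
    _ = 3 ^ finrank L V * Nat.card V := by rw [mul_pow, ← mul_assoc, h3, ← hV]
    _ = 3 ^ (finrank L V - 1) * Nat.card V * 3 := by
        rw [mul_right_comm, ← pow_succ, Nat.sub_add_cancel finrank_pos]

/-- The combined bound for soluble irreducible linear groups. -/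
theorem mainBound (r : ℕ) : MainBound r := by
  induction r using Nat.strong_induction_on with
  | _ r ih =>
  intro L _ _ V _ _ _ p _ _ G hsol hirr hr
  subst hr
  by_cases h : Prim G
  · exact main_primitive p G hsol hirr h ih
  · exact main_imprimitive p G hsol hirr h ih

end Cfsg.Agent.Lib.SolvClass
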