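import Cfsg.Agent.Lib.SolvClass.Basic
import Cfsg.Agent.Lib.Clifford.Gallagher
import Cfsg.Agent.Lib.Brauer.ExtensionChar
import Cfsg.Agent.Lib.Characters.Complete
import Mathlib.LinearAlgebra.FiniteDimensional.Lemmas

/-!
# The number of irreducible characters over a character of a normal subgroup

There are at most `k(T / N)` of them, where `T` is the inertia group.
-/

set_option autoImplicit false
set_option linter.style.haveILetI false

namespace Cfsg.Agent.Lib.SolvClass.OverTheta

open Cfsg.Agent.Lib.Induced.Basic Cfsg.Agent.Lib.Characters.Basic Cfsg.Agent.Lib.Characters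
open Cfsg.Agent.Lib.Clifford.Basic

universe u

variable {G : Type u} [Group G]

/-- Being a constituent of the restriction to `N`. -/
def Over (N : Subgroup G) [Fintype N] (θ : Cfsg.IrrCharacter N) (χ : G → ℂ) : Prop :=
  Cfsg.classInner (fun n : N => χ n) (θ : N → ℂ) ≠ 0

variable (N : Subgroup G) [hN : N.Normal] [Fintype N]

/-- A character of `N` seen on the copy of `N` inside an overgroup. -/
noncomputable def transfer (θ : Cfsg.IrrCharacter N) {T : Subgroup G} (hNT : N ≤ T) :
    Cfsg.IrrCharacter (N.subgroupOf T) :=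
  ⟨(θ : N → ℂ) ∘ (Subgroup.subgroupOfEquivOfLe hNT).toMonoidHom,
    isIrrCharacter_comp _ (Subgroup.subgroupOfEquivOfLe hNT).surjective θ.2⟩

omit hN in
theorem transfer_apply (θ : Cfsg.IrrCharacter N) {T : Subgroup G} (hNT : N ≤ T)
    (x : N.subgroupOf T) :
    (transfer N θ hNT : N.subgroupOf T → ℂ) x = (θ : N → ℂ) ⟨((x : T) : G), x.2⟩ := rfl

omit hN in
theorem classInner_transfer (θ : Cfsg.IrrCharacter N) {T : Subgroup G} (hNT : N ≤ T)
    [Fintype (N.subgroupOf T)] (φ : T → ℂ) :
    Cfsg.classInner (fun x : N.subgroupOf T => φ x) (transfer N θ hNT : N.subgroupOf T → ℂ) =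
      Cfsg.classInner (fun n : N => φ ⟨(n : G), hNT n.2⟩) (θ : N → ℂ) := by
  simp only [Cfsg.classInner, Nat.card_congr (Subgroup.subgroupOfEquivOfLe hNT).toEquiv]
  congr 1
  exact Fintype.sum_equiv (Subgroup.subgroupOfEquivOfLe hNT).toEquiv _ _ fun x => rfl

theorem transfer_inv (θ : Cfsg.IrrCharacter N) {T : Subgroup G} (hNT : N ≤ T)
    (hinv : ∀ t ∈ T, conjC N t θ = (θ : N → ℂ)) (t : T) :
    conjC (N.subgroupOf T) t (transfer N θ hNT) = (transfer N θ hNT : N.subgroupOf T → ℂ) := by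
  funext x
  exact congrFun (hinv t t.2) (Subgroup.subgroupOfEquivOfLe hNT x)

variable [Fintype G]

/-- Constituents on `N` of a constituent over an invariant character. -/
theorem over_of_constituent (θ : Cfsg.IrrCharacter N) (hinv : ∀ g, conjC N g θ = (θ : N → ℂ))
    {χ : Cfsg.IrrCharacter G} (hχ : Over N θ χ) {η : Cfsg.IrrCharacter N}
    (hη : Over N η χ) : η = θ := by
  obtain ⟨g, hg⟩ := exists_conj_of_constituents N χ.2 (θ := θ) (ψ := η) hχ hη
  exact Subtype.ext (by rw [← hg, hinv])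

/-- On each coset the characters over an invariant `θ` are multiples of one function. -/
theorem exists_coset_function (θ : Cfsg.IrrCharacter N) (hinv : ∀ g, conjC N g θ = (θ : N → ℂ))
    (g : G) : ∃ φ : G → ℂ, ∀ χ : Cfsg.IrrCharacter G, Over N θ χ →
      ∃ c : ℂ, ∀ n : N, (χ : G → ℂ) (n * g) = c * φ (n * g) := by
  classical
  let C : Subgroup G := N ⊔ Subgroup.zpowers g
  have hNC : N ≤ C := le_sup_left
  have hgC : g ∈ C := Subgroup.mem_sup_right (Subgroup.mem_zpowers g)
  have : Fintype C := Fintype.ofFinite _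
  have : Fintype (N.subgroupOf C) := Fintype.ofFinite _
  have hcyc : IsCyclic (C ⧸ N.subgroupOf C) := by
    refine isCyclic_of_surjective (zpowersHom _ (QuotientGroup.mk (⟨g, hgC⟩ : C))) fun q => ?_
    induction q using QuotientGroup.induction_on with
    | H x =>
      obtain ⟨n, hn, z, ⟨j, rfl⟩, hx⟩ := Subgroup.mem_sup_of_normal_left.1 x.2
      refine ⟨Multiplicative.ofAdd j, ?_⟩
      rw [zpowersHom_apply, toAdd_ofAdd, ← QuotientGroup.mk_zpow, eq_comm,
        ← mul_inv_eq_one, ← QuotientGroup.mk_inv, ← QuotientGroup.mk_mul, QuotientGroup.eq_one_iff,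
        Subgroup.mem_subgroupOf]
      simpa [← hx] using hn
  have hinv' : ∀ t : C, conjC (N.subgroupOf C) t (transfer N θ hNC) =
      (transfer N θ hNC : N.subgroupOf C → ℂ) := transfer_inv N θ hNC fun t _ => hinv t
  obtain ⟨ϑ, hϑ, hext⟩ := Brauer.ExtensionChar.exists_extension_cyclic (N.subgroupOf C)
    (transfer N θ hNC).2 fun t n => congrFun (hinv' t) n
  refine ⟨Cfsg.extendByZero C ϑ, fun χ hχ => ?_⟩
  have := Fintype.ofFinite (Cfsg.IrrCharacter C)
  have key : ∀ α : Cfsg.IrrCharacter C, ∃ c : ℂ, ∀ n : N,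
      Cfsg.classInner (fun t : C => (χ : G → ℂ) t) α *
        (α : C → ℂ) (⟨(n : G), hNC n.2⟩ * ⟨g, hgC⟩) = c * ϑ (⟨(n : G), hNC n.2⟩ * ⟨g, hgC⟩) := by
    intro α
    by_cases h0 : Cfsg.classInner (fun t : C => (χ : G → ℂ) t) α = 0
    · exact ⟨0, fun n => by rw [h0, zero_mul, zero_mul]⟩
    obtain ⟨η, hη⟩ := exists_constituent_restrict (N.subgroupOf C) α.2
    have hcomp := classInner_comp_ne_zero (N.subgroupOf C).subtype
      (φ := fun t : C => (χ : G → ℂ) t) (isCharacter_comp C.subtype (isCharacter_irr χ)) h0 hη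
    let e := Subgroup.subgroupOfEquivOfLe hNC
    let η₀ : Cfsg.IrrCharacter N :=
      ⟨(η : N.subgroupOf C → ℂ) ∘ e.symm.toMonoidHom, isIrrCharacter_comp _ e.symm.surjective η.2⟩
    have heta : η = transfer N η₀ hNC :=
      Subtype.ext (funext fun x => congrArg (η : N.subgroupOf C → ℂ) (e.symm_apply_apply x).symm)
    have hθη : η₀ = θ := by
      refine over_of_constituent N θ hinv hχ ?_
      have h := hcomp
      rw [heta] at h
      exact fun h1 => h ((classInner_transfer N η₀ hNC fun t : C => (χ : G → ℂ) t).trans h1)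
    rw [heta, hθη] at hη
    have hmul : (fun _ : N.subgroupOf C => (1 : ℂ)) * (transfer N θ hNC : N.subgroupOf C → ℂ) =
        (transfer N θ hNC : N.subgroupOf C → ℂ) := funext fun _ => one_mul _
    have hgal := (Clifford.Gallagher.gallagher (N.subgroupOf C) (fun _ => (1 : ℂ))
      (transfer N θ hNC : N.subgroupOf C → ℂ) (oneChar (N.subgroupOf C)).2
      (fun t => rfl) hinv' (by rw [hmul]; exact (transfer N θ hNC).2) hϑ hext).2.2 α (by
        rw [hmul, frobenius_reciprocity (N.subgroupOf C) _ (isClassFunction_irr α)]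
        exact classInner_ne_zero_symm hη)
    obtain ⟨β, hβ, hαβ⟩ := hgal
    refine ⟨Cfsg.classInner (fun t : C => (χ : G → ℂ) t) α * (β : C → ℂ) ⟨g, hgC⟩, fun n => ?_⟩
    rw [hαβ, Pi.mul_apply, ← Clifford.Gallagher.apply_mul_of_over_one (N.subgroupOf C) β hβ
      ⟨⟨(n : G), hNC n.2⟩, n.2⟩ ⟨g, hgC⟩]
    ring
  choose c hc using key
  refine ⟨∑ α, c α, fun n => ?_⟩
  have hmem : (n : G) * g ∈ C := mul_mem (hNC n.2) hgC
  rw [extendByZero_of_mem C _ hmem]
  have hdec := congrFun (character_eq_finsum (isCharacter_comp C.subtype (isCharacter_irr χ)))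
    ⟨(n : G) * g, hmem⟩
  rw [finsum_eq_sum_of_fintype, Finset.sum_apply] at hdec
  refine hdec.trans ?_
  rw [Finset.sum_mul]
  refine Finset.sum_congr rfl fun α _ => ?_
  rw [Pi.smul_apply, smul_eq_mul]
  exact hc α n

/-- At most `k(G / N)` irreducible characters lie over an invariant character. -/
theorem card_over_le_of_inv (θ : Cfsg.IrrCharacter N) (hinv : ∀ g, conjC N g θ = (θ : N → ℂ)) :
    Nat.card {χ : Cfsg.IrrCharacter G // Over N θ χ} ≤ k (G ⧸ N) := by
  classical
  haveI := Fintype.ofFinite {χ : Cfsg.IrrCharacter G // Over N θ χ}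
  haveI := Fintype.ofFinite (ConjClasses (G ⧸ N))
  choose φ hφ using exists_coset_function N θ hinv
  have hsurj : ∀ c : ConjClasses (G ⧸ N), ∃ g : G, ConjClasses.mk (g : G ⧸ N) = c := by
    intro c
    obtain ⟨q, rfl⟩ := ConjClasses.mk_surjective c
    obtain ⟨g, rfl⟩ := QuotientGroup.mk_surjective q
    exact ⟨g, rfl⟩
  choose r hr using hsurj
  have hpt : ∀ c : ConjClasses (G ⧸ N), ∃ m : N,
      ∀ n : N, φ (r c) (n * r c) ≠ 0 → φ (r c) (m * r c) ≠ 0 := by
    intro c
    by_cases h : ∃ m : N, φ (r c) (m * r c) ≠ 0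
    · obtain ⟨m, hm⟩ := h
      exact ⟨m, fun _ _ => hm⟩
    · exact ⟨1, fun n hn => (h ⟨n, hn⟩).elim⟩
  choose m hm using hpt
  let L : ({χ : Cfsg.IrrCharacter G // Over N θ χ} → ℂ) →ₗ[ℂ] (ConjClasses (G ⧸ N) → ℂ) :=
    { toFun := fun b c => ∑ χ, b χ * (χ.1 : G → ℂ) (m c * r c)
      map_add' := fun a b => funext fun c => by simp [add_mul, Finset.sum_add_distrib]
      map_smul' := fun a b => funext fun c => by simp [Finset.mul_sum, mul_assoc] }
  have hL : Function.Injective L := by
    refine (injective_iff_map_eq_zero L).2 fun b hb => ?_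
    have hcl : ∀ χ : Cfsg.IrrCharacter G, Cfsg.IsClassFunction G (χ : G → ℂ) := isClassFunction_irr
    have hzero : ∑ χ, b χ • (χ.1 : G → ℂ) = 0 := by
      funext x
      obtain ⟨h, hh⟩ := isConj_iff.1 (ConjClasses.mk_eq_mk_iff_isConj.1
        (hr (ConjClasses.mk (x : G ⧸ N))).symm)
      set c := ConjClasses.mk (x : G ⧸ N) with hc
      obtain ⟨y, rfl⟩ := QuotientGroup.mk_surjective h
      have hn : y * x * y⁻¹ * (r c)⁻¹ ∈ N := by
        rw [← QuotientGroup.eq_one_iff]
        simp [← hh]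
      have hx : y * x * y⁻¹ = ((⟨_, hn⟩ : N) : G) * r c := by simp
      have hconj : ∀ χ : Cfsg.IrrCharacter G,
          (χ : G → ℂ) x = (χ : G → ℂ) (((⟨_, hn⟩ : N) : G) * r c) := fun χ => by
        rw [← hx]
        exact classFunction_apply_of_isConj (hcl χ) (isConj_iff.2 ⟨y, rfl⟩)
      choose a ha using fun χ : {χ : Cfsg.IrrCharacter G // Over N θ χ} => hφ (r c) χ.1 χ.2
      have h1 : (∑ χ, b χ * a χ) * φ (r c) (m c * r c) = 0 := by
        have := congrFun hb c
        simp only [L, LinearMap.coe_mk, AddHom.coe_mk, Pi.zero_apply, ha] at this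
        rw [Finset.sum_mul, ← this]
        exact Finset.sum_congr rfl fun χ _ => mul_assoc _ _ _
      rw [Finset.sum_apply, Pi.zero_apply]
      have h4 : ∑ χ, (b χ • (χ.1 : G → ℂ)) x =
          (∑ χ, b χ * a χ) * φ (r c) (((⟨_, hn⟩ : N) : G) * r c) := by
        rw [Finset.sum_mul]
        exact Finset.sum_congr rfl fun χ _ => by
          rw [Pi.smul_apply, smul_eq_mul, hconj, ha, ← mul_assoc]
      rw [h4]
      rcases mul_eq_zero.1 h1 with h2 | h2
      · rw [h2, zero_mul]
      · rw [not_not.1 fun h3 => hm c ⟨_, hn⟩ h3 h2, mul_zero]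
    funext χ
    exact Fintype.linearIndependent_iff.1
      ((linearIndependent_irr (G := G)).comp Subtype.val Subtype.val_injective) b hzero χ
  have := LinearMap.finrank_le_finrank_of_injective hL
  rw [Module.finrank_fintype_fun_eq_card, Module.finrank_fintype_fun_eq_card,
    ← Nat.card_eq_fintype_card, ← Nat.card_eq_fintype_card] at this
  exact this

/-- The version inside a subgroup `T` fixing `θ`. -/
theorem card_over_sub_le (θ : Cfsg.IrrCharacter N) (T : Subgroup G) [Fintype T] (hNT : N ≤ T)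
    (hinv : ∀ t ∈ T, conjC N t θ = (θ : N → ℂ)) :
    Nat.card {ψ : Cfsg.IrrCharacter T //
        Cfsg.classInner (fun n : N => (ψ : T → ℂ) ⟨(n : G), hNT n.2⟩) (θ : N → ℂ) ≠ 0} ≤
      k (T.map (QuotientGroup.mk' N)) := by
  classical
  haveI : Fintype (N.subgroupOf T) := Fintype.ofFinite _
  have h := card_over_le_of_inv (N.subgroupOf T) (transfer N θ hNT) (transfer_inv N θ hNT hinv)
  let f : T →* G ⧸ N := (QuotientGroup.mk' N).comp T.subtype
  have hker : f.ker = N.subgroupOf T := by
    ext x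
    simp [f, Subgroup.mem_subgroupOf]
  have hrange : f.range = T.map (QuotientGroup.mk' N) := by
    rw [MonoidHom.range_comp, Subgroup.range_subtype]
  rw [k_congr (((QuotientGroup.quotientMulEquivOfEq hker.symm).trans
    (QuotientGroup.quotientKerEquivRange f)).trans (MulEquiv.subgroupCongr hrange))] at h
  refine le_of_eq_of_le (Nat.card_congr (Equiv.subtypeEquivRight fun ψ => ?_)) h
  rw [Over, classInner_transfer N θ hNT (ψ : T → ℂ)]

/-- The number of characters over `θ` is bounded through the inertia group. -/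
theorem card_over_le (θ : Cfsg.IrrCharacter N) :
    Nat.card {χ : Cfsg.IrrCharacter G // Over N θ χ} ≤
      k ((inertia N (θ : N → ℂ)).map (QuotientGroup.mk' N)) := by
  classical
  set T := inertia N (θ : N → ℂ) with hT
  haveI : Fintype T := Fintype.ofFinite _
  have hNT : N ≤ T := le_inertia N (isClassFunction_irr θ)
  choose ψ hψ hind hres _ using fun χ : {χ : Cfsg.IrrCharacter G // Over N θ χ} =>
    exists_correspondent N χ.1.2 θ χ.2 T hT hNT
  refine le_trans (Nat.card_le_card_of_injective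
    (fun χ => (⟨⟨ψ χ, hψ χ⟩, ?_⟩ : {ψ : Cfsg.IrrCharacter T //
        Cfsg.classInner (fun n : N => (ψ : T → ℂ) ⟨(n : G), hNT n.2⟩) (θ : N → ℂ) ≠ 0}))
    fun χ χ' h => ?_) (card_over_sub_le N θ T hNT fun t ht => ht)
  · show Cfsg.classInner (fun n : N => ψ χ ⟨(n : G), hNT n.2⟩) (θ : N → ℂ) ≠ 0
    rw [hres χ, classInner_smul_left, classInner_self_irr, mul_one]
    exact χ.2
  · refine Subtype.ext (Subtype.ext ?_)
    have h' : ψ χ = ψ χ' := congrArg (fun x => (x.1 : T → ℂ)) h
    rw [← hind χ, ← hind χ', h']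

/-- Two-step bound over an invariant character through a normal subgroup `M` above `N`. -/
theorem card_over_le_mul (θ : Cfsg.IrrCharacter N) (hinv : ∀ g, conjC N g θ = (θ : N → ℂ))
    (M : Subgroup G) [M.Normal] [Fintype M] (hNM : N ≤ M) (bound : ℕ)
    (hb : ∀ T : Subgroup G,
      k (M.map (QuotientGroup.mk' N)) * k (T.map (QuotientGroup.mk' M)) ≤ bound) :
    Nat.card {χ : Cfsg.IrrCharacter G // Over N θ χ} ≤ bound := by
  classical
  set A := {ν : Cfsg.IrrCharacter M //
    Cfsg.classInner (fun n : N => (ν : M → ℂ) ⟨(n : G), hNM n.2⟩) (θ : N → ℂ) ≠ 0}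
  have hν : ∀ χ : {χ : Cfsg.IrrCharacter G // Over N θ χ}, ∃ ν : A, Over M ν.1 χ.1 := by
    intro χ
    obtain ⟨ν, hν⟩ := exists_constituent_restrict M χ.1.2
    obtain ⟨η, hη⟩ := exists_constituent
      (isCharacter_comp (Subgroup.inclusion hNM) (isCharacter_irr ν)) (fun h => by
        have := congrFun h 1
        rw [Function.comp_apply, map_one, Pi.zero_apply] at this
        exact apply_one_ne_zero ν this)
    have h1 := classInner_comp_ne_zero (Subgroup.inclusion hNM)
      (φ := fun x : M => (χ.1 : G → ℂ) x) (isCharacter_comp M.subtype (isCharacter_irr χ.1)) hν hη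
    have h2 : η = θ := over_of_constituent N θ hinv χ.2 h1
    exact ⟨⟨ν, h2 ▸ hη⟩, hν⟩
  choose ν hν using hν
  haveI := Fintype.ofFinite A
  have hA : Nat.card A ≤ k (M.map (QuotientGroup.mk' N)) :=
    card_over_sub_le N θ M hNM fun t _ => hinv t
  have hsig : Nat.card {χ : Cfsg.IrrCharacter G // Over N θ χ} ≤
      Nat.card (Σ a : A, {χ : Cfsg.IrrCharacter G // Over M a.1 χ}) :=
    Nat.card_le_card_of_injective (fun χ => ⟨ν χ, χ.1, hν χ⟩)
      fun χ χ' h => Subtype.ext (congrArg (fun x => x.2.1) h)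
  rw [Nat.card_sigma] at hsig
  refine hsig.trans ?_
  by_cases hAe : IsEmpty A
  · simp
  rw [not_isEmpty_iff] at hAe
  obtain ⟨a₀, -, hmax⟩ := Finset.exists_max_image (Finset.univ : Finset A)
    (fun a => Nat.card {χ : Cfsg.IrrCharacter G // Over M a.1 χ}) Finset.univ_nonempty
  refine (Finset.sum_le_card_nsmul _ _ _ fun a ha => hmax a ha).trans ?_
  rw [smul_eq_mul, Finset.card_univ, ← Nat.card_eq_fintype_card]
  exact (Nat.mul_le_mul hA (card_over_le M a₀.1)).trans (hb _)

end Cfsg.Agent.Lib.SolvClass.OverTheta
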