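import Cfsg.Agent.S0547
import Cfsg.Agent.S0548
import Mathlib.GroupTheory.Perm.Basic
import Mathlib.GroupTheory.GroupAction.Blocks
import Mathlib.SetTheory.Cardinal.Embedding
import Mathlib.Data.Fintype.CardEmbedding
import Mathlib.Algebra.BigOperators.Finprod
import Mathlib.SetTheory.Cardinal.Finite

/-!
# The order of a soluble permutation group

A soluble permutation group of degree `m ≥ 1` has order at most `3^(m-1)`.
-/

set_option autoImplicit false
set_option linter.style.haveILetI false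

namespace Cfsg.Agent.Lib.SolvClass.Perm

open MulAction
open scoped Pointwise

/-- Restriction of a group of permutations to an invariant set. -/
def res {Ω H : Type*} [Group H] (f : H →* Equiv.Perm Ω) (O : Set Ω)
    (hO : ∀ h x, f h x ∈ O ↔ x ∈ O) : H →* Equiv.Perm O where
  toFun h := (f h).subtypePerm (hO h)
  map_one' := Equiv.ext fun x => Subtype.ext (by simp)
  map_mul' a b := Equiv.ext fun x => Subtype.ext (congrArg (fun π : Equiv.Perm Ω => π x) (map_mul f a b) :)

theorem res_apply {Ω H : Type*} [Group H] (f : H →* Equiv.Perm Ω) (O : Set Ω)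
    (hO : ∀ h x, f h x ∈ O ↔ x ∈ O) (h : H) (x : O) : (res f O hO h x : Ω) = f h x := rfl

/-- Generators of a `q`-group, few in number. -/
theorem exists_generators {M : Type*} [Group M] [Finite M] {q : ℕ} (hq : q.Prime)
    (hM : IsPGroup q M) :
    ∃ S : Finset M, (1 : M) ∉ S ∧ Subgroup.closure (S : Set M) = ⊤ ∧ q ^ S.card ≤ Nat.card M := by
  classical
  haveI := Fact.mk hq
  suffices ∀ n : ℕ, ∃ S : Finset M, (1 : M) ∉ S ∧
      q ^ S.card ≤ Nat.card (Subgroup.closure (S : Set M)) ∧
      (Subgroup.closure (S : Set M) = ⊤ ∨ n ≤ S.card) by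
    obtain ⟨S, h1, h2, h3⟩ := this (Nat.card M + 1)
    rcases h3 with h3 | h3
    · refine ⟨S, h1, h3, ?_⟩
      rw [h3, Subgroup.card_top] at h2
      exact h2
    · haveI := Fintype.ofFinite M
      have := S.card_le_univ
      rw [← Nat.card_eq_fintype_card] at this
      omega
  intro n
  induction n with
  | zero => exact ⟨∅, by simp, by simp, Or.inr le_rfl⟩
  | succ n ih =>
    obtain ⟨S, h1, h2, h3 | h3⟩ := ih
    · exact ⟨S, h1, h2, Or.inl h3⟩
    by_cases htop : Subgroup.closure (S : Set M) = ⊤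
    · exact ⟨S, h1, h2, Or.inl htop⟩
    obtain ⟨x, hx⟩ : ∃ x, x ∉ Subgroup.closure (S : Set M) := by
      by_contra hall
      push Not at hall
      exact htop (Subgroup.eq_top_iff' _ |>.2 hall)
    have hxS : x ∉ S := fun h => hx (Subgroup.subset_closure h)
    refine ⟨insert x S, ?_, ?_, Or.inr (by rw [Finset.card_insert_of_notMem hxS]; omega)⟩
    · rw [Finset.mem_insert, not_or]
      exact ⟨fun h => hx (h ▸ one_mem _), h1⟩
    set A := Subgroup.closure (S : Set M) with hA
    set B := Subgroup.closure ((insert x S : Finset M) : Set M) with hB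
    have hAB : A ≤ B := Subgroup.closure_mono (by simp)
    have hxB : x ∈ B := Subgroup.subset_closure (by simp)
    rw [← Subgroup.relIndex_bot_left B, ← Subgroup.relIndex_mul_relIndex ⊥ A B bot_le hAB,
      Subgroup.relIndex_bot_left, mul_comm, Finset.card_insert_of_notMem hxS, pow_succ']
    refine Nat.mul_le_mul ?_ h2
    obtain ⟨i, hi⟩ := ((hM.to_subgroup B).index (A.subgroupOf B))
    have hne : A.relIndex B ≠ 1 := fun h => hx (Subgroup.relIndex_eq_one.1 h hxB)
    rw [show A.relIndex B = q ^ i from hi] at hne ⊢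
    exact Nat.le_self_pow (fun h => hne (by rw [h, pow_zero])) q

theorem three_mul_pow_le {q e : ℕ} (hq : q.Prime) (h2 : q = 2 → 4 ≤ e) (he : 1 ≤ e) :
    3 * q ^ (e * (e + 1)) ≤ 3 ^ (q ^ e) := by
  rcases hq.eq_two_or_odd with rfl | hodd
  · specialize h2 rfl
    have key : ∀ e, 4 ≤ e → 2 * (e * (e + 1)) + 5 ≤ 3 * 2 ^ e := by
      intro e he
      induction e, he using Nat.le_induction with
      | base => norm_num
      | succ e he ih =>
        rw [pow_succ]
        nlinarith
    have h3 := key e h2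
    have h4 : (2 ^ (e * (e + 1))) ^ 3 * 27 ≤ (3 ^ (2 ^ e)) ^ 3 := by
      calc (2 ^ (e * (e + 1))) ^ 3 * 27 = 8 ^ (e * (e + 1)) * 27 := by
            rw [← pow_mul, mul_comm (e * (e + 1)) 3, pow_mul]
            norm_num
        _ ≤ 9 ^ (e * (e + 1)) * 27 := Nat.mul_le_mul_right _ (Nat.pow_le_pow_left (by norm_num) _)
        _ = 3 ^ (2 * (e * (e + 1)) + 3) := by
            rw [pow_add, show (9 : ℕ) = 3 ^ 2 by norm_num, ← pow_mul]; norm_num
        _ ≤ 3 ^ (3 * 2 ^ e) := Nat.pow_le_pow_right (by norm_num) (by omega)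
        _ = (3 ^ (2 ^ e)) ^ 3 := by rw [← pow_mul, mul_comm]
    refine (Nat.pow_le_pow_iff_left (n := 3) (by norm_num)).1 ?_
    rw [mul_pow, mul_comm]
    exact h4
  · have hq3 : 3 ≤ q := by have := hq.two_le; omega
    have hpowq : ∀ j, q ^ 2 ≤ 3 ^ (q - 1) ∧ (q - 1) * (j * (j + 1)) + 2 ≤ 2 * q ^ j := by
      intro j
      constructor
      · have : ∀ m, 3 ≤ m → m ^ 2 ≤ 3 ^ (m - 1) := by
          intro m hm
          induction m, hm using Nat.le_induction with
          | base => norm_num
          | succ m hm ih =>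
            obtain ⟨w, rfl⟩ : ∃ w, m = w + 1 := ⟨m - 1, by omega⟩
            rw [Nat.add_sub_cancel] at ih
            rw [Nat.add_sub_cancel, pow_succ 3 w]
            nlinarith
        exact this q hq3
      · induction j with
        | zero => simp
        | succ j ih =>
          rw [pow_succ]
          obtain ⟨r, rfl⟩ : ∃ r, q = r + 1 := ⟨q - 1, by omega⟩
          rw [Nat.add_sub_cancel] at ih ⊢
          have hb : j + 1 ≤ (r + 1) ^ j := Nat.lt_pow_self (by omega)
          have : r * (j + 1) ≤ r * (r + 1) ^ j := Nat.mul_le_mul_left r hb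
          have e1 : r * ((j + 1) * (j + 1 + 1)) = r * (j * (j + 1)) + 2 * (r * (j + 1)) := by ring
          have e2 : (r + 1) ^ j * (r + 1) = r * (r + 1) ^ j + (r + 1) ^ j := by ring
          omega
    obtain ⟨h1, h3⟩ := hpowq e
    have h4 : (3 * q ^ (e * (e + 1))) ^ 2 ≤ (3 ^ (q ^ e)) ^ 2 := by
      calc (3 * q ^ (e * (e + 1))) ^ 2 = 9 * (q ^ 2) ^ (e * (e + 1)) := by
            rw [mul_pow, ← pow_mul, ← pow_mul, mul_comm (e * (e + 1))]; norm_num
        _ ≤ 9 * (3 ^ (q - 1)) ^ (e * (e + 1)) :=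
            Nat.mul_le_mul_left _ (Nat.pow_le_pow_left h1 _)
        _ = 3 ^ ((q - 1) * (e * (e + 1)) + 2) := by rw [pow_add, pow_mul]; ring
        _ ≤ 3 ^ (2 * q ^ e) := Nat.pow_le_pow_right (by norm_num) h3
        _ = (3 ^ (q ^ e)) ^ 2 := by rw [← pow_mul, mul_comm]
    exact (Nat.pow_le_pow_iff_left two_ne_zero).1 h4

universe u

/-- The primitive case. -/
theorem card_le_of_primitive {Ω : Type u} [Finite Ω] [Nonempty Ω] (H : Subgroup (Equiv.Perm Ω))
    [Group.IsSolvable H] (hprim : IsPreprimitive H Ω) :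
    Nat.card H * 3 ≤ 3 ^ Nat.card Ω := by
  classical
  haveI := Fintype.ofFinite Ω
  by_cases h4 : Nat.card Ω ≤ 4
  · have h := Subgroup.card_le_card_group H
    rw [Nat.card_perm] at h
    have hp : 0 < Nat.card Ω := Nat.card_pos
    generalize Nat.card Ω = m at h h4 hp ⊢
    interval_cases m <;> simp [Nat.factorial] at h ⊢ <;> omega
  haveI : Nontrivial H := by
    by_contra hnt
    rw [not_nontrivial_iff_subsingleton] at hnt
    haveI : Subsingleton Ω := ⟨fun a b => by
      obtain ⟨g, hg⟩ := hprim.toIsPretransitive.exists_smul_eq a b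
      rw [← hg, Subsingleton.elim g 1, one_smul]⟩
    have : Nat.card Ω ≤ 1 := Finite.card_le_one_iff_subsingleton.2 inferInstance
    omega
  obtain ⟨M, hMn, hM, hmin⟩ : ∃ M : Subgroup H, M.Normal ∧ M ≠ ⊥ ∧
      ∀ K : Subgroup H, K.Normal → K ≤ M → K = ⊥ ∨ K = M := by
    obtain ⟨M, ⟨h1, h2⟩, h3⟩ := Set.Finite.exists_minimal
      (s := {M : Subgroup H | M.Normal ∧ M ≠ ⊥}) (Set.toFinite _) ⟨⊤, inferInstance, top_ne_bot⟩
    refine ⟨M, h1, h2, fun K hK hKM => ?_⟩
    by_cases hK0 : K = ⊥
    · exact Or.inl hK0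
    · exact Or.inr (le_antisymm hKM (h3 ⟨hK, hK0⟩ hKM))
  haveI := hMn
  obtain ⟨-, -, q, e, hq, he, hΩ, hMc⟩ := S0547.result hprim M hM hmin
  let ω : Ω := Classical.arbitrary Ω
  obtain ⟨hcompl, hfree, -⟩ := S0548.result hprim M hM hmin ω
  set T := stabilizer H ω with hT
  haveI := Fact.mk hq
  obtain ⟨S, hS1, hS, hScard⟩ := exists_generators hq (IsPGroup.of_card hMc)
  rw [hMc] at hScard
  have hSe : S.card ≤ e := (Nat.pow_le_pow_iff_right hq.one_lt).1 hScard
  -- a point stabiliser is determined by the images of the generators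
  let emb : T → ({x // x ∈ S} ↪ {m : M // m ≠ 1}) := fun t =>
    { toFun := fun x => ⟨MulAut.conjNormal (t : H) x.1, fun h => hS1 (by
        have := congrArg (MulAut.conjNormal (t : H)).symm h
        rw [MulEquiv.symm_apply_apply, map_one] at this
        exact this ▸ x.2)⟩
      inj' := fun x y hxy => Subtype.ext ((MulAut.conjNormal (t : H)).injective
        (congrArg Subtype.val hxy)) }
  have hemb : Function.Injective emb := by
    intro a b hab
    have hall : ∀ m : M, MulAut.conjNormal (a : H) m = MulAut.conjNormal (b : H) m := by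
      have : (⊤ : Subgroup M) ≤ MonoidHom.eqLocus (MulAut.conjNormal (a : H)).toMonoidHom
          (MulAut.conjNormal (b : H)).toMonoidHom := by
        rw [← hS, Subgroup.closure_le]
        intro x hx
        exact congrArg Subtype.val (DFunLike.congr_fun hab ⟨x, hx⟩)
      exact fun m => this (Subgroup.mem_top m)
    refine Subtype.ext (inv_mul_eq_one.1 ?_).symm
    rw [← Subgroup.mem_bot, ← hfree]
    refine ⟨T.mul_mem (T.inv_mem b.2) a.2, Subgroup.mem_centralizer_iff.2 fun m hm => ?_⟩
    have h2 := congrArg Subtype.val (hall ⟨m, hm⟩)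
    simp only [MulAut.conjNormal_apply] at h2
    calc m * ((b : H)⁻¹ * a) = (b : H)⁻¹ * (b * m * (b : H)⁻¹) * a := by group
      _ = (b : H)⁻¹ * (a * m * (a : H)⁻¹) * a := by rw [h2]
      _ = (b : H)⁻¹ * a * m := by group
  haveI := Fintype.ofFinite {m : M // m ≠ 1}
  have hne : Fintype.card {m : M // m ≠ 1} = q ^ e - 1 := by
    haveI := Fintype.ofFinite M
    rw [Fintype.card_subtype_compl, Fintype.card_subtype_eq, ← Nat.card_eq_fintype_card, hMc]
  have hTc : Nat.card T ≤ (q ^ e - 1).descFactorial S.card := by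
    refine (Nat.card_le_card_of_injective emb hemb).trans_eq ?_
    rw [Nat.card_eq_fintype_card, Fintype.card_embedding_eq, hne, Fintype.card_coe]
  have hH : Nat.card H = q ^ e * Nat.card T := by rw [← hcompl.card_mul, hMc]
  rw [hH, hΩ]
  rw [hΩ] at h4
  by_cases h8 : q = 2 ∧ e ≤ 3
  · obtain ⟨rfl, he3⟩ := h8
    have he' : e = 3 := by
      interval_cases e <;> simp at h4 ⊢
    subst he'
    have : Nat.card T ≤ 210 := by
      refine hTc.trans ?_
      generalize S.card = s at hSe
      interval_cases s <;> decide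
    norm_num at this ⊢
    omega
  · have h2 : q = 2 → 4 ≤ e := fun h => by
      by_contra hlt
      exact h8 ⟨h, by omega⟩
    have hle : Nat.card T ≤ (q ^ e) ^ e := by
      refine (hTc.trans (Nat.descFactorial_le_pow _ _)).trans ?_
      exact (Nat.pow_le_pow_left (Nat.sub_le _ _) _).trans
        (Nat.pow_le_pow_right (Nat.one_le_pow _ _ hq.pos) hSe)
    calc q ^ e * Nat.card T * 3 ≤ q ^ e * (q ^ e) ^ e * 3 :=
          Nat.mul_le_mul_right _ (Nat.mul_le_mul_left _ hle)
      _ = 3 * q ^ (e * (e + 1)) := by rw [← pow_mul, ← pow_add]; ring_nf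
      _ ≤ 3 ^ (q ^ e) := three_mul_pow_le hq h2 he

/-- A soluble group of permutations of `m` points has order at most `3^(m-1)`. -/
theorem card_mul_three_le {Ω : Type u} [Finite Ω] [Nonempty Ω] (H : Subgroup (Equiv.Perm Ω))
    (hH : Group.IsSolvable H) : Nat.card H * 3 ≤ 3 ^ Nat.card Ω := by
  classical
  induction hn : Nat.card Ω using Nat.strong_induction_on generalizing Ω with
  | _ m ih =>
  subst hn
  haveI := hH
  have IH : ∀ {Ω' : Type u} [Finite Ω'] [Nonempty Ω'], Nat.card Ω' < Nat.card Ω →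
      ∀ (K : Type u) [Group K] [Group.IsSolvable K] (f : K →* Equiv.Perm Ω'),
        Nat.card f.range * 3 ≤ 3 ^ Nat.card Ω' := fun {Ω'} _ _ hlt K _ hK f =>
    ih _ hlt f.range (Group.isSolvable_of_surjective f.rangeRestrict_surjective) rfl
  by_cases htr : IsPretransitive H Ω
  swap
  · -- intransitive
    let a : Ω := Classical.arbitrary Ω
    set O : Set Ω := orbit H a with hO
    have hinv : ∀ (h : H) (x : Ω), H.subtype h x ∈ O ↔ x ∈ O := fun h x =>
      ⟨fun hx => inv_smul_smul h x ▸ smul_orbit_subset h⁻¹ a (Set.smul_mem_smul_set hx),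
        fun hx => smul_orbit_subset h a (Set.smul_mem_smul_set hx)⟩
    have hinv' : ∀ (h : H) (x : Ω), H.subtype h x ∈ Oᶜ ↔ x ∈ Oᶜ := fun h x =>
      not_congr (hinv h x)
    have hOc : (Oᶜ : Set Ω).Nonempty := by
      rw [Set.nonempty_compl]
      intro h
      exact htr ((isPretransitive_iff_orbit_eq_univ (G := H) a).2 h)
    haveI : Nonempty O := ⟨⟨a, mem_orbit_self a⟩⟩
    haveI : Nonempty (Oᶜ : Set Ω) := hOc.to_subtype
    have hsum : Nat.card O + Nat.card (Oᶜ : Set Ω) = Nat.card Ω := by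
      rw [← Nat.card_sum]; exact Nat.card_congr (Equiv.Set.sumCompl O)
    have hp1 : 0 < Nat.card O := Nat.card_pos
    have hp2 : 0 < Nat.card (Oᶜ : Set Ω) := Nat.card_pos
    have b1 := IH (by omega) H (res H.subtype O hinv)
    have b2 := IH (by omega) H (res H.subtype Oᶜ hinv')
    let F := ((res H.subtype O hinv).rangeRestrict.prod (res H.subtype Oᶜ hinv').rangeRestrict)
    have hF : Function.Injective F := by
      intro x y hxy
      refine Subtype.ext (Equiv.ext fun z => ?_)
      by_cases hz : z ∈ O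
      · have := DFunLike.congr_fun (congrArg Subtype.val (congrArg Prod.fst hxy)) ⟨z, hz⟩
        exact congrArg Subtype.val this
      · have := DFunLike.congr_fun (congrArg Subtype.val (congrArg Prod.snd hxy)) ⟨z, hz⟩
        exact congrArg Subtype.val this
    have hle := Nat.card_le_card_of_injective F hF
    rw [Nat.card_prod] at hle
    have := Nat.mul_le_mul b1 b2
    rw [← pow_add, hsum] at this
    nlinarith
  by_cases hprim : IsPreprimitive H Ω
  · exact card_le_of_primitive H hprim
  -- imprimitive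
  obtain ⟨B, hB, hBt⟩ : ∃ B : Set Ω, IsBlock H B ∧ ¬ IsTrivialBlock B := by
    by_contra hall
    push Not at hall
    exact hprim { toIsPretransitive := htr, isTrivialBlock_of_isBlock := fun {B} => hall B }
  rw [IsTrivialBlock, not_or, Set.not_subsingleton_iff] at hBt
  obtain ⟨hBnt, hBu⟩ := hBt
  set 𝔅 : Set (Set Ω) := orbit H B with h𝔅
  haveI : Nonempty 𝔅 := ⟨⟨B, mem_orbit_self B⟩⟩
  have hmul : B.ncard * 𝔅.ncard = Nat.card Ω := hB.ncard_block_mul_ncard_orbit_eq hBnt.nonempty
  have hb2 : 2 ≤ B.ncard := Set.one_lt_ncard_iff_nontrivial.2 hBnt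
  have hblt : B.ncard < Nat.card Ω := by
    rw [← Set.ncard_univ]
    exact Set.ncard_lt_ncard (Set.ssubset_univ_iff.2 hBu)
  have ht1 : 0 < Nat.card 𝔅 := Nat.card_pos
  have htlt : Nat.card 𝔅 < Nat.card Ω := by
    rw [Nat.card_coe_set_eq] at ht1 ⊢
    nlinarith
  let f : H →* Equiv.Perm 𝔅 := MulAction.toPermHom H 𝔅
  have btop := IH htlt H f
  have hinvC : ∀ (C : 𝔅) (h : f.ker) (x : Ω),
      (H.subtype.comp f.ker.subtype) h x ∈ (C : Set Ω) ↔ x ∈ (C : Set Ω) := by
    intro C h x
    have hC : (h : H) • (C : Set Ω) = (C : Set Ω) :=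
      congrArg Subtype.val (DFunLike.congr_fun (MonoidHom.mem_ker.1 h.2) C :)
    conv_lhs => rw [← hC]
    exact Set.smul_mem_smul_set_iff
  let r : ∀ C : 𝔅, f.ker →* Equiv.Perm (C : Set Ω) := fun C =>
    res (H.subtype.comp f.ker.subtype) C (hinvC C)
  have hCcard : ∀ C : 𝔅, Nat.card (C : Set Ω) = B.ncard := by
    rintro ⟨C, h, rfl⟩
    rw [Nat.card_coe_set_eq]
    exact Set.ncard_image_of_injective B (MulAction.injective h)
  have hr : ∀ C, Nat.card (r C).range * 3 ≤ 3 ^ B.ncard := fun C => by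
    haveI : Nonempty (C : Set Ω) := by
      refine Finite.card_pos_iff.1 ?_
      rw [hCcard]; omega
    haveI : Group.IsSolvable f.ker := inferInstance
    exact hCcard C ▸ IH (by rw [hCcard]; exact hblt) f.ker (r C)
  let F : f.ker → ∀ C : 𝔅, (r C).range := fun x C => (r C).rangeRestrict x
  have hF : Function.Injective F := by
    intro x y hxy
    refine Subtype.ext (Subtype.ext (Equiv.ext fun z => ?_))
    obtain ⟨g, hg⟩ := htr.exists_smul_eq hBnt.nonempty.some z
    have hz : z ∈ g • B := hg ▸ Set.smul_mem_smul_set hBnt.nonempty.some_mem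
    have := DFunLike.congr_fun (congrArg Subtype.val (congrFun hxy ⟨g • B, mem_orbit B g⟩))
      ⟨z, hz⟩
    exact congrArg Subtype.val this
  have hker : Nat.card f.ker * 3 ^ Nat.card 𝔅 ≤ 3 ^ Nat.card Ω := by
    haveI := Fintype.ofFinite 𝔅
    have h1 := Nat.card_le_card_of_injective F hF
    rw [Nat.card_pi] at h1
    calc Nat.card f.ker * 3 ^ Nat.card 𝔅
        ≤ (∏ C : 𝔅, Nat.card (r C).range) * 3 ^ Nat.card 𝔅 := Nat.mul_le_mul_right _ h1
      _ = ∏ C : 𝔅, Nat.card (r C).range * 3 := by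
          rw [Finset.prod_mul_distrib, Finset.prod_const, Finset.card_univ,
            Nat.card_eq_fintype_card]
      _ ≤ ∏ _C : 𝔅, 3 ^ B.ncard := Finset.prod_le_prod' fun C _ => hr C
      _ = 3 ^ Nat.card Ω := by
          rw [Finset.prod_const, Finset.card_univ, ← Nat.card_eq_fintype_card, ← pow_mul,
            Nat.card_coe_set_eq, hmul]
  have hcard : Nat.card H = Nat.card f.ker * Nat.card f.range := by
    rw [← f.ker.card_mul_index, Subgroup.index_ker]
  rw [hcard, mul_assoc]
  exact (Nat.mul_le_mul_left _ btop).trans hker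

end Cfsg.Agent.Lib.SolvClass.Perm
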