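import Cfsg.Agent.Lib.SolvClass.Basic
import Cfsg.Agent.S4958
import Mathlib.GroupTheory.SemidirectProduct
import Mathlib.LinearAlgebra.Prod
import Mathlib.Algebra.CharP.Defs

/-!
# The class number of `V ⋊ K`
-/

set_option autoImplicit false
set_option linter.style.haveILetI false

namespace Cfsg.Agent.Lib.SolvClass

section

variable {L : Type*} [Field L] {V : Type*} [AddCommGroup V] [Module L V]
variable {L' : Type*} [Field L'] {V' : Type*} [AddCommGroup V'] [Module L' V']
variable {K K' : Type*} [Group K] [Group K']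

/-- A linear automorphism as an automorphism of the multiplicative group of the space. -/
def act : (V ≃ₗ[L] V) →* MulAut (Multiplicative V) where
  toFun f := AddEquiv.toMultiplicative f.toAddEquiv
  map_one' := rfl
  map_mul' _ _ := rfl

/-- The semidirect product of the module with the group. -/
abbrev SD (ρ : K →* (V ≃ₗ[L] V)) : Type _ := Multiplicative V ⋊[act.comp ρ] K

instance finite_SD [Finite V] [Finite K] (ρ : K →* (V ≃ₗ[L] V)) : Finite (SD ρ) :=
  Finite.of_equiv _ SemidirectProduct.equivProd.symm

/-- The class number of `V ⋊ K`. -/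
noncomputable def kv (ρ : K →* (V ≃ₗ[L] V)) : ℕ := k (SD ρ)

theorem kv_congr (ρ : K →* (V ≃ₗ[L] V)) (ρ' : K' →* (V' ≃ₗ[L'] V')) (e : K ≃* K') (φ : V ≃+ V')
    (h : ∀ a v, φ (ρ a v) = ρ' (e a) (φ v)) : kv ρ = kv ρ' := by
  let f : SD ρ →* SD ρ' := SemidirectProduct.map φ.toMultiplicative.toMonoidHom e.toMonoidHom
    fun a => by
      refine MonoidHom.ext fun v => ?_
      exact congrArg Multiplicative.ofAdd (h a v.toAdd)
  refine k_congr (MulEquiv.ofBijective f ⟨fun a b hab => ?_, fun b => ?_⟩)
  · exact SemidirectProduct.ext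
      (φ.toMultiplicative.injective (congrArg SemidirectProduct.left hab))
      (e.injective (congrArg SemidirectProduct.right hab))
  · exact ⟨⟨φ.toMultiplicative.symm b.left, e.symm b.right⟩, SemidirectProduct.ext
      (φ.toMultiplicative.apply_symm_apply _) (e.apply_symm_apply _)⟩

theorem k_le_kv [Finite V] [Finite K] (ρ : K →* (V ≃ₗ[L] V)) : k K ≤ kv ρ :=
  Nat.card_le_card_of_surjective _
    (ConjClasses.map_surjective (SemidirectProduct.rightHom_surjective (φ := act.comp ρ)))

theorem kv_le_card_of_subsingleton [Finite V] [Subsingleton K] (ρ : K →* (V ≃ₗ[L] V)) :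
    kv ρ ≤ Nat.card V := by
  haveI : Finite K := Finite.of_subsingleton
  refine k_le_card.trans_eq ?_
  rw [Nat.card_congr SemidirectProduct.equivProd, Nat.card_prod,
    Nat.card_eq_one_iff_unique.2 ⟨inferInstance, ⟨(1 : K)⟩⟩, mul_one]
  exact Nat.card_congr Multiplicative.toAdd

theorem card_le_kv [Finite V] [Subsingleton K] (ρ : K →* (V ≃ₗ[L] V)) : Nat.card V ≤ kv ρ := by
  haveI : Finite K := Finite.of_subsingleton
  refine le_of_le_of_eq ?_ (k_of_comm fun a b => ?_).symm
  · exact Nat.card_le_card_of_injective _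
      (SemidirectProduct.inl_injective.comp Multiplicative.ofAdd.injective)
  · refine SemidirectProduct.ext ?_ (Subsingleton.elim _ _)
    simp [Subsingleton.elim a.right 1, Subsingleton.elim b.right 1, mul_comm]

/-- The class number of `V ⋊ K` through a pair of constituents. -/
theorem kv_le_mul {V₁ V₂ : Type*} [AddCommGroup V₁] [Module L V₁] [AddCommGroup V₂] [Module L V₂]
    [Finite V] [Finite K] (ρ : K →* (V ≃ₗ[L] V)) (ρ₁ : K →* (V₁ ≃ₗ[L] V₁))
    (ρ₂ : K →* (V₂ ≃ₗ[L] V₂)) (φ : V ≃ₗ[L] (V₁ × V₂))
    (h : ∀ a v, φ (ρ a v) = (ρ₁ a (φ v).1, ρ₂ a (φ v).2)) :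
    kv ρ ≤ kv ρ₁.range.subtype * kv (ρ₂.comp ρ₁.ker.subtype) := by
  let f : SD ρ →* SD ρ₁.range.subtype := SemidirectProduct.map
    (AddMonoidHom.toMultiplicative ((AddMonoidHom.fst V₁ V₂).comp φ.toAddEquiv.toAddMonoidHom))
    ρ₁.rangeRestrict fun a => by
      refine MonoidHom.ext fun v => ?_
      exact congrArg Multiplicative.ofAdd (congrArg Prod.fst (h a v.toAdd))
  have hf : Function.Surjective f := by
    intro b
    obtain ⟨a, ha⟩ := ρ₁.rangeRestrict_surjective b.right
    exact ⟨⟨Multiplicative.ofAdd (φ.symm (b.left.toAdd, 0)), a⟩, SemidirectProduct.ext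
      (congrArg Multiplicative.ofAdd (congrArg Prod.fst (φ.apply_symm_apply (b.left.toAdd, 0))))
      ha⟩
  let g : SD (ρ₂.comp ρ₁.ker.subtype) →* SD ρ := SemidirectProduct.map
    (AddMonoidHom.toMultiplicative (φ.symm.toAddEquiv.toAddMonoidHom.comp (AddMonoidHom.inr V₁ V₂)))
    ρ₁.ker.subtype fun a => by
      refine MonoidHom.ext fun v => ?_
      refine congrArg Multiplicative.ofAdd (φ.injective ?_)
      have h1 := h a (φ.symm (0, v.toAdd))
      rw [φ.apply_symm_apply, map_zero] at h1
      exact (φ.apply_symm_apply _).trans h1.symm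
  have hg : Function.Injective g := fun a b hab => by
    refine SemidirectProduct.ext ?_ (Subtype.ext (congrArg SemidirectProduct.right hab :))
    have := φ.symm.injective (congrArg (fun z : SD ρ => z.left.toAdd) hab :)
    exact Multiplicative.toAdd.injective (congrArg Prod.snd this :)
  have hr : g.range = f.ker := by
    ext x
    constructor
    · rintro ⟨y, rfl⟩
      exact SemidirectProduct.ext
        (congrArg Multiplicative.ofAdd (congrArg Prod.fst (φ.apply_symm_apply (0, y.left.toAdd))))
        (Subtype.ext y.right.2)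
    · intro hx
      have h1 : ρ₁ x.right = 1 := congrArg (fun z => (z.right : V₁ ≃ₗ[L] V₁)) hx
      have h2 : (φ x.left.toAdd).1 = 0 := congrArg (fun z => z.left.toAdd) hx
      refine ⟨⟨Multiplicative.ofAdd (φ x.left.toAdd).2, ⟨x.right, h1⟩⟩,
        SemidirectProduct.ext ?_ rfl⟩
      exact congrArg Multiplicative.ofAdd (φ.symm_apply_eq.2 (Prod.ext h2.symm rfl))
  refine (k_le_mul_surjective f hf).trans_eq ?_
  rw [mul_comm, ← k_congr (MulEquiv.subgroupCongr hr), ← k_congr (MonoidHom.ofInjective hg)]
  rfl

/-- The class number of `V ⋊ K` through a normal subgroup of `K`. -/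
theorem kv_le_card_range_mul {Z : Type*} [Group Z] [Finite V] [Finite K]
    (ρ : K →* (V ≃ₗ[L] V)) (q : K →* Z) :
    kv ρ ≤ Nat.card q.range * kv (ρ.comp q.ker.subtype) := by
  let f : SD ρ →* q.range := q.rangeRestrict.comp SemidirectProduct.rightHom
  have hf : Function.Surjective f :=
    q.rangeRestrict_surjective.comp SemidirectProduct.rightHom_surjective
  let g : SD (ρ.comp q.ker.subtype) →* SD ρ :=
    SemidirectProduct.map (MonoidHom.id _) q.ker.subtype fun _ => MonoidHom.ext fun _ => rfl
  have hg : Function.Injective g := fun a b hab =>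
    SemidirectProduct.ext (congrArg SemidirectProduct.left hab :)
      (Subtype.ext (congrArg SemidirectProduct.right hab :))
  have hr : g.range = f.ker := by
    ext x
    constructor
    · rintro ⟨y, rfl⟩
      exact Subtype.ext y.right.2
    · intro hx
      exact ⟨⟨x.left, ⟨x.right, congrArg Subtype.val hx⟩⟩, rfl⟩
  haveI : Finite q.range := Finite.of_surjective _ q.rangeRestrict_surjective
  refine (k_le_mul_surjective f hf).trans ?_
  rw [mul_comm, ← k_congr (MulEquiv.subgroupCongr hr), ← k_congr (MonoidHom.ofInjective hg)]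
  exact Nat.mul_le_mul_right _ k_le_card

/-- The abelian-stabiliser case of the `k(GV)` bound. -/
theorem kv_le_card_of_stabilizer [Finite V] [Finite K] (p : ℕ) [Fact p.Prime] [CharP L p]
    (ρ : K →* (V ≃ₗ[L] V)) (hρ : Function.Injective ρ) (hp : ¬ p ∣ Nat.card K) (v : V)
    (hab : ∀ a b : K, ρ a v = v → ρ b v = v → a * b = b * a) : kv ρ ≤ Nat.card V := by
  set W : Subgroup (SD ρ) := SemidirectProduct.inl.range with hW
  have hWker : W = (SemidirectProduct.rightHom : SD ρ →* K).ker :=
    SemidirectProduct.range_inl_eq_ker_rightHom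
  haveI : W.Normal := hWker ▸ inferInstance
  have hcard : Nat.card W = Nat.card V := by
    rw [hW, ← Nat.card_congr (MonoidHom.ofInjective SemidirectProduct.inl_injective).toEquiv]
    exact Nat.card_congr Multiplicative.toAdd
  have hidx : W.index = Nat.card K := by
    rw [hWker, Subgroup.index_ker, MonoidHom.range_eq_top.2 SemidirectProduct.rightHom_surjective,
      Subgroup.card_top]
  set G : Subgroup (SD ρ) := SemidirectProduct.inr.range with hG
  have hexp : ∀ x ∈ W, x ^ p = 1 := by
    rintro x ⟨w, rfl⟩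
    rw [← map_pow]
    have : w ^ p = 1 := Multiplicative.toAdd.injective <| by
      rw [toAdd_pow, ← Nat.cast_smul_eq_nsmul L, CharP.cast_eq_zero, zero_smul, toAdd_one]
    rw [this, map_one]
  have hself : Subgroup.centralizer (W : Set (SD ρ)) = W := by
    refine le_antisymm (fun x hx => ?_) ?_
    · have h1 : ρ x.right = 1 := by
        refine LinearEquiv.ext fun u => ?_
        have h2 := congrArg SemidirectProduct.left
          (Subgroup.mem_centralizer_iff.1 hx _ ⟨Multiplicative.ofAdd u, rfl⟩)
        simp only [SemidirectProduct.mul_left, SemidirectProduct.left_inl,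
          SemidirectProduct.right_inl, map_one, MulAut.one_apply] at h2
        rw [mul_comm, mul_right_inj] at h2
        exact (congrArg Multiplicative.toAdd h2).symm
      rw [hWker, MonoidHom.mem_ker]
      exact hρ (h1.trans (map_one ρ).symm)
    · rintro x ⟨a, rfl⟩
      rw [Subgroup.mem_centralizer_iff]
      rintro y ⟨b, rfl⟩
      rw [← map_mul, ← map_mul, mul_comm]
  have hcompl : Subgroup.IsComplement' W G := by
    refine Subgroup.isComplement'_of_card_mul_and_disjoint ?_ ?_
    · rw [hcard, hG, ← Nat.card_congr (MonoidHom.ofInjective SemidirectProduct.inr_injective).toEquiv,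
        Nat.card_congr SemidirectProduct.equivProd, Nat.card_prod]
      rw [Nat.card_congr Multiplicative.toAdd]
    · rw [Subgroup.disjoint_def]
      rintro x ⟨a, rfl⟩ ⟨b, hb⟩
      have : b = 1 := by simpa using congrArg SemidirectProduct.right hb
      rw [← hb, this, map_one]
  refine (S4958.result p W hexp (hidx.symm ▸ hp) hself G hcompl
    (SemidirectProduct.inl (Multiplicative.ofAdd v)) ⟨_, rfl⟩ ?_).trans_eq hcard
  rintro _ ⟨⟨a, rfl⟩, ha⟩ _ ⟨⟨b, rfl⟩, hb⟩
  have key : ∀ c : K, (SemidirectProduct.inr c : SD ρ) ∈ Subgroup.centralizer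
      ({SemidirectProduct.inl (Multiplicative.ofAdd v)} : Set (SD ρ)) → ρ c v = v := by
    intro c hc
    have h2 := congrArg SemidirectProduct.left (Subgroup.mem_centralizer_singleton_iff.1 hc)
    simp only [SemidirectProduct.mul_left, SemidirectProduct.left_inl, SemidirectProduct.left_inr,
      SemidirectProduct.right_inl, SemidirectProduct.right_inr, map_one, MulAut.one_apply, mul_one,
      one_mul] at h2
    exact congrArg Multiplicative.toAdd h2
  rw [← map_mul, ← map_mul, hab a b (key a ha) (key b hb)]

end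

end Cfsg.Agent.Lib.SolvClass
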