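import Cfsg.Agent.Lib.SolvClass.Frame
import Cfsg.Agent.Lib.SolvClass.Irreducible
import Cfsg.Agent.Lib.SolvClass.Perm
import Mathlib.LinearAlgebra.Basis.VectorSpace

/-!
# Class numbers of subgroups of small soluble linear groups
-/

set_option autoImplicit false
set_option linter.style.haveILetI false

namespace Cfsg.Agent.Lib.SolvClass

open Module

/-- A bound through finitely many homomorphisms with trivial joint kernel. -/
theorem k_le_pow_of_homs {G : Type*} [Group G] [Finite G] {n : ℕ} :
    ∀ (X : Fin n → Type*) [∀ i, Group (X i)] (f : ∀ i, G →* X i) (b : ℕ),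
      (∀ i (S : Subgroup G), k (S.map (f i)) ≤ b) →
      ∀ S : Subgroup G, (∀ x ∈ S, (∀ i, f i x = 1) → x = 1) → k S ≤ b ^ n := by
  induction n with
  | zero =>
    intro X _ f b _ S hS
    haveI : Subsingleton S := ⟨fun x y => Subtype.ext
      ((hS x x.2 fun i => i.elim0).trans (hS y y.2 fun i => i.elim0).symm)⟩
    exact k_le_card.trans_eq (Nat.card_eq_one_iff_unique.2 ⟨inferInstance, ⟨1⟩⟩)
  | succ n ih =>
    intro X _ f b hb S hS
    have h1 := ih (fun i => X i.succ) (fun i => f i.succ) b (fun i => hb i.succ)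
      (S ⊓ (f 0).ker) fun x hx h => hS x hx.1 (Fin.cases hx.2 h)
    have h2 := k_map_le_mul S (MonoidHom.id G) (f 0) (MonoidHom.id G) fun x _ =>
      ⟨fun hx => ⟨by rw [show x = 1 from hx, map_one], hx⟩, fun hx => hx.2⟩
    rw [Subgroup.map_id, Subgroup.map_id] at h2
    rw [pow_succ]
    exact h2.trans (Nat.mul_le_mul h1 (hb 0 S))

/-- Subgroups of a two dimensional general linear group. -/
theorem k_dim_two {L : Type*} [Field L] [Finite L] {V : Type*} [AddCommGroup V] [Module L V]
    [Finite V] (h2 : finrank L V = 2) (S : Subgroup (V ≃ₗ[L] V)) :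
    k S + 3 ≤ Nat.card L ^ 2 + Nat.card L := by
  classical
  haveI := finite_GL (L := L) (V := V)
  haveI : Module.Finite L V := Module.Finite.of_finite
  have hq : 2 ≤ Nat.card L := Finite.one_lt_card
  have hV : Nat.card V = Nat.card L ^ 2 := by rw [Module.natCard_eq_pow_finrank (K := L), h2]
  let b : Basis (Fin 2) L V := Module.finBasisOfFinrankEq L V h2
  have hcases : ∀ x : V ≃ₗ[L] V, (∃ c : L, ∀ v, x v = c • v) ∨
      ∃ v, v ≠ 0 ∧ ∀ c c' : V ≃ₗ[L] V, x * c = c * x → x * c' = c' * x → c v = c' v → c = c' := by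
    intro x
    by_cases hall : ∀ v : V, ¬ LinearIndependent L ![v, x v]
    · left
      have hev : ∀ v : V, v ≠ 0 → ∃ c : L, x v = c • v := by
        intro v hv
        have := hall v
        rw [LinearIndependent.pair_iff' hv] at this
        push Not at this
        obtain ⟨c, hc⟩ := this
        exact ⟨c, hc.symm⟩
      obtain ⟨c0, h0⟩ := hev _ (b.ne_zero 0)
      obtain ⟨c1, h1⟩ := hev _ (b.ne_zero 1)
      obtain ⟨c, hc⟩ := hev (b 0 + b 1) fun h => by
        have := congrArg (fun w => b.repr w 0) h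
        simp at this
      rw [map_add, h0, h1] at hc
      have e0 := congrArg (fun w => b.repr w 0) hc
      have e1 := congrArg (fun w => b.repr w 1) hc
      simp at e0 e1
      refine ⟨c, fun v => ?_⟩
      have : (x : V →ₗ[L] V) = c • LinearMap.id := b.ext fun i => by
        fin_cases i
        · simpa [e0] using h0
        · simpa [e1] using h1
      exact LinearMap.congr_fun this v
    · right
      push Not at hall
      obtain ⟨v, hv⟩ := hall
      refine ⟨v, hv.ne_zero 0, fun c c' hc hc' hcv => ?_⟩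
      have hspan : Submodule.span L (Set.range ![v, x v]) = ⊤ :=
        hv.span_eq_top_of_card_eq_finrank' (by rw [Fintype.card_fin, h2])
      refine LinearEquiv.toLinearMap_injective (LinearMap.ext_on_range hspan fun i => ?_)
      fin_cases i
      · exact hcv
      · show c (x v) = c' (x v)
        rw [← LinearEquiv.mul_apply, ← hc, LinearEquiv.mul_apply, hcv, ← LinearEquiv.mul_apply, hc',
          LinearEquiv.mul_apply]
  have hnz : ∀ v : V, v ≠ 0 → Nat.card {w : V // w ≠ 0} = Nat.card L ^ 2 - 1 := fun v _ => by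
    haveI := Fintype.ofFinite V
    rw [Nat.card_eq_fintype_card, Fintype.card_subtype_compl, Fintype.card_subtype_eq,
      ← Nat.card_eq_fintype_card, hV]
  have hcent : ∀ x : S, (¬ ∃ c : L, ∀ v, (x : V ≃ₗ[L] V) v = c • v) →
      Nat.card (Subgroup.centralizer ({x} : Set S)) ≤ Nat.card L ^ 2 - 1 := by
    intro x hx
    obtain ⟨v, hv, hinj⟩ := (hcases x).resolve_left hx
    rw [← hnz v hv]
    refine Nat.card_le_card_of_injective (fun c => ⟨((c : S) : V ≃ₗ[L] V) v, fun h => hv
      (((c : S) : V ≃ₗ[L] V).injective (h.trans (map_zero _).symm))⟩) fun c c' h => ?_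
    refine Subtype.ext (Subtype.ext (hinj _ _ ?_ ?_ (congrArg Subtype.val h)))
    · exact (congrArg Subtype.val (Subgroup.mem_centralizer_singleton_iff.1 c.2)).symm
    · exact (congrArg Subtype.val (Subgroup.mem_centralizer_singleton_iff.1 c'.2)).symm
  have hq1 : 1 ≤ Nat.card L ^ 2 := Nat.one_le_pow _ _ (by omega)
  by_cases hZ : ∀ x ∈ Subgroup.center S, ∃ c : L, ∀ v, (x : V ≃ₗ[L] V) v = c • v
  · have hz : Nat.card (Subgroup.center S) ≤ Nat.card L - 1 := by
      haveI := Fintype.ofFinite L
      have hcard : Nat.card {c : L // c ≠ 0} = Nat.card L - 1 := by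
        rw [Nat.card_eq_fintype_card, Fintype.card_subtype_compl, Fintype.card_subtype_eq,
          Nat.card_eq_fintype_card]
      rw [← hcard]
      choose c hc using hZ
      refine Nat.card_le_card_of_injective (fun x => ⟨c x x.2, fun h => b.ne_zero 0 ?_⟩)
        fun x y h => Subtype.ext (Subtype.ext (LinearEquiv.ext fun v => ?_))
      · have := hc x x.2 (b 0)
        rw [h, zero_smul] at this
        exact ((x : S) : V ≃ₗ[L] V).injective (this.trans (map_zero _).symm)
      · rw [hc x x.2 v, hc y y.2 v]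
        exact congrArg (· • v) (congrArg Subtype.val h :)
    have hne : ∀ a : S, a ∉ Subgroup.center S → ¬ ∃ c : L, ∀ v, (a : V ≃ₗ[L] V) v = c • v := by
      rintro a ha ⟨c, hc⟩
      refine ha (Subgroup.mem_center_iff.2 fun g => Subtype.ext (LinearEquiv.ext fun v => ?_))
      show (g : V ≃ₗ[L] V) ((a : V ≃ₗ[L] V) v) = (a : V ≃ₗ[L] V) ((g : V ≃ₗ[L] V) v)
      rw [hc, hc, map_smul]
    have h := k_lt_add (X := S) (c := Nat.card L ^ 2 - 1) (by nlinarith [Nat.sub_add_cancel hq1])
      hz (fun a ha => hcent a (hne a ha))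
    omega
  · push Not at hZ
    obtain ⟨x, hxZ, hx⟩ := hZ
    have hS := hcent x (by push Not; exact hx)
    have : Subgroup.centralizer ({x} : Set S) = ⊤ := (Subgroup.eq_top_iff' _).2 fun g =>
      Subgroup.mem_centralizer_singleton_iff.2 (Subgroup.mem_center_iff.1 hxZ g)
    rw [this, Subgroup.card_top] at hS
    have h := k_le_card (X := S)
    omega

section

variable {L : Type} [Field L] [Finite L]

/-- An abelian self-centralising normal subgroup of order at most fifteen and index at most four. -/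
theorem k_le_twenty_seven_of_abelian {Y : Type*} [Group Y] [Finite Y] (A : Subgroup Y) [A.Normal]
    (hc : ∀ a ∈ A, ∀ b ∈ A, a * b = b * a)
    (hA : Subgroup.centralizer (A : Set Y) = A) (hodd : ¬ 2 ∣ Nat.card A)
    (ha : Nat.card A ≤ 15) (hidx : A.index ≤ 4) (S : Subgroup Y) : k S ≤ 27 := by
  classical
  have hY : Nat.card Y = Nat.card A * A.index := A.card_mul_index.symm
  have hY60 : Nat.card Y ≤ 60 := by rw [hY]; exact Nat.mul_le_mul ha hidx
  have hS : Nat.card S ≤ Nat.card Y := S.card_le_card_group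
  rcases le_or_gt (Nat.card S) 27 with h | h
  · exact k_le_card.trans h
  by_cases hab : ∀ a b : S, a * b = b * a
  · exfalso
    -- an abelian subgroup meets `A` in a proper subgroup or lies in it
    by_cases hSA : S ≤ A
    · have := Subgroup.card_le_of_le hSA; omega
    obtain ⟨g, hg, hgA⟩ := SetLike.not_le_iff_exists.1 hSA
    have hlt : Nat.card ↥(S ⊓ A) ≤ 5 := by
      set C := A ⊓ Subgroup.centralizer ({g} : Set Y) with hC
      have hle : S ⊓ A ≤ C := fun x hx => ⟨hx.2, Subgroup.mem_centralizer_singleton_iff.2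
        (congrArg Subtype.val (hab ⟨x, hx.1⟩ ⟨g, hg⟩) :)⟩
      have hne : C ≠ A := fun h => hgA (by
        rw [← hA, Subgroup.mem_centralizer_iff]
        intro a ha'
        rw [← h] at ha'
        exact Subgroup.mem_centralizer_singleton_iff.1 ha'.2)
      obtain ⟨j, hj⟩ := Subgroup.card_dvd_of_le (inf_le_left : C ≤ A)
      have hj3 : 3 ≤ j := by
        rcases Nat.lt_or_ge j 2 with hj2 | hj2
        · interval_cases j
          · rw [mul_zero] at hj; exact absurd hj Nat.card_pos.ne'
          · exact absurd (Subgroup.eq_of_le_of_card_ge inf_le_left (by rw [hj, mul_one])) hne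
        · rcases hj2.eq_or_lt with rfl | hj2
          · exact absurd (hj ▸ dvd_mul_left 2 _) hodd
          · exact hj2
      have h1 := Subgroup.card_le_of_le hle
      have h15 : Nat.card C * 3 ≤ 15 := ((Nat.mul_le_mul_left _ hj3).trans hj.ge).trans ha
      omega
    have hmul : Nat.card S = Nat.card ↥(S ⊓ A) * A.relIndex S := by
      have h1 := Subgroup.relIndex_mul_relIndex (⊥ : Subgroup Y) (S ⊓ A) S bot_le inf_le_left
      rw [Subgroup.relIndex_bot_left, Subgroup.relIndex_bot_left, Subgroup.inf_relIndex_left] at h1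
      exact h1.symm
    have : A.relIndex S ≤ 4 := le_trans (Nat.le_of_dvd (Nat.pos_of_ne_zero
      Subgroup.index_ne_zero_of_finite) (Subgroup.relIndex_dvd_index_of_normal A S)) hidx
    have := Nat.mul_le_mul hlt this
    omega
  have h58 := eight_mul_k_le hab
  by_cases htop : S = ⊤
  swap
  · have hidx2 : 2 ≤ S.index := by
      have := Subgroup.index_ne_zero_of_finite (H := S)
      have : S.index ≠ 1 := fun h => htop (Subgroup.index_eq_one.1 h)
      omega
    have := S.card_mul_index
    have : Nat.card S * 2 ≤ Nat.card Y := this ▸ Nat.mul_le_mul_left _ hidx2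
    omega
  subst htop
  rw [k_congr Subgroup.topEquiv] at h58 ⊢
  rw [Subgroup.card_top] at h h58
  have hnab : ¬ ∀ a b : Y, a * b = b * a := fun hh => hab fun a b => Subtype.ext (hh a b)
  haveI := Fintype.ofFinite Y
  set z := Nat.card (Subgroup.center Y) with hz
  have hzA : Subgroup.center Y ≤ A := fun x hx => by
    rw [← hA, Subgroup.mem_centralizer_iff]
    exact fun a _ => Subgroup.mem_center_iff.1 hx a
  have hz5 : 3 * z ≤ Nat.card A := by
    obtain ⟨j, hj⟩ := Subgroup.card_dvd_of_le hzA
    rw [← hz] at hj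
    have hj2 : j ≠ 2 := fun e => hodd ⟨z, by rw [hj, e, mul_comm]⟩
    have hj1 : j ≠ 1 := fun e => hnab fun a b => by
      have heq : Subgroup.center Y = A := Subgroup.eq_of_le_of_card_ge hzA (by rw [hj, e, mul_one])
      have : a ∈ Subgroup.centralizer (A : Set Y) := Subgroup.mem_centralizer_iff.2 fun x hx =>
        (Subgroup.mem_center_iff.1 (heq.ge hx) a).symm
      rw [hA, ← heq, Subgroup.mem_center_iff] at this
      exact (this b).symm
    have hj0 : j ≠ 0 := fun e => Nat.card_pos.ne' (show Nat.card A = 0 by rw [hj, e, mul_zero])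
    rw [hj, mul_comm 3]
    exact Nat.mul_le_mul_left _ (by omega)
  have hc1 : ∀ g : Y, g ∉ A → Nat.card (Subgroup.centralizer ({g} : Set Y)) * 3 ≤ Nat.card Y := by
    intro g hg
    set Cg := Subgroup.centralizer ({g} : Set Y)
    have hne : Cg ⊓ A ≠ A := fun e => hg (by
      rw [← hA, Subgroup.mem_centralizer_iff]
      intro a ha'
      rw [← e] at ha'
      exact Subgroup.mem_centralizer_singleton_iff.1 ha'.1)
    have h3 : 3 ≤ Cg.relIndex A := by
      have h0 : Cg.relIndex A ≠ 0 := Subgroup.index_ne_zero_of_finite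
      have h1 : Cg.relIndex A ≠ 1 := fun e => hne (inf_eq_right.2 (Subgroup.relIndex_eq_one.1 e))
      have h2 : Cg.relIndex A ≠ 2 := fun e => hodd (e ▸ Subgroup.relIndex_dvd_card Cg A)
      omega
    have h4 : Nat.card Cg * Cg.index = Nat.card Y := Cg.card_mul_index
    rw [← h4]
    refine Nat.mul_le_mul_left _ (h3.trans ?_)
    rw [← Subgroup.relIndex_top_right]
    exact Subgroup.relIndex_le_of_le_right le_top (by
      rw [Subgroup.relIndex_top_right]; exact Subgroup.index_ne_zero_of_finite)
  have hsum := k_mul_card_eq_sum (X := Y)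
  -- three kinds of elements
  have hb : ∀ g : Y, Nat.card (Subgroup.centralizer ({g} : Set Y)) ≤
      (if g ∈ Subgroup.center Y then 30 else 0) + (if g ∈ A then 10 else 0) + 20 := by
    intro g
    by_cases hgA : g ∈ A
    · rw [if_pos hgA]
      by_cases hgZ : g ∈ Subgroup.center Y
      · rw [if_pos hgZ]
        exact (Subgroup.card_le_card_group _).trans hY60
      · rw [if_neg hgZ]
        set Cg := Subgroup.centralizer ({g} : Set Y)
        have : Cg.index ≠ 1 := fun e => hgZ (Subgroup.mem_center_iff.2 fun y =>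
          Subgroup.mem_centralizer_singleton_iff.1 (show y ∈ Cg by
            rw [Subgroup.index_eq_one.1 e]; trivial))
        have h0 := Subgroup.index_ne_zero_of_finite (H := Cg)
        have h4 := Cg.card_mul_index
        have : Nat.card Cg * 2 ≤ Nat.card Y := h4 ▸ Nat.mul_le_mul_left _ (by omega)
        omega
    · rw [if_neg hgA]
      have := hc1 g hgA
      omega
  have hle := hsum.le.trans (Finset.sum_le_sum fun g _ => hb g)
  rw [Finset.sum_add_distrib, Finset.sum_add_distrib, Finset.sum_const, Finset.card_univ,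
    ← Nat.card_eq_fintype_card, ← Finset.sum_filter, ← Finset.sum_filter, Finset.sum_const,
    Finset.sum_const, ← Fintype.card_subtype, ← Fintype.card_subtype, ← Nat.card_eq_fintype_card,
    ← Nat.card_eq_fintype_card, smul_eq_mul, smul_eq_mul, smul_eq_mul] at hle
  change k Y * Nat.card Y ≤ z * 30 + Nat.card A * 10 + Nat.card Y * 20 at hle
  rcases le_or_gt (Nat.card Y) 43 with hsmall | hlarge
  · refine Nat.le_of_lt_succ ?_
    omega
  refine Nat.le_of_lt_succ (Nat.lt_of_mul_lt_mul_right (a := Nat.card Y) ?_)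
  show k Y * Nat.card Y < 28 * Nat.card Y
  omega

/-- The facts about a primitive soluble group over the field of two elements. -/
theorem primitive_two {V : Type} [AddCommGroup V] [Module L V] [Finite V]
    (hL : Nat.card L = 2) (Y : Subgroup (V ≃ₗ[L] V)) (hsol : Group.IsSolvable Y) (hirr : Irr Y)
    (hprim : Prim Y) (hr : 2 ≤ finrank L V) :
    ∃ s u : ℕ, finrank L V = s * u ∧ 2 ≤ s ∧
      ∃ A : Subgroup Y, A.Normal ∧ (∀ a ∈ A, ∀ b ∈ A, a * b = b * a) ∧ ¬ 2 ∣ Nat.card A ∧
        Nat.card A < 2 ^ s ∧ (Subgroup.centralizer (A : Set Y)).index ≤ s ∧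
        (Subgroup.centralizer (A : Set Y) = A ∨
          (3 ≤ u ∧ ¬ (∀ a b : Y, a * b = b * a) ∧
            (u = 3 → Nat.card (Subgroup.centralizer (A : Set Y)) ≤ 56 * (9 * Nat.card A)))) := by
  classical
  haveI := hirr.1
  haveI := finite_GL (L := L) (V := V)
  haveI := hsol
  obtain ⟨F⟩ := exists_frame (G := Y) hsol
  haveI := F.A_normal
  haveI := F.E_normal
  obtain ⟨s, u, hs, hu, hdim, hidx, hcard, hsemi, hhom, hsq⟩ :=
    exists_field Y hirr hprim F.A F.A_normal F.A_comm
  rw [hL] at hcard
  haveI : Nontrivial Y := by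
    by_contra hnt
    rw [not_nontrivial_iff_subsingleton] at hnt
    obtain ⟨v, hv⟩ := exists_ne (0 : V)
    rcases hirr.2 (Submodule.span L {v}) (fun g hg w hw => by
      have : g = 1 := congrArg Subtype.val (Subsingleton.elim (⟨g, hg⟩ : Y) 1)
      rw [this]; exact hw) with h | h
    · exact hv (Submodule.span_singleton_eq_bot.1 h)
    · have := finrank_span_singleton (K := L) hv
      rw [h, finrank_top] at this
      omega
  have hodd : ¬ 2 ∣ Nat.card F.A := by
    intro h
    obtain ⟨a, ha⟩ := exists_prime_orderOf_dvd_card' (G := F.A) 2 h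
    have ha1 : a ≠ 1 := fun e => by rw [e, orderOf_one] at ha; omega
    have ha2 : a ^ 2 = 1 := ha ▸ pow_orderOf_eq_one a
    set g : V ≃ₗ[L] V := ((a : Y) : V ≃ₗ[L] V) with hg
    have hfix : ∀ v : V, v ≠ 0 → g v ≠ v := fun v hv e =>
      ha1 (Subtype.ext (hsemi a a.2 v hv e))
    have hg2 : ∀ v, g (g v) = v := fun v => by
      have := congrArg (fun z : F.A => (((z : Y) : V ≃ₗ[L] V)) v) ha2
      simpa [pow_two, hg, LinearEquiv.mul_apply] using this
    obtain ⟨v, hv⟩ := exists_ne (0 : V)
    by_cases hsum : v + g v = 0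
    · refine hfix v hv ?_
      haveI := Fintype.ofFinite L
      haveI : CharP L 2 := charP_of_card_eq_prime (by rwa [Nat.card_eq_fintype_card] at hL)
      have : (2 : L) • v = 0 := by rw [show (2 : L) = 0 from CharTwo.two_eq_zero, zero_smul]
      rw [two_smul] at this
      exact add_left_cancel (hsum.trans this.symm)
    · exact hfix _ hsum (by rw [map_add, hg2, add_comm])
  have hA3 : 3 ≤ Nat.card F.A := by
    have h1 : Nat.card F.A ≠ 1 := fun e => F.A_ne inferInstance (Subgroup.eq_bot_of_card_eq _ e)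
    have h0 : 0 < Nat.card F.A := Nat.card_pos
    rcases Nat.lt_or_ge (Nat.card F.A) 3 with h | h
    · exact absurd ⟨1, by omega⟩ hodd
    · exact h
  refine ⟨s, u, hdim, ?_, F.A, F.A_normal, F.A_comm, hodd, hcard, hidx, ?_⟩
  · by_contra hlt
    interval_cases s
    omega
  rcases F.A_le.eq_or_lt with hEA | hlt
  · left
    refine le_antisymm ?_ (fun a ha => Frame.A_le_cent a ha)
    conv_rhs => rw [hEA, ← inf_cen_eq (F := F) hhom]
    refine le_inf le_rfl fun g _ => mem_cen.2 fun x hx => ?_
    rw [← hEA] at hx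
    exact F.A.mul_mem (F.A_normal.conj_mem x hx g) (F.A.inv_mem hx)
  right
  obtain ⟨t, ht⟩ := exists_sq_relIndex hhom F.A_le le_rfl F.E_nondeg
  obtain ⟨B, q, e, -, -, -, hP⟩ := exists_piece hhom hlt le_rfl
  have htu : t ≤ u := by
    refine (Nat.pow_le_pow_iff_left two_ne_zero).1 ?_
    rw [← ht]
    exact hsq F.E F.A_le F.E_le (fun x hx y hy => F.E_comm y hy x hx) F.E_nondeg
  have hqt : q ^ e ≤ t := by
    refine (Nat.pow_le_pow_iff_left two_ne_zero).1 ?_
    rw [← ht, ← pow_mul, mul_comm, ← hP.relIndex]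
    exact Subgroup.relIndex_le_of_le_right hP.le Subgroup.index_ne_zero_of_finite
  have hq3 : 3 ≤ q := by
    have h2 := hP.prime.two_le
    rcases h2.eq_or_lt with h | h
    · exact absurd (h ▸ hP.dvd) hodd
    · exact h
  have hqe : q ≤ q ^ e := Nat.le_self_pow hP.epos.ne' q
  refine ⟨by omega, fun hab => ?_, fun hu3 => ?_⟩
  · exact hlt.not_ge fun x hx => F.E_nondeg x hx fun y _ => hab x y
  have ht3 : t = 3 := by omega
  subst ht3
  set C := Subgroup.centralizer (F.A : Set Y) with hC
  -- `C` acts on `E / A` with kernel `E`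
  let Eq := F.E.map (QuotientGroup.mk' F.A)
  haveI : Eq.Normal := Subgroup.Normal.map inferInstance _ (QuotientGroup.mk'_surjective _)
  have hEq : Nat.card Eq = 3 ^ 2 := by
    rw [← Subgroup.relIndex_ker F.E (QuotientGroup.mk' F.A), QuotientGroup.ker_mk']
    exact ht
  haveI : Fact (Nat.Prime 3) := ⟨by norm_num⟩
  obtain ⟨T, hT1, hT, hTc⟩ := Perm.exists_generators Nat.prime_three (IsPGroup.of_card hEq)
  rw [hEq] at hTc
  have hT2 : T.card ≤ 2 := (Nat.pow_le_pow_iff_right (by norm_num)).1 hTc
  let Φ : Y →* MulAut Eq := MulAut.conjNormal.comp (QuotientGroup.mk' F.A)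
  have hker : C ⊓ Φ.ker ≤ F.E := by
    rw [← inf_cen_eq (F := F) hhom]
    refine inf_le_inf le_rfl fun g hg => mem_cen.2 fun x hx => ?_
    have h := congrArg Subtype.val
      (DFunLike.congr_fun (MonoidHom.mem_ker.1 hg) ⟨_, x, hx, rfl⟩)
    simp only [Φ, MonoidHom.comp_apply, MulAut.conjNormal_apply, MulAut.one_apply,
      QuotientGroup.mk'_apply] at h
    rw [← QuotientGroup.eq_one_iff]
    simp only [QuotientGroup.mk_mul, QuotientGroup.mk_inv, h]
    group
  let ev : C.map Φ → ({x // x ∈ T} ↪ {m : Eq // m ≠ 1}) := fun f =>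
    { toFun := fun x => ⟨(f : MulAut Eq) x.1, fun h => hT1 (by
        have := congrArg (f : MulAut Eq).symm h
        rw [MulEquiv.symm_apply_apply, map_one] at this
        exact this ▸ x.2)⟩
      inj' := fun x y hxy => Subtype.ext ((f : MulAut Eq).injective (congrArg Subtype.val hxy)) }
  have hev : Function.Injective ev := fun f f' hff => by
    refine Subtype.ext (MulEquiv.ext fun m => ?_)
    have : (⊤ : Subgroup Eq) ≤ MonoidHom.eqLocus (f : MulAut Eq).toMonoidHom
        (f' : MulAut Eq).toMonoidHom := by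
      rw [← hT, Subgroup.closure_le]
      intro x hx
      show (f : MulAut Eq) x = (f' : MulAut Eq) x
      exact (congrArg Subtype.val (DFunLike.congr_fun hff ⟨x, hx⟩) :)
    exact this (Subgroup.mem_top m)
  haveI := Fintype.ofFinite {m : Eq // m ≠ 1}
  have hne8 : Fintype.card {m : Eq // m ≠ 1} = 8 := by
    haveI := Fintype.ofFinite Eq
    rw [Fintype.card_subtype_compl, Fintype.card_subtype_eq, ← Nat.card_eq_fintype_card, hEq]
    norm_num
  have h56 : Nat.card (C.map Φ) ≤ 56 := by
    refine (Nat.card_le_card_of_injective ev hev).trans ?_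
    rw [Nat.card_eq_fintype_card, Fintype.card_embedding_eq, hne8, Fintype.card_coe]
    generalize T.card = i at hT2
    interval_cases i <;> decide
  have hC' : Nat.card C = Nat.card ↥(C ⊓ Φ.ker) * Nat.card (C.map Φ) := by
    have h1 := Subgroup.relIndex_mul_relIndex (⊥ : Subgroup Y) (C ⊓ Φ.ker) C bot_le inf_le_left
    rw [Subgroup.relIndex_bot_left, Subgroup.relIndex_bot_left, Subgroup.inf_relIndex_left,
      Subgroup.relIndex_ker] at h1
    exact h1.symm
  have hEc : Nat.card F.E = 9 * Nat.card F.A := by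
    have h1 := Subgroup.relIndex_mul_relIndex (⊥ : Subgroup Y) F.A F.E bot_le F.A_le
    rw [Subgroup.relIndex_bot_left, Subgroup.relIndex_bot_left, ht] at h1
    rw [← h1]
    ring
  rw [hC', mul_comm 56, ← hEc]
  exact Nat.mul_le_mul (Subgroup.card_le_of_le hker) h56

/-- A bound for the imprimitive case over the field of two elements. -/
theorem imprimitive_two {V : Type} [AddCommGroup V] [Module L V] [Finite V]
    (hL : Nat.card L = 2) (Y : Subgroup (V ≃ₗ[L] V)) (hsol : Group.IsSolvable Y) (hirr : Irr Y)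
    (hprim : ¬ Prim Y) (hr : 2 ≤ finrank L V) (b : ℕ → ℕ)
    (ih : ∀ (W : Submodule L V) (H : Subgroup (W ≃ₗ[L] W)), Group.IsSolvable H → Irr H →
      2 ≤ finrank L W → 2 * finrank L W ≤ finrank L V → ∀ S : Subgroup H, k S ≤ b (finrank L W))
    (S : Subgroup Y) :
    ∃ t m, 2 ≤ t ∧ 2 ≤ m ∧ t * m = finrank L V ∧ k S ≤ b m ^ t * t.factorial := by
  classical
  haveI := finite_GL (L := L) (V := V)
  haveI := hirr.1
  haveI := hsol
  obtain ⟨t, m, D, π, φ, ht, hm, hdim, hrk, hmem, hsum, hφ, hmin⟩ := exists_blocks hirr hprim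
  have hm2 : 2 ≤ m := by
    by_contra hlt
    have hm1 : m = 1 := by omega
    subst hm1
    haveI := Fintype.ofFinite L
    -- the sum of the nonzero vectors of the lines is fixed
    have hline : ∀ i, ∃ d : D i, (d : V) ≠ 0 ∧ ∀ w ∈ D i, w ≠ 0 → w = d := by
      intro i
      have hc : Nat.card (D i) = 2 := by
        rw [Module.natCard_eq_pow_finrank (K := L), hL, hrk, pow_one]
      obtain ⟨d, hd, hu⟩ := (Nat.card_eq_two_iff' (0 : D i)).1 hc
      exact ⟨d, fun h => hd (Subtype.ext h), fun w hw hw0 =>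
        congrArg Subtype.val (hu ⟨w, hw⟩ fun h => hw0 (congrArg Subtype.val h))⟩
    choose d hd0 hdu using hline
    have hfix : ∀ g ∈ Y, g (∑ i, (d i : V)) = ∑ i, (d i : V) := by
      intro g hg
      rw [map_sum]
      refine Fintype.sum_equiv (π ⟨g, hg⟩) _ _ fun i => hdu _ _ (hmem ⟨g, hg⟩ i _ (d i).2) ?_
      exact fun h => hd0 i (g.injective (h.trans (map_zero _).symm))
    set v := ∑ i, (d i : V) with hv
    have hv0 : v ≠ 0 := by
      intro h
      rw [hv, ← hsum, LinearEquiv.map_eq_zero_iff] at h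
      exact hd0 ⟨0, by omega⟩ (congrArg Subtype.val (congrFun h ⟨0, by omega⟩))
    rcases hirr.2 (Submodule.span L {v}) (fun g hg w hw => by
      obtain ⟨c, rfl⟩ := Submodule.mem_span_singleton.1 hw
      rw [map_smul, hfix g hg]; exact hw) with h | h
    · exact hv0 (Submodule.span_singleton_eq_bot.1 h)
    · have := finrank_span_singleton (K := L) hv0
      rw [h, finrank_top] at this
      omega
  refine ⟨t, m, ht, hm2, hdim, ?_⟩
  have hinv : ∀ i : Fin t, ∀ g : (MulAction.stabilizer (Equiv.Perm (Fin t)) i).comap π,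
      ∀ w ∈ D i, ((g : Y) : V ≃ₗ[L] V) w ∈ D i := fun i g w hw => by
    have h1 : π g i = i := g.2
    simpa [h1] using hmem (g : Y) i w hw
  let σ := fun i : Fin t => subRep (Y.subtype.comp ((MulAction.stabilizer (Equiv.Perm (Fin t)) i).comap
    π).subtype) (D i) (hinv i)
  have hD : ∀ i, 2 * finrank L (D i) ≤ finrank L V := fun i => by rw [hrk]; nlinarith
  have hH : ∀ i, ∀ S' : Subgroup (σ i).range, k S' ≤ b m := by
    intro i S'
    haveI : Nontrivial (D i) := by
      rw [← Module.finrank_pos_iff (R := L), hrk]; omega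
    refine hrk i ▸ ih (D i) (σ i).range
      (Group.isSolvable_of_surjective (σ i).rangeRestrict_surjective) (irr_range (σ i) ?_)
      (by rw [hrk]; omega) (hD i) S'
    intro W hW
    rcases hmin i (W.map (D i).subtype) (Submodule.map_subtype_le _ _) (fun g hg w hw => by
        obtain ⟨x, hx, rfl⟩ := hw
        exact ⟨_, hW ⟨g, hg⟩ x hx, rfl⟩) with h | h
    · exact Or.inl (Submodule.map_injective_of_injective (D i).injective_subtype
        (h.trans (Submodule.map_bot _).symm))
    · exact Or.inr (Submodule.map_injective_of_injective (D i).injective_subtype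
        (h.trans (Submodule.map_subtype_top _).symm))
  have hBi : ∀ i : Fin t, π.ker ≤ (MulAction.stabilizer (Equiv.Perm (Fin t)) i).comap π := fun i g hg => by
    rw [Subgroup.mem_comap, MonoidHom.mem_ker.1 hg]; exact one_mem _
  let f : ∀ i, π.ker →* (σ i).range := fun i =>
    (σ i).rangeRestrict.comp (Subgroup.inclusion (hBi i))
  have h1 : k ((S ⊓ π.ker).subgroupOf π.ker) ≤ b m ^ t := by
    refine k_le_pow_of_homs _ f (b m) (fun i S' => hH i _) _ fun x _ hx => ?_
    refine Subtype.ext (Subtype.ext (LinearEquiv.ext fun v => φ.injective (funext fun i => ?_)))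
    refine Subtype.ext ((hφ (x : Y) x.2 v i).trans ?_)
    exact (congrArg (fun z : (σ i).range => (((z : (D i ≃ₗ[L] D i))) (φ v i) : V)) (hx i) :)
  have h2 := k_map_le_mul S (MonoidHom.id Y) π (MonoidHom.id Y) fun x _ =>
    ⟨fun hx => ⟨by rw [show x = 1 from hx, map_one], hx⟩, fun hx => hx.2⟩
  rw [Subgroup.map_id, Subgroup.map_id,
    ← k_congr (Subgroup.subgroupOfEquivOfLe (inf_le_right : S ⊓ π.ker ≤ π.ker))] at h2
  refine h2.trans (Nat.mul_le_mul h1 (k_le_card.trans ((Subgroup.card_le_card_group _).trans_eq ?_)))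
  rw [Nat.card_perm, Nat.card_eq_fintype_card, Fintype.card_fin]

/-- Class numbers of subgroups of soluble irreducible groups of degree at most six over the
field of two elements. -/
theorem k_two_bound {V : Type} [AddCommGroup V] [Module L V] [Finite V]
    (hL : Nat.card L = 2) (Y : Subgroup (V ≃ₗ[L] V)) (hsol : Group.IsSolvable Y) (hirr : Irr Y)
    (S : Subgroup Y) :
    (finrank L V = 2 → k S ≤ 3) ∧ (finrank L V = 3 → k S ≤ 21) ∧
      (finrank L V = 4 → k S ≤ 27) ∧ (finrank L V = 6 → k S ≤ 2187) := by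
  classical
  haveI := finite_GL (L := L) (V := V)
  induction hn : finrank L V using Nat.strong_induction_on generalizing V with
  | _ r ih =>
  have two : ∀ (W : Type) [AddCommGroup W] [Module L W] [Finite W], finrank L W = 2 →
      ∀ H : Subgroup (W ≃ₗ[L] W), ∀ S : Subgroup H, k S ≤ 3 := fun W _ _ _ h H S => by
    have := k_dim_two h (S.map H.subtype)
    rw [k_map_injective S H.subtype H.subtype_injective, hL] at this
    omega
  refine ⟨fun h => two V (hn.trans h) Y S, ?_⟩
  by_cases hr : r = 3 ∨ r = 4 ∨ r = 6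
  swap
  · exact ⟨fun h => absurd (Or.inl h) hr, fun h => absurd (Or.inr (Or.inl h)) hr,
      fun h => absurd (Or.inr (Or.inr h)) hr⟩
  by_cases hprim : Prim Y
  · obtain ⟨s, u, hdim, hs2, A, hAn, hAc, hodd, hA, hidx, hcase⟩ :=
      primitive_two hL Y hsol hirr hprim (by omega)
    rw [hn] at hdim
    haveI := hAn
    set C := Subgroup.centralizer (A : Set Y) with hC
    have hY : Nat.card Y = Nat.card C * C.index := C.card_mul_index.symm
    have hS := (k_le_card (X := S)).trans S.card_le_card_group
    have hs6 : s ≤ 6 := by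
      rcases Nat.eq_zero_or_pos u with rfl | hu
      · omega
      · have : s ≤ s * u := Nat.le_mul_of_pos_right _ hu
        omega
    rcases hr with rfl | rfl | rfl <;> refine ⟨?_, ?_, ?_⟩ <;> intro h <;> try omega
    · have hs : s = 3 ∧ u = 1 := by
        interval_cases s <;> omega
      obtain ⟨rfl, rfl⟩ := hs
      rcases hcase with hCA | ⟨h3, -⟩
      · rw [hY, hCA] at hS
        rw [hCA] at hidx
        have := Nat.mul_le_mul (show Nat.card A ≤ 7 by omega) hidx
        omega
      · omega
    · have hs : (s = 2 ∧ u = 2) ∨ (s = 4 ∧ u = 1) := by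
        interval_cases s <;> omega
      rcases hcase with hCA | ⟨h3, -⟩
      · rw [hCA] at hidx
        exact k_le_twenty_seven_of_abelian A hAc hCA hodd
          (by rcases hs with ⟨rfl, -⟩ | ⟨rfl, -⟩ <;> norm_num at hA <;> omega)
          (by rcases hs with ⟨rfl, -⟩ | ⟨rfl, -⟩ <;> omega) S
      · omega
    · have hs : (s = 2 ∧ u = 3) ∨ (s = 3 ∧ u = 2) ∨ (s = 6 ∧ u = 1) := by
        interval_cases s <;> omega
      rcases hcase with hCA | ⟨h3, hnab, hC3⟩
      · rw [hY, hCA] at hS
        rw [hCA] at hidx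
        have h64 : (2 : ℕ) ^ s ≤ 2 ^ 6 := Nat.pow_le_pow_right (by norm_num) hs6
        have := Nat.mul_le_mul (show Nat.card A ≤ 63 by omega) (hidx.trans hs6)
        omega
      · obtain ⟨rfl, rfl⟩ : s = 2 ∧ u = 3 := by omega
        have hC' := hC3 rfl
        have hY' : Nat.card Y ≤ 3024 := by
          rw [hY]
          have := Nat.mul_le_mul hC' hidx
          norm_num at hA
          omega
        by_cases hab : ∀ a b : S, a * b = b * a
        · have hne : S ≠ ⊤ := by
            rintro rfl
            exact hnab fun a b =>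
              congrArg Subtype.val (hab ⟨a, Subgroup.mem_top a⟩ ⟨b, Subgroup.mem_top b⟩)
          have hi : 2 ≤ S.index := by
            have := Subgroup.index_ne_zero_of_finite (H := S)
            have : S.index ≠ 1 := fun e => hne (Subgroup.index_eq_one.1 e)
            omega
          have : Nat.card S * 2 ≤ Nat.card Y := S.card_mul_index ▸ Nat.mul_le_mul_left _ hi
          have := k_le_card (X := S)
          omega
        · have := eight_mul_k_le hab
          have := S.card_le_card_group
          omega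
  · let b : ℕ → ℕ := fun m => if m = 2 then 3 else 21
    obtain ⟨t, m, ht, hm, htm, hk⟩ := imprimitive_two hL Y hsol hirr hprim (by omega) b
      (fun W H hH hHi h2 hlt S => by
        haveI := finite_GL (L := L) (V := W)
        rw [hn] at hlt
        obtain ⟨i2, i3, -⟩ := ih (finrank L W) (by omega) H hH hHi S inferInstance rfl
        simp only [b]
        by_cases hW2 : finrank L W = 2
        · rw [if_pos hW2]; exact i2 hW2
        · rw [if_neg hW2]
          exact i3 (by omega)) S
    rw [hn] at htm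
    have hcases : (t = 2 ∧ m = 2) ∨ (t = 2 ∧ m = 3) ∨ (t = 3 ∧ m = 2) := by
      have h6 : t * m ≤ 6 := by omega
      have : t ≤ 3 := by nlinarith [h6]
      have : m ≤ 3 := by nlinarith [h6]
      interval_cases t <;> interval_cases m <;> omega
    rcases hcases with ⟨rfl, rfl⟩ | ⟨rfl, rfl⟩ | ⟨rfl, rfl⟩ <;>
      simp [b, Nat.factorial] at hk <;> refine ⟨?_, ?_, ?_⟩ <;> intro h <;> omega

end

end Cfsg.Agent.Lib.SolvClass
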